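/-
Finite facts on the involutions of the four-dimensional unitary group: two classes, the centraliser of one
of the second, and two lifts for each displacement of one of the first.
-/
import Cfsg.Agent.Lib.SixTwoType.Group
import Cfsg.Agent.Lib.U42Act.Ident

set_option autoImplicit false
set_option maxRecDepth 100000

namespace CfsgLib.FiTwoType

open U6Rec (app comp one st elt qf)
open CfsgLib.U42Act (qW bq)
open CfsgLib.SixTwoType (psi)

/-- A root involution. -/
def T1 : ℕ := st 66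

/-- An involution of the other class. -/
def T2 : ℕ := st 3

/-- Conjugating elements. -/
def clsL : List (ℕ × ℕ) := [
    (0, 0), (3, 14), (0, 0), (0, 0), (0, 0), (0, 0), (0, 0), (0, 0), (0, 0), (0, 0), (0, 0), (0, 0),
    (0, 0), (0, 0), (0, 0), (0, 0), (0, 0), (0, 0), (0, 0), (0, 0), (0, 0), (0, 0), (0, 0), (0, 0),
    (0, 0), (0, 0), (0, 0), (0, 0), (0, 0), (0, 13), (0, 0), (3, 2), (0, 0), (0, 0), (0, 0), (0, 0),
    (0, 0), (0, 0), (0, 0), (0, 0), (0, 0), (0, 9), (0, 0), (3, 6), (0, 0), (0, 0), (0, 0), (0, 0),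
    (0, 0), (0, 0), (0, 0), (0, 0), (0, 0), (0, 5), (0, 0), (3, 10), (0, 0), (0, 0), (0, 0), (0, 0),
    (0, 0), (0, 0), (0, 0), (0, 0), (0, 0), (3, 80), (0, 0), (0, 128), (46, 0), (0, 176), (46, 80), (3, 96),
    (44, 80), (0, 160), (44, 0), (3, 112), (45, 128), (0, 144), (45, 160), (3, 0), (45, 2), (0, 0), (45, 6), (0, 0),
    (0, 0), (0, 0), (0, 0), (0, 0), (0, 0), (0, 0), (0, 0), (0, 0), (45, 0), (0, 0), (45, 5), (0, 0),
    (44, 5), (0, 0), (44, 1), (0, 0), (0, 0), (0, 0), (0, 0), (0, 0), (44, 6), (0, 0), (44, 2), (0, 0),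
    (0, 0), (0, 0), (0, 0), (0, 0), (46, 1), (0, 0), (46, 9), (0, 0), (46, 2), (0, 0), (46, 10), (0, 0),
    (0, 0), (0, 0), (0, 0), (0, 0), (0, 0), (0, 0), (0, 0), (0, 0), (3, 13), (0, 0), (0, 2), (0, 0),
    (0, 0), (0, 0), (0, 0), (0, 0), (0, 0), (0, 0), (0, 0), (0, 0), (0, 0), (0, 0), (0, 0), (0, 0),
    (0, 14), (0, 0), (3, 1), (0, 0), (0, 0), (0, 0), (0, 0), (0, 0), (0, 0), (0, 0), (0, 0), (0, 0),
    (0, 0), (0, 0), (0, 0), (0, 0), (0, 10), (0, 0), (3, 5), (0, 0), (0, 0), (0, 0), (0, 0), (0, 0),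
    (0, 0), (0, 0), (0, 0), (0, 0), (0, 0), (0, 0), (0, 0), (0, 0), (0, 6), (0, 0), (3, 9), (0, 0),
    (0, 0), (0, 0), (0, 0), (0, 0), (0, 0), (0, 0), (0, 0), (0, 0), (0, 0), (0, 0), (0, 0), (0, 0)]

/-- The centraliser of the second involution. -/
def c2L : List (ℕ × ℕ) := [
    (0, 0), (0, 1), (0, 3), (0, 29), (0, 31), (0, 41), (0, 43), (0, 53), (0, 55), (0, 66), (0, 92), (0, 94),
    (0, 104), (0, 106), (0, 116), (0, 118), (1, 6), (1, 8), (1, 22), (1, 24), (1, 38), (1, 40), (1, 54), (1, 56),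
    (1, 132), (1, 134), (1, 152), (1, 154), (1, 172), (1, 174), (1, 176), (1, 178), (2, 69), (2, 71), (2, 85), (2, 87),
    (2, 101), (2, 103), (2, 117), (2, 119), (2, 133), (2, 135), (2, 149), (2, 151), (2, 165), (2, 167), (2, 181), (2, 183),
    (43, 77), (43, 79), (43, 93), (43, 95), (43, 109), (43, 111), (43, 125), (43, 127), (43, 141), (43, 143), (43, 157), (43, 159),
    (43, 173), (43, 175), (43, 189), (43, 191), (75, 0), (75, 1), (75, 3), (75, 29), (75, 31), (75, 41), (75, 43), (75, 53),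
    (75, 55), (75, 66), (75, 92), (75, 94), (75, 104), (75, 106), (75, 116), (75, 118), (107, 6), (107, 8), (107, 22), (107, 24),
    (107, 38), (107, 40), (107, 54), (107, 56), (107, 132), (107, 134), (107, 152), (107, 154), (107, 172), (107, 174), (107, 176), (107, 178)]

/-- The fourth power. -/
def pow4 (g : ℕ) : ℕ := comp (comp g g) (comp g g)

/-- The fixed vectors of a map. -/
def fixL (g : ℕ) : List ℕ := (List.range 256).filter fun v => Nat.beq (app g v) v

/-- The displacements of a map. -/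
def dispL (g : ℕ) : List ℕ := (List.range 256).map fun v => app g v ^^^ v

theorem cls_ok : ((List.range 192).all fun i => !Nat.beq (comp (st i) (st i)) one || Nat.beq (st i) one ||
    (let p := clsL.getD i (0, 0)
     Nat.blt p.1 135 && Nat.blt p.2 192 && (Nat.beq (comp (elt p) (st i)) (comp T1 (elt p)) ||
       Nat.beq (comp (elt p) (st i)) (comp T2 (elt p))))) = true := by decide +kernel

theorem c2_size : (c2L.all fun p => Nat.blt p.1 135 && Nat.blt p.2 192 &&
    Nat.beq (comp (elt p) T2) (comp T2 (elt p))) = true := by decide +kernel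

theorem c2_all : ((List.range 135).all fun i => !Nat.beq (app T2 (app (U6Rec.rep i) 1)) (app (U6Rec.rep i) 1) ||
    (List.range 192).all fun j => !Nat.beq (comp (elt (i, j)) T2) (comp T2 (elt (i, j))) ||
      (c2L.map elt).elem (elt (i, j))) = true := by decide +kernel

theorem T_basic : app T2 1 = 1 ∧ comp T1 T1 = one ∧ comp T2 T2 = one ∧ T1 ≠ one ∧ T2 ≠ one := by decide +kernel

/-- The survivors of the fourth powers: two root involutions and an element without fixed vector. -/
theorem ten_ok : ((c2L.map elt).all fun u => !Nat.beq (comp u u) one || Nat.beq u one || Nat.beq u T2 ||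
    ((c2L.map elt).any fun s => !Nat.beq (comp (pow4 s) u) (comp u (pow4 s))) ||
    (Nat.beq (fixL u).length 64 && Nat.beq (fixL (comp T2 u)).length 64 &&
      (c2L.map elt).any fun s => Nat.beq (comp (pow4 s) u) (comp u (pow4 s)) &&
        Nat.beq (fixL (pow4 s)).length 1)) = true := by decide +kernel

theorem ten_fix : (fixL T2).length = 16 ∧ ((fixL T2).all fun v => (dispL T2).elem v) = true := by decide +kernel

/-- The conditions on a root involution in a model. -/
def rootOK (φ : ℕ → ℕ) (q : ℕ → ℕ) (w : List (ℕ × (ℕ × ℕ) × (ℕ × ℕ))) : Bool :=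
  let t := φ T1
  let F := fixL t
  let M := dispL t
  Nat.ble F.length 64 &&
  ((List.range 256).all fun v => !(F.all fun u => Nat.beq (bq q v u) 0) || Nat.beq v 0 ||
    w.any fun e => Nat.beq e.1 v) &&
  w.all fun e =>
    let r := elt e.2.1
    let s := elt e.2.2
    let s' := φ s
    let r4 := φ (pow4 r)
    Nat.blt e.2.1.1 135 && Nat.blt e.2.1.2 192 && Nat.blt e.2.2.1 135 && Nat.blt e.2.2.2 192 &&
    Nat.beq (app (φ r) e.1) e.1 && Nat.beq (comp s T1) (comp T1 s) &&
    Nat.beq (comp s (pow4 r)) (comp (pow4 r) s) && !Nat.beq (app (φ (pow4 s)) e.1) e.1 &&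
    F.all fun v => !M.elem (app r4 v ^^^ v) || M.elem (app s' v ^^^ v)

/-- The condition on the other involution in a model. -/
def otherOK (φ : ℕ → ℕ) (q : ℕ → ℕ) : Bool :=
  let t := φ T2
  Nat.blt (fixL t).length 64 || (Nat.ble (fixL t).length 64 && (dispL t).any fun v => Nat.beq (q v) 1)

/-- The certificates in the natural coordinates. -/
def wNat : List (ℕ × (ℕ × ℕ) × (ℕ × ℕ)) := [(1, (0, 2), (1, 38)), (2, (0, 2), (1, 38)), (3, (0, 2), (1, 38))]

/-- The certificates in the six plus two coordinates. -/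
def wSix : List (ℕ × (ℕ × ℕ) × (ℕ × ℕ)) := [(5, (0, 0), (0, 2)), (10, (0, 0), (0, 2)), (15, (0, 0), (0, 2))]

theorem root_nat : rootOK id qf wNat = true := by decide +kernel

theorem other_nat : otherOK id qf = true := by decide +kernel

theorem root_six : rootOK psi (qW 0) wSix = true ∧ rootOK psi (qW 1) wSix = true := by decide +kernel

theorem other_six : otherOK psi (qW 0) = true ∧ otherOK psi (qW 1) = true := by decide +kernel

/-- Each unit vector as a sum of displacements of generators. -/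
def spanL : List (List (ℕ × ℕ)) :=
  [[(0, 1), (1, 2), (1, 3), (2, 0), (3, 0), (3, 1)], [(0, 0), (0, 1), (1, 2), (2, 1), (3, 0)],
    [(1, 2), (1, 3), (2, 0), (3, 0)], [(1, 2), (2, 1), (3, 1)], [(0, 0), (0, 1), (2, 0), (2, 1), (3, 0)],
    [(0, 0), (2, 0), (3, 1)], [(0, 0), (1, 2), (1, 3), (2, 0), (2, 1), (3, 1)], [(0, 1), (1, 2), (2, 0), (3, 0), (3, 1)]]

theorem span_nat : ∀ i < 8, (∀ p ∈ spanL.getD i [], p.1 < 5 ∧ p.2 < 8) ∧
    (spanL.getD i []).foldr (fun p a => app (U6Rec.gen p.1) (1 <<< p.2) ^^^ (1 <<< p.2) ^^^ a) 0 = 1 <<< i := by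
  decide +kernel

theorem gen_one : ∀ k < 5, comp (U6Rec.gen k) one = U6Rec.gen k := by decide +kernel

end CfsgLib.FiTwoType
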