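/-
An involution whose centraliser has as core a group of order two times an extraspecial group of order two to
the nine: elementary facts.
-/
import Mathlib.GroupTheory.Index
import Mathlib.GroupTheory.Perm.Cycle.Type
import Mathlib.GroupTheory.Subgroup.Simple
import Mathlib.Tactic.Group
import Cfsg.Agent.Lib.Basic

set_option autoImplicit false
set_option linter.unusedVariables false
set_option linter.unusedSectionVars false
set_option linter.style.haveILetI false

namespace CfsgLib.FiTwoType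

/-- The hypotheses. -/
structure Base (G : Type*) [Group G] (X : Type*) [Group X] where
  z : G
  d : G
  zz : z * z = 1
  dd : d * d = 1
  z1 : z ≠ 1
  d1 : d ≠ 1
  dne : d ≠ z
  J : Subgroup G
  zJ : z ∈ J
  dJ : d ∈ J
  Jz : ∀ j ∈ J, Commute j z
  Jd : ∀ j ∈ J, Commute j d
  conjJ : ∀ h, Commute h z → ∀ j ∈ J, h * j * h⁻¹ ∈ J
  card : Nat.card J = 1024
  centre : ∀ m ∈ J, (∀ j ∈ J, Commute m j) → m = 1 ∨ m = z ∨ m = d ∨ m = d * z
  comm2 : ∀ a ∈ J, ∀ b ∈ J, Commute a b ∨ a * b = z * (b * a)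
  sq2 : ∀ j ∈ J, j * j = 1 ∨ j * j = z
  selfcent : ∀ h, Commute h z → (∀ j ∈ J, Commute h j) → h ∈ J
  π : ↥(Subgroup.centralizer ({z} : Set G)) →* X
  hπ : Function.Surjective π
  hk : ∀ h, π h = 1 ↔ (h : G) ∈ J
  N : Subgroup X
  hN : N.index = 2
  Nsimple : IsSimpleGroup ↥N
  cardN : Nat.card N = 25920
  hcent : ∀ x : X, (∀ n ∈ N, x * n = n * x) → x = 1

namespace Base

variable {G : Type*} [Group G] {X : Type*} [Group X] (B : Base G X)

/-- The centre of the core. -/
def Z (g : G) : Prop := g = 1 ∨ g = B.z ∨ g = B.d ∨ g = B.d * B.z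

theorem mem_C {h : G} : h ∈ Subgroup.centralizer ({B.z} : Set G) ↔ Commute h B.z :=
  Subgroup.mem_centralizer_singleton_iff

theorem dz_comm : Commute B.d B.z := B.Jz _ B.dJ

theorem z_inv : B.z⁻¹ = B.z := inv_eq_of_mul_eq_one_right B.zz

theorem d_inv : B.d⁻¹ = B.d := inv_eq_of_mul_eq_one_right B.dd

theorem dz_sq : B.d * B.z * (B.d * B.z) = 1 := by
  rw [B.dz_comm.symm.mul_mul_mul_comm, B.dd, B.zz, mul_one]

theorem dz1 : B.d * B.z ≠ 1 := fun e => B.dne (by
  calc B.d = B.d * B.z * B.z := by rw [mul_assoc, B.zz, mul_one]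
    _ = B.z := by rw [e, one_mul])

theorem dz_ne_z : B.d * B.z ≠ B.z := fun e => B.d1 (mul_eq_right.mp e)

theorem dz_ne_d : B.d * B.z ≠ B.d := fun e => B.z1 (mul_eq_left.mp e)

theorem Z_one : B.Z 1 := Or.inl rfl
theorem Z_z : B.Z B.z := Or.inr (Or.inl rfl)
theorem Z_d : B.Z B.d := Or.inr (Or.inr (Or.inl rfl))
theorem Z_dz : B.Z (B.d * B.z) := Or.inr (Or.inr (Or.inr rfl))

theorem Z_J {g : G} (h : B.Z g) : g ∈ B.J := by
  rcases h with rfl | rfl | rfl | rfl
  exacts [one_mem _, B.zJ, B.dJ, mul_mem B.dJ B.zJ]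

theorem Z_comm {g : G} (h : B.Z g) {j : G} (hj : j ∈ B.J) : Commute g j := by
  rcases h with rfl | rfl | rfl | rfl
  exacts [Commute.one_left _, (B.Jz j hj).symm, (B.Jd j hj).symm, (B.Jd j hj).symm.mul_left (B.Jz j hj).symm]

theorem Z_mul {a b : G} (ha : B.Z a) (hb : B.Z b) : B.Z (a * b) :=
  B.centre _ (mul_mem (B.Z_J ha) (B.Z_J hb)) fun j hj => (B.Z_comm ha hj).mul_left (B.Z_comm hb hj)

theorem Z_inv {a : G} (ha : B.Z a) : B.Z a⁻¹ :=
  B.centre _ (inv_mem (B.Z_J ha)) fun j hj => (B.Z_comm ha hj).inv_left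

theorem Z_sq {a : G} (ha : B.Z a) : a * a = 1 := by
  rcases ha with rfl | rfl | rfl | rfl
  exacts [one_mul 1, B.zz, B.dd, B.dz_sq]

theorem Z_conj {h a : G} (hh : Commute h B.z) (ha : B.Z a) : B.Z (h * a * h⁻¹) := by
  refine B.centre _ (B.conjJ h hh a (B.Z_J ha)) fun j hj => ?_
  have hj' : h⁻¹ * j * h ∈ B.J := by simpa using B.conjJ _ hh.inv_left j hj
  have := (B.Z_comm ha hj').map (MulAut.conj h).toMonoidHom
  simpa [mul_assoc] using this

theorem dperm {h : G} (hh : Commute h B.z) : h * B.d * h⁻¹ = B.d ∨ h * B.d * h⁻¹ = B.d * B.z := by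
  rcases B.Z_conj hh B.Z_d with e | e | e | e
  · exact absurd (conj_eq_one_iff.mp e) B.d1
  · refine absurd (?_ : B.d = B.z) B.dne
    calc B.d = h⁻¹ * (h * B.d * h⁻¹) * h := by group
      _ = B.z := by rw [e, mul_assoc, ← hh.eq, inv_mul_cancel_left]
  · exact Or.inl e
  · exact Or.inr e

theorem noncomm {m : G} (hm : m ∈ B.J) (hZ : ¬ B.Z m) : ∃ j ∈ B.J, ¬ Commute m j := by
  by_contra h
  push Not at h
  exact hZ (B.centre m hm h)

/-- The product of two elements not commuting with a third one commutes with it. -/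
theorem both {a b j : G} (ha : a ∈ B.J) (hb : b ∈ B.J) (hj : j ∈ B.J) (h1 : ¬ Commute a j) (h2 : ¬ Commute b j) :
    Commute (a * b) j := by
  have e1 := (B.comm2 a ha j hj).resolve_left h1
  have e2 := (B.comm2 b hb j hj).resolve_left h2
  show a * b * j = j * (a * b)
  calc a * b * j = a * (b * j) := mul_assoc _ _ _
    _ = a * B.z * (j * b) := by rw [e2, ← mul_assoc]
    _ = B.z * (a * j) * b := by rw [(B.Jz a ha).eq]; group
    _ = B.z * B.z * (j * a * b) := by rw [e1]; group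
    _ = j * (a * b) := by rw [B.zz, one_mul, mul_assoc]

/-- The centraliser of the centraliser of a non-central element. -/
theorem cc {x m : G} (hx : x ∈ B.J) (hxZ : ¬ B.Z x) (hm : m ∈ B.J)
    (h : ∀ j ∈ B.J, Commute j x → Commute m j) : B.Z m ∨ B.Z (m * x) := by
  obtain ⟨j0, hj0, h0⟩ := B.noncomm hx hxZ
  have key : ∀ n ∈ B.J, (∀ j ∈ B.J, Commute j x → Commute n j) → Commute n j0 → B.Z n := fun n hn hc hc0 =>
    B.centre n hn fun j hj => by
      by_cases hjx : Commute j x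
      · exact hc j hj hjx
      · have h1 : Commute (j0 * j) x := B.both hj0 hj hx (fun h' => h0 h'.symm) hjx
        have h2 := hc0.inv_right.mul_right (hc _ (mul_mem hj0 hj) h1)
        rwa [inv_mul_cancel_left] at h2
  by_cases hm0 : Commute m j0
  · exact Or.inl (key m hm h hm0)
  · exact Or.inr (key _ (mul_mem hm hx) (fun j hj hjx => (h j hj hjx).mul_left hjx.symm) (B.both hm hx hj0 hm0 h0))

/-- The centraliser in the core of a non-central element is not abelian. -/
theorem nonab [Finite G] {x : G} (hx : x ∈ B.J) (hxZ : ¬ B.Z x) :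
    ∃ u ∈ B.J, ∃ v ∈ B.J, Commute u x ∧ Commute v x ∧ u * v = B.z * (v * u) := by
  classical
  by_contra hno
  push Not at hno
  have hab : ∀ u ∈ B.J, Commute u x → ∀ v ∈ B.J, Commute v x → Commute u v := fun u hu hux v hv hvx =>
    (B.comm2 u hu v hv).resolve_right (hno u hu v hv hux hvx)
  obtain ⟨j0, hj0, h0⟩ := B.noncomm hx hxZ
  let S : Finset G := {1, B.z, B.d, B.d * B.z}
  let T : Finset G := (S ∪ S.image (· * x⁻¹)) ∪ (S ∪ S.image (· * x⁻¹)).image (j0 * ·)
  have memS : ∀ {m}, B.Z m → m ∈ S := fun h => by simpa [S, Z] using h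
  have mem1 : ∀ u ∈ B.J, Commute u x → u ∈ S ∪ S.image (· * x⁻¹) := fun u hu hux => by
    rcases B.cc hx hxZ hu fun j hj hjx => hab u hu hux j hj hjx with h | h
    · exact Finset.mem_union_left _ (memS h)
    · exact Finset.mem_union_right _ (Finset.mem_image.mpr ⟨_, memS h, by group⟩)
  have sub : ∀ u : ↥B.J, (u : G) ∈ T := fun u => by
    by_cases hux : Commute (u : G) x
    · exact Finset.mem_union_left _ (mem1 u u.2 hux)
    · refine Finset.mem_union_right _ (Finset.mem_image.mpr ⟨j0⁻¹ * u, mem1 _ (mul_mem (inv_mem hj0) u.2) ?_, by group⟩)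
      exact B.both (inv_mem hj0) u.2 hx (fun h' => h0 ((by simpa using h'.inv_left : Commute j0 x).symm)) hux
  have hS : S.card ≤ 4 := Finset.card_le_four
  have hc : Nat.card B.J ≤ T.card := by
    rw [← Nat.card_eq_finsetCard]
    exact Nat.card_le_card_of_injective (fun u => (⟨u, sub u⟩ : T)) fun a b e => Subtype.ext (congrArg (fun w : T => w.1) e)
  have h1 : (S ∪ S.image (· * x⁻¹)).card ≤ 8 :=
    (Finset.card_union_le _ _).trans (by have := Finset.card_image_le (s := S) (f := (· * x⁻¹)); omega)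
  have h2 : T.card ≤ 16 :=
    (Finset.card_union_le _ _).trans (by have := Finset.card_image_le (s := S ∪ S.image (· * x⁻¹)) (f := (j0 * ·)); omega)
  rw [B.card] at hc
  omega

/-- The elements of the centraliser acting in the subgroup of index two. -/
def In (h : G) : Prop := ∃ hh : h ∈ Subgroup.centralizer ({B.z} : Set G), B.π ⟨h, hh⟩ ∈ B.N

theorem normalN : B.N.Normal := Subgroup.normal_of_index_eq_two B.hN

theorem In_comm {h : G} (hh : B.In h) : Commute h B.z := B.mem_C.mp hh.1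

theorem π_J {j : G} (hj : j ∈ B.J) (hh : j ∈ Subgroup.centralizer ({B.z} : Set G)) : B.π ⟨j, hh⟩ = 1 :=
  (B.hk _).mpr hj

theorem In_J {j : G} (hj : j ∈ B.J) : B.In j :=
  ⟨B.mem_C.mpr (B.Jz j hj), by rw [B.π_J hj]; exact one_mem _⟩

theorem In_mul {a b : G} (ha : B.In a) (hb : B.In b) : B.In (a * b) := by
  obtain ⟨ha, pa⟩ := ha
  obtain ⟨hb, pb⟩ := hb
  exact ⟨mul_mem ha hb, show B.π (⟨a, ha⟩ * ⟨b, hb⟩) ∈ B.N by rw [map_mul]; exact mul_mem pa pb⟩

theorem In_inv {a : G} (ha : B.In a) : B.In a⁻¹ := by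
  obtain ⟨ha, pa⟩ := ha
  exact ⟨inv_mem ha, show B.π (⟨a, ha⟩⁻¹) ∈ B.N by rw [map_inv]; exact inv_mem pa⟩

theorem In_conj {a h : G} (ha : B.In a) (hh : Commute h B.z) : B.In (h * a * h⁻¹) := by
  obtain ⟨ha, pa⟩ := ha
  have hh' := B.mem_C.mpr hh
  refine ⟨mul_mem (mul_mem hh' ha) (inv_mem hh'), ?_⟩
  show B.π (⟨h, hh'⟩ * ⟨a, ha⟩ * ⟨h, hh'⟩⁻¹) ∈ B.N
  rw [map_mul, map_mul, map_inv]
  exact B.normalN.conj_mem _ pa _

/-- The product of two elements of the centraliser outside the subgroup of index two lies in it. -/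
theorem In_two {a b : G} (ha : Commute a B.z) (hb : Commute b B.z) (na : ¬ B.In a) (nb : ¬ B.In b) : B.In (a * b) := by
  refine ⟨mul_mem (B.mem_C.mpr ha) (B.mem_C.mpr hb), ?_⟩
  show B.π (⟨a, B.mem_C.mpr ha⟩ * ⟨b, B.mem_C.mpr hb⟩) ∈ B.N
  rw [map_mul, Subgroup.mul_mem_iff_of_index_two B.hN]
  exact iff_of_false (fun h => na ⟨_, h⟩) fun h => nb ⟨_, h⟩

theorem In_sq {a : G} (ha : Commute a B.z) : B.In (a * a) := by
  by_cases h : B.In a
  · exact B.In_mul h h
  · exact B.In_two ha ha h h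

theorem exists_outer : ∃ h, Commute h B.z ∧ ¬ B.In h := by
  by_contra hall
  push Not at hall
  have hi := B.hN
  rw [show B.N = ⊤ from eq_top_iff.mpr fun x _ => by
    obtain ⟨h, rfl⟩ := B.hπ x
    exact (hall h.1 (B.mem_C.mp h.2)).2, Subgroup.index_top] at hi
  norm_num at hi

theorem In_lift {x : X} (hx : x ∈ B.N) : ∃ h, B.In h ∧ ∀ hh, B.π ⟨h, hh⟩ = x := by
  obtain ⟨h, rfl⟩ := B.hπ x
  exact ⟨h.1, ⟨h.2, hx⟩, fun _ => rfl⟩

/-- The subgroup of index two fixes the second involution. -/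
theorem In_d {h : G} (hh : B.In h) : Commute h B.d := by
  classical
  obtain ⟨hC, hp⟩ := hh
  let Cd : Subgroup ↥(Subgroup.centralizer ({B.z} : Set G)) :=
    (Subgroup.centralizer ({B.d} : Set G)).subgroupOf _
  have sq : ∀ k, k * k ∈ Cd := fun k => by
    refine Subgroup.mem_subgroupOf.mpr (Subgroup.mem_centralizer_singleton_iff.mpr ?_)
    have kz := B.mem_C.mp k.2
    show (k : G) * k * B.d = B.d * ((k : G) * k)
    have e2 : (k : G) * (k * B.d * (k : G)⁻¹) * (k : G)⁻¹ = B.d := by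
      rcases B.dperm kz with e | e
      · rw [e, e]
      · rw [e, show (k : G) * (B.d * B.z) * (k : G)⁻¹ = k * B.d * (k : G)⁻¹ * (k * B.z * (k : G)⁻¹) by group, e,
          kz.eq, mul_inv_cancel_right, mul_assoc, B.zz, mul_one]
    calc (k : G) * k * B.d = (k : G) * (k * B.d * (k : G)⁻¹) * (k : G)⁻¹ * (k * k) := by group
      _ = _ := by rw [e2]
  set M := (Cd.map B.π).subgroupOf B.N with hM
  haveI := B.Nsimple
  have msq : ∀ n : ↥B.N, n * n ∈ M := fun n => by
    obtain ⟨k, hk⟩ := B.hπ n.1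
    exact Subgroup.mem_subgroupOf.mpr ⟨k * k, sq k, by rw [map_mul, hk]; rfl⟩
  have hMn : M.Normal := by
    refine ⟨fun m hm n => ?_⟩
    have e : n * m * n⁻¹ = (n * m) * (n * m) * (m⁻¹ * (n⁻¹ * n⁻¹)) := by group
    rw [e]
    exact mul_mem (msq _) (mul_mem (inv_mem hm) (msq _))
  rcases hMn.eq_bot_or_eq_top with h0 | h0
  · exfalso
    haveI : Fact (Nat.Prime 3) := ⟨Nat.prime_three⟩
    haveI : Finite ↥B.N := Nat.finite_of_card_ne_zero (by rw [B.cardN]; norm_num)
    obtain ⟨n, hn⟩ := exists_prime_orderOf_dvd_card' (G := ↥B.N) 3 (by rw [B.cardN]; norm_num)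
    have h1 := msq n
    rw [h0, Subgroup.mem_bot] at h1
    have h2 : orderOf n ∣ 2 := orderOf_dvd_of_pow_eq_one (by rw [pow_two, h1])
    rw [hn] at h2
    norm_num at h2
  · have h1 : (⟨B.π ⟨h, hC⟩, hp⟩ : ↥B.N) ∈ M := h0 ▸ Subgroup.mem_top _
    obtain ⟨k, hk, ek⟩ := Subgroup.mem_subgroupOf.mp h1
    have hj : (k : G)⁻¹ * h ∈ B.J := (B.hk (k⁻¹ * ⟨h, hC⟩)).mp (by
      rw [map_mul, map_inv, show B.π k = B.π ⟨h, hC⟩ from ek, inv_mul_cancel])
    have := (Subgroup.mem_centralizer_singleton_iff.mp (Subgroup.mem_subgroupOf.mp hk) :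
      (k : G) * B.d = B.d * k)
    have h2 := (show Commute (k : G) B.d from this).mul_left (B.Jd _ hj)
    rwa [mul_inv_cancel_left] at h2

theorem In_Z {h a : G} (hh : B.In h) (ha : B.Z a) : Commute h a := by
  rcases ha with rfl | rfl | rfl | rfl
  exacts [Commute.one_right _, B.In_comm hh, B.In_d hh, (B.In_d hh).mul_right (B.In_comm hh)]

/-- An element of the centraliser trivial on the core modulo its centre lies in the core. -/
theorem ker_mod [Finite G] {h : G} (hh : Commute h B.z) (hc : ∀ j ∈ B.J, B.Z (h * j * h⁻¹ * j⁻¹)) : h ∈ B.J := by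
  classical
  let K : Subgroup ↥(Subgroup.centralizer ({B.z} : Set G)) :=
    { carrier := {k | ∀ j ∈ B.J, B.Z ((k : G) * j * (k : G)⁻¹ * j⁻¹)}
      one_mem' := fun j hj => by simpa using B.Z_one
      mul_mem' := fun {a b} ha hb j hj => by
        have hb' := B.conjJ _ (B.mem_C.mp b.2) j hj
        have := B.Z_mul (ha _ hb') (hb j hj)
        simpa [mul_assoc] using this
      inv_mem' := fun {a} ha j hj => by
        have hj' : (a : G)⁻¹ * j * a ∈ B.J := by simpa using B.conjJ _ (B.mem_C.mp a.2).inv_left j hj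
        have := B.Z_inv (ha _ hj')
        simpa [mul_assoc] using this }
  have hKn : K.Normal := ⟨fun k hk g j hj => by
    have gz := B.mem_C.mp g.2
    have hj' : (g : G)⁻¹ * j * g ∈ B.J := by simpa using B.conjJ _ gz.inv_left j hj
    have := B.Z_conj gz (hk _ hj')
    simpa [mul_assoc] using this⟩
  haveI := B.Nsimple
  haveI : Finite X := Finite.of_surjective B.π B.hπ
  haveI hI : (K.map B.π).Normal := hKn.map _ B.hπ
  haveI := B.normalN
  rcases (inferInstance : ((K.map B.π).subgroupOf B.N).Normal).eq_bot_or_eq_top with h0 | h0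
  · have hx : B.π ⟨h, B.mem_C.mpr hh⟩ = 1 := by
      refine B.hcent _ fun n hn => ?_
      refine Subgroup.commute_of_normal_of_disjoint _ _ hI B.normalN ?_ _ n ⟨⟨h, B.mem_C.mpr hh⟩, hc, rfl⟩ hn
      rw [disjoint_iff, eq_bot_iff]
      intro m hm
      have : (⟨m, hm.2⟩ : ↥B.N) ∈ (K.map B.π).subgroupOf B.N := Subgroup.mem_subgroupOf.mpr hm.1
      rw [h0, Subgroup.mem_bot] at this
      exact Subgroup.mem_bot.mpr (congrArg Subtype.val this)
    exact (B.hk _).mp hx
  · exfalso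
    haveI : Fact (Nat.Prime 3) := ⟨Nat.prime_three⟩
    obtain ⟨n, hn⟩ := exists_prime_orderOf_dvd_card' (G := ↥B.N) 3 (by rw [B.cardN]; norm_num)
    have h1 : n ∈ (K.map B.π).subgroupOf B.N := h0 ▸ Subgroup.mem_top _
    obtain ⟨k, hk, ek⟩ := Subgroup.mem_subgroupOf.mp h1
    -- a power of odd order with the same image
    obtain ⟨e, m, hm, hoe⟩ := Nat.exists_eq_two_pow_mul_odd (orderOf_pos k).ne'
    set w := k ^ 2 ^ e with hw
    have hwn : orderOf w ∣ m := orderOf_dvd_of_pow_eq_one (by rw [hw, ← pow_mul, ← hoe, pow_orderOf_eq_one])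
    have hwo : Odd (orderOf w) := Odd.of_dvd_nat hm hwn
    have hwK : w ∈ K := K.pow_mem hk _
    have iw : B.In (w : G) := ⟨w.2, by rw [hw, map_pow, ek]; exact B.N.pow_mem n.2 _⟩
    have hwc : ∀ j ∈ B.J, Commute (w : G) j := by
      intro j hj
      set ζ := (w : G) * j * (w : G)⁻¹ * j⁻¹ with hζ
      have hZ : B.Z ζ := hwK j hj
      have e1 : ∀ i : ℕ, (w : G) ^ i * j * ((w : G) ^ i)⁻¹ = ζ ^ i * j := fun i => by
        induction i with
        | zero => simp
        | succ i ih =>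
          calc (w : G) ^ (i + 1) * j * ((w : G) ^ (i + 1))⁻¹
              = (w : G) * ((w : G) ^ i * j * ((w : G) ^ i)⁻¹) * (w : G)⁻¹ := by rw [pow_succ']; group
            _ = (w : G) * (ζ ^ i * j) * (w : G)⁻¹ := by rw [ih]
            _ = ((w : G) * ζ ^ i) * j * (w : G)⁻¹ := by group
            _ = ζ ^ i * ((w : G) * j * (w : G)⁻¹) := by rw [((B.In_Z iw hZ).pow_right i).eq]; group
            _ = ζ ^ (i + 1) * j := by rw [pow_succ, hζ]; group
      have h2 := e1 (orderOf w)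
      rw [show (w : G) ^ orderOf w = 1 by rw [← Subgroup.coe_pow, pow_orderOf_eq_one]; rfl] at h2
      obtain ⟨i, hi⟩ := hwo
      rw [hi, pow_succ, pow_mul, pow_two, B.Z_sq hZ, one_pow, one_mul, one_mul, inv_one, mul_one, eq_comm,
        mul_eq_right] at h2
      rw [hζ, mul_inv_eq_one, mul_inv_eq_iff_eq_mul] at h2
      exact h2
    have hp : B.π w = 1 := (B.hk w).mpr (B.selfcent _ (B.mem_C.mp w.2) hwc)
    rw [hw, map_pow, ek, ← Subgroup.coe_pow, OneMemClass.coe_eq_one] at hp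
    have h3 := orderOf_dvd_of_pow_eq_one hp
    rw [hn] at h3
    exact absurd (Nat.Prime.dvd_of_dvd_pow Nat.prime_three h3) (by norm_num)

/-- An element trivial on the centraliser of an involution of the core modulo the centre lies in the core. -/
theorem hyperplane [Finite G] {x h : G} (hx : x ∈ B.J) (hx2 : x * x = 1) (hxZ : ¬ B.Z x) (hh : Commute h B.z)
    (hc : ∀ j ∈ B.J, Commute j x → B.Z (h * j * h⁻¹ * j⁻¹)) : h ∈ B.J := by
  obtain ⟨j0, hj0, h0⟩ := B.noncomm hx hxZ
  set m := j0⁻¹ * (h * j0 * h⁻¹) with hm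
  have hmJ : m ∈ B.J := mul_mem (inv_mem hj0) (B.conjJ h hh j0 hj0)
  have hj0' : h * j0 * h⁻¹ = j0 * m := by rw [hm]; group
  have hcomm : ∀ j ∈ B.J, Commute j x → Commute m j := by
    intro j hj hjx
    have hζ := hc j hj hjx
    set ζ := h * j * h⁻¹ * j⁻¹ with hζd
    have ehj : h * j * h⁻¹ = ζ * j := by rw [hζd]; group
    have hζc : ∀ {k : G}, k ∈ B.J → Commute ζ k := fun hk => B.Z_comm hζ hk
    have hm' : j0 * m ∈ B.J := mul_mem hj0 hmJ
    rcases B.comm2 j0 hj0 j hj with e | e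
    · have h1 : Commute (j0 * m) (ζ * j) := by
        rw [← hj0', ← ehj]; exact e.map (MulAut.conj h).toMonoidHom
      have h2 : Commute (j0 * m) j := by
        have := (hζc hm').symm.inv_right.mul_right h1
        rwa [inv_mul_cancel_left] at this
      have := e.inv_left.mul_left h2
      rwa [inv_mul_cancel_left] at this
    · by_cases hmj : Commute m j
      · exact hmj
      · exfalso
        have hnc : ¬ Commute j0 j := fun c => B.z1 (mul_eq_right.mp (e.symm.trans c.eq))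
        have h2 : Commute (j0 * m) j := B.both hj0 hmJ hj hnc hmj
        refine hnc ?_
        have h1 : Commute (h * j0 * h⁻¹) (h * j * h⁻¹) := by
          rw [hj0', ehj]; exact (hζc hm').symm.mul_right h2
        have h3 := h1.map (MulAut.conj h⁻¹).toMonoidHom
        simpa [mul_assoc] using h3
  have hmZ : B.Z m := by
    refine (B.cc hx hxZ hmJ hcomm).resolve_right fun hmx => ?_
    have hsq : (h * j0 * h⁻¹) * (h * j0 * h⁻¹) = j0 * j0 := by
      rw [show (h * j0 * h⁻¹) * (h * j0 * h⁻¹) = h * (j0 * j0) * h⁻¹ by group]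
      rcases B.sq2 j0 hj0 with e | e <;> rw [e]
      · group
      · rw [hh.eq, mul_inv_cancel_right]
    set ζ := m * x with hζ
    have hmc : ∀ {k : G}, k ∈ B.J → Commute ζ k := fun hk => B.Z_comm hmx hk
    have em : m = ζ * x := by rw [hζ, mul_assoc, hx2, mul_one]
    rw [hj0', em] at hsq
    have e2 : j0 * (ζ * x) * (j0 * (ζ * x)) = j0 * j0 * B.z := by
      have hxj : x * j0 = B.z * (j0 * x) := (B.comm2 x hx j0 hj0).resolve_left h0
      calc j0 * (ζ * x) * (j0 * (ζ * x)) = j0 * ζ * (x * j0) * (ζ * x) := by group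
        _ = j0 * ζ * B.z * (j0 * (x * ζ) * x) := by rw [hxj]; group
        _ = j0 * ζ * B.z * (j0 * (ζ * x) * x) := by rw [(hmc hx).eq]
        _ = j0 * (ζ * B.z * j0 * ζ) * (x * x) := by group
        _ = j0 * (ζ * (j0 * B.z) * ζ) := by rw [(B.Jz j0 hj0).eq, hx2]; group
        _ = j0 * (j0 * B.z * ζ * ζ) := by rw [((hmc (mul_mem hj0 B.zJ))).eq]
        _ = j0 * j0 * B.z := by rw [mul_assoc _ ζ ζ, B.Z_sq hmx, mul_one, mul_assoc]
    rw [e2] at hsq
    exact B.z1 (mul_eq_left.mp hsq)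
  have hj0Z : B.Z (h * j0 * h⁻¹ * j0⁻¹) := by
    rw [hj0', ← (B.Z_comm hmZ hj0).eq, mul_inv_cancel_right]; exact hmZ
  refine B.ker_mod hh fun j hj => ?_
  by_cases hjx : Commute j x
  · exact hc j hj hjx
  · have hk : j0⁻¹ * j ∈ B.J := mul_mem (inv_mem hj0) hj
    have hkx : Commute (j0⁻¹ * j) x :=
      B.both (inv_mem hj0) hj hx (fun h' => h0 ((by simpa using h'.inv_left : Commute j0 x).symm)) hjx
    have hkZ := hc _ hk hkx
    have e : h * j * h⁻¹ * j⁻¹ = h * j0 * h⁻¹ * j0⁻¹ * (h * (j0⁻¹ * j) * h⁻¹ * (j0⁻¹ * j)⁻¹) := by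
      calc h * j * h⁻¹ * j⁻¹ = h * j0 * h⁻¹ * ((h * (j0⁻¹ * j) * h⁻¹ * (j0⁻¹ * j)⁻¹) * j0⁻¹) := by group
        _ = _ := by rw [(B.Z_comm hkZ (inv_mem hj0)).eq]; group
    rw [e]
    exact B.Z_mul hj0Z hkZ

/-- A conjugate of the involution centralising the core is the involution, granting the fusion in the centre. -/
theorem conj_central {g : G} (hf : g * B.z * g⁻¹ ≠ B.d ∧ g * B.z * g⁻¹ ≠ B.d * B.z)
    (hc : ∀ j ∈ B.J, Commute (g * B.z * g⁻¹) j) : g * B.z * g⁻¹ = B.z := by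
  have hJ := B.selfcent _ (hc _ B.zJ) hc
  rcases B.centre _ hJ hc with e | e | e | e
  exacts [absurd (conj_eq_one_iff.mp e) B.z1, e, absurd e hf.1, absurd e hf.2]

/-- The same data with the other involution of the centre. -/
def flip : Base G X :=
  { B with
    d := B.d * B.z
    dd := B.dz_sq
    d1 := B.dz1
    dne := B.dz_ne_z
    dJ := mul_mem B.dJ B.zJ
    Jd := fun j hj => (B.Jd j hj).mul_right (B.Jz j hj)
    centre := fun m hm h => by
      rcases B.centre m hm h with e | e | e | e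
      · exact Or.inl e
      · exact Or.inr (Or.inl e)
      · exact Or.inr (Or.inr (Or.inr (by rw [mul_assoc, B.zz, mul_one]; exact e)))
      · exact Or.inr (Or.inr (Or.inl e)) }

end Base

end CfsgLib.FiTwoType
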