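/-
Fusion in the centre of the core, Sylow subgroups, and elements of odd order centralising the fixed points
of an involution.
-/
import Cfsg.Agent.Lib.FiTwoType.Base
import Mathlib.GroupTheory.Sylow
import Mathlib.GroupTheory.Nilpotent

set_option autoImplicit false
set_option linter.unusedVariables false
set_option linter.unusedSectionVars false
set_option linter.style.haveILetI false

namespace CfsgLib.FiTwoType

/-- A Sylow subgroup of an involution centraliser whose normaliser fixes the involution is one of the group. -/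
theorem sylow_local {G : Type*} [Group G] [Finite G] {z : G} (T : Subgroup G) (hT : IsPGroup 2 T)
    (hTz : T ≤ Subgroup.centralizer ({z} : Set G))
    (hodd : ¬ 2 ∣ (T.subgroupOf (Subgroup.centralizer ({z} : Set G))).index)
    (hfix : ∀ n : G, (∀ t ∈ T, n * t * n⁻¹ ∈ T) → n * z * n⁻¹ = z) : ¬ 2 ∣ T.index := by
  classical
  haveI : Fact (Nat.Prime 2) := ⟨Nat.prime_two⟩
  obtain ⟨S, hS⟩ := hT.exists_le_sylow
  suffices e : T = S by rw [e]; exact S.not_dvd_index
  by_contra hne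
  haveI : Group.IsNilpotent S := S.isPGroup'.isNilpotent
  have hlt : T.subgroupOf (S : Subgroup G) < ⊤ := lt_top_iff_ne_top.mpr fun e =>
    hne (le_antisymm hS (Subgroup.subgroupOf_eq_top.mp e))
  obtain ⟨n, hn, hnT⟩ := SetLike.exists_of_lt (Group.normalizerCondition_of_isNilpotent _ hlt)
  have hnorm : ∀ t ∈ T, (n : G) * t * (n : G)⁻¹ ∈ T := fun t ht =>
    Subgroup.mem_subgroupOf.mp ((Subgroup.mem_normalizer_iff.mp hn ⟨t, hS ht⟩).mp (Subgroup.mem_subgroupOf.mpr ht))
  set C := Subgroup.centralizer ({z} : Set G)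
  have hnz : (n : G) ∈ C := Subgroup.mem_centralizer_singleton_iff.mpr (mul_inv_eq_iff_eq_mul.mp (hfix _ hnorm))
  set R := ((S : Subgroup G) ⊓ C).subgroupOf C with hR
  have hRp : IsPGroup 2 R := by
    rw [hR, Subgroup.inf_subgroupOf_right]
    exact S.isPGroup'.comap_subtype
  let Q : Sylow 2 C := (hT.comap_subtype : IsPGroup 2 (T.subgroupOf C)).toSylow hodd
  obtain ⟨S', hS'⟩ := hRp.exists_le_sylow
  have hle : T.subgroupOf C ≤ R := fun t ht =>
    Subgroup.mem_subgroupOf.mpr ⟨hS (Subgroup.mem_subgroupOf.mp ht), t.2⟩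
  have hcard : Nat.card R ≤ Nat.card (T.subgroupOf C) :=
    (Subgroup.card_le_of_le hS').trans (le_of_eq (S'.card_eq_multiplicity.trans Q.card_eq_multiplicity.symm))
  have e := Subgroup.eq_of_le_of_card_ge hle hcard
  have : (⟨n, hnz⟩ : C) ∈ T.subgroupOf C := e ▸ Subgroup.mem_subgroupOf.mpr ⟨n.2, hnz⟩
  exact hnT (Subgroup.mem_subgroupOf.mpr (Subgroup.mem_subgroupOf.mp this))

namespace Base

variable {G : Type*} [Group G] [Finite G] {X : Type*} [Group X] (B : Base G X)

/-- The preimage of the subgroup of index two. -/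
def H0 : Subgroup G where
  carrier := {g | B.In g}
  one_mem' := B.In_J (one_mem _)
  mul_mem' := B.In_mul
  inv_mem' := B.In_inv

theorem mem_H0 {g : G} : g ∈ B.H0 ↔ B.In g := Iff.rfl

theorem J_le : B.J ≤ B.H0 := fun j hj => B.In_J hj

/-- The action of the preimage. -/
def toN : ↥B.H0 →* ↥B.N where
  toFun h := ⟨B.π ⟨h, h.2.1⟩, h.2.2⟩
  map_one' := Subtype.ext (map_one B.π)
  map_mul' a b := Subtype.ext (map_mul B.π ⟨a, a.2.1⟩ ⟨b, b.2.1⟩)

theorem toN_surj : Function.Surjective B.toN := fun x => by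
  obtain ⟨h, hh, e⟩ := B.In_lift x.2
  exact ⟨⟨h, hh⟩, Subtype.ext (e _)⟩

theorem toN_one {h : ↥B.H0} : B.toN h = 1 ↔ (h : G) ∈ B.J := by
  rw [← B.hk ⟨h, h.2.1⟩]
  exact ⟨fun e => congrArg Subtype.val e, fun e => Subtype.ext e⟩

theorem card_H0 : Nat.card B.H0 = 1024 * 25920 := by
  rw [← Subgroup.index_mul_card B.toN.ker, Subgroup.index_ker, MonoidHom.range_eq_top.mpr B.toN_surj,
    Subgroup.card_top, B.cardN, mul_comm]
  congr 1
  rw [show B.toN.ker = B.J.subgroupOf B.H0 by ext h; rw [MonoidHom.mem_ker, B.toN_one]; rfl,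
    Nat.card_congr (Subgroup.subgroupOfEquivOfLe B.J_le).toEquiv, B.card]

/-- A subgroup of index at most two in the core is not abelian. -/
theorem big_nonab (A : Subgroup G) (hA : A ≤ B.J) (hc : 512 ≤ Nat.card A) :
    ∃ u ∈ A, ∃ v ∈ A, u * v = B.z * (v * u) := by
  classical
  by_contra hno
  push Not at hno
  have hab : ∀ u ∈ A, ∀ v ∈ A, Commute u v := fun u hu v hv =>
    (B.comm2 u (hA hu) v (hA hv)).resolve_right (hno u hu v hv)
  obtain ⟨x, hx, hxZ⟩ : ∃ x ∈ A, ¬ B.Z x := by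
    by_contra hall
    push Not at hall
    have : Nat.card A ≤ ({1, B.z, B.d, B.d * B.z} : Finset G).card := by
      rw [← Nat.card_eq_finsetCard]
      exact Nat.card_le_card_of_injective (fun a => (⟨a.1, by simpa [Z] using hall a a.2⟩ : ({1, B.z, B.d, B.d * B.z} : Finset G)))
        fun a b e => Subtype.ext (congrArg (fun w : ({1, B.z, B.d, B.d * B.z} : Finset G) => w.1) e)
    have := this.trans Finset.card_le_four
    omega
  set C := B.J ⊓ Subgroup.centralizer ({x} : Set G)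
  have hAC : A ≤ C := fun a ha => ⟨hA ha, Subgroup.mem_centralizer_singleton_iff.mpr (hab a ha x hx)⟩
  obtain ⟨u, hu, v, hv, hux, hvx, e⟩ := B.nonab (hA hx) hxZ
  have hne : C ≠ B.J := fun e => by
    obtain ⟨j, hj, hn⟩ := B.noncomm (hA hx) hxZ
    exact hn (Subgroup.mem_centralizer_singleton_iff.mp (e.ge hj).2 : Commute j x).symm
  have hCA : Nat.card C ≤ Nat.card A := by
    obtain ⟨k, -, hk⟩ := (Nat.dvd_prime_pow Nat.prime_two).mp
      (show Nat.card C ∣ 2 ^ 10 by
        have := Subgroup.card_dvd_of_le (inf_le_left : C ≤ B.J)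
        rwa [B.card] at this)
    have hlt : Nat.card C < 1024 := by
      refine lt_of_le_of_ne (B.card ▸ Subgroup.card_le_of_le inf_le_left) fun e => hne ?_
      exact Subgroup.eq_of_le_of_card_ge inf_le_left (by rw [e, B.card])
    have : k < 10 := (Nat.pow_lt_pow_iff_right (show 1 < 2 by norm_num)).mp (by rw [← hk]; exact hlt)
    have : 2 ^ k ≤ 2 ^ 9 := Nat.pow_le_pow_right (by norm_num) (by omega)
    omega
  have eAC := Subgroup.eq_of_le_of_card_ge hAC hCA
  have mA : ∀ w ∈ B.J, Commute w x → w ∈ A := fun w hw hwx =>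
    eAC ▸ ⟨hw, Subgroup.mem_centralizer_singleton_iff.mpr hwx⟩
  exact hno u (mA u hu hux) v (mA v hv hvx) e

/-- A two-subgroup normal in the preimage lies in the core. -/
theorem two_le {P : Subgroup G} (hP : IsPGroup 2 P) (hle : P ≤ B.H0)
    (hn : ∀ h, B.In h → ∀ p ∈ P, h * p * h⁻¹ ∈ P) : P ≤ B.J := by
  haveI := B.Nsimple
  haveI : Finite ↥B.N := Nat.finite_of_card_ne_zero (by rw [B.cardN]; norm_num)
  haveI : (P.subgroupOf B.H0).Normal := ⟨fun p hp h => hn h h.2 p hp⟩
  rcases ((inferInstance : (P.subgroupOf B.H0).Normal).map B.toN B.toN_surj).eq_bot_or_eq_top with h | h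
  · intro p hp
    have : B.toN ⟨p, hle hp⟩ ∈ (P.subgroupOf B.H0).map B.toN := ⟨_, hp, rfl⟩
    rw [h, Subgroup.mem_bot, B.toN_one] at this
    exact this
  · exfalso
    obtain ⟨k, hk⟩ := IsPGroup.iff_card.mp ((hP.comap_subtype : IsPGroup 2 (P.subgroupOf B.H0)).map B.toN)
    change Nat.card ↥((P.subgroupOf B.H0).map B.toN) = _ at hk
    rw [h, Subgroup.card_top, B.cardN] at hk
    have : 5 ∣ 2 ^ k := hk ▸ (by norm_num)
    exact absurd (Nat.Prime.dvd_of_dvd_pow (by norm_num) this) (by norm_num)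

/-- The involution is not conjugate to the others of the centre of the core. -/
theorem not_conj_d (g : G) : g * B.z * g⁻¹ ≠ B.d := by
  intro e
  haveI : Fact (Nat.Prime 2) := ⟨Nat.prime_two⟩
  let φ : ↥B.H0 →* ↥(Subgroup.centralizer ({B.z} : Set G)) :=
    MonoidHom.mk' (fun h => ⟨g⁻¹ * h * g, B.mem_C.mpr (by
      have hd := B.In_d h.2
      rw [← e] at hd
      have := hd.map (MulAut.conj g⁻¹).toMonoidHom
      simpa [mul_assoc] using this)⟩) fun a b => Subtype.ext (by show g⁻¹ * ((a : G) * b) * g = _ * _; group)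
  let ψ := B.π.comp φ
  set Q := ψ.ker.map B.H0.subtype with hQ
  have memQ : ∀ p ∈ Q, p ∈ B.H0 ∧ g⁻¹ * p * g ∈ B.J := by
    rintro _ ⟨p, hp, rfl⟩
    exact ⟨p.2, (B.hk _).mp hp⟩
  have hQJ : Q ≤ B.J := by
    refine B.two_le ?_ (fun p hp => (memQ p hp).1) fun h hh p hp => ?_
    · refine (IsPGroup.of_card (n := 10) (show Nat.card B.J = 2 ^ 10 by rw [B.card]; norm_num)).of_injective
        (MonoidHom.mk' (fun p : ↥Q => (⟨g⁻¹ * p * g, (memQ p p.2).2⟩ : ↥B.J)) fun a b => Subtype.ext (by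
          show g⁻¹ * ((a : G) * b) * g = _ * _; group)) fun a b h => ?_
      have := congrArg (fun q : ↥B.J => g * q.1 * g⁻¹) h
      exact Subtype.ext (by simpa [mul_assoc] using this)
    · obtain ⟨p, hp, rfl⟩ := hp
      exact ⟨⟨h, hh⟩ * p * ⟨h, hh⟩⁻¹, (inferInstance : ψ.ker.Normal).conj_mem p hp _, rfl⟩
  have hQc : 512 ≤ Nat.card Q := by
    haveI : Finite X := Finite.of_surjective B.π B.hπ
    have h1 := Subgroup.index_mul_card ψ.ker
    rw [B.card_H0, Subgroup.index_ker] at h1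
    have h2 : Nat.card ψ.range ∣ Nat.card X := Subgroup.card_subgroup_dvd_card _
    rw [← B.N.index_mul_card, B.hN, B.cardN] at h2
    have h3 : Nat.card ψ.range ≤ 2 * 25920 := Nat.le_of_dvd (by norm_num) h2
    rw [hQ, ← Nat.card_congr (ψ.ker.equivMapOfInjective B.H0.subtype B.H0.subtype_injective).toEquiv]
    by_contra h512
    have : Nat.card ψ.range * Nat.card ψ.ker ≤ 2 * 25920 * 511 := Nat.mul_le_mul h3 (by omega)
    omega
  obtain ⟨u, hu, v, hv, euv⟩ := B.big_nonab Q hQJ hQc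
  rcases B.comm2 _ (memQ u hu).2 _ (memQ v hv).2 with c | c
  · have c' := c.map (MulAut.conj g).toMonoidHom
    simp [mul_assoc] at c'
    exact B.z1 (mul_eq_right.mp (euv.symm.trans c'.eq))
  · refine B.dne ?_
    have c' : u * v = g * B.z * g⁻¹ * (v * u) := by
      calc u * v = g * (g⁻¹ * u * g * (g⁻¹ * v * g)) * g⁻¹ := by group
        _ = _ := by rw [c]; group
    rw [e] at c'
    exact mul_right_cancel (c'.symm.trans euv)

theorem not_conj_dz (g : G) : g * B.z * g⁻¹ ≠ B.d * B.z := B.flip.not_conj_d g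

/-- A conjugate of the involution centralising the core is the involution. -/
theorem central_eq {g : G} (hc : ∀ j ∈ B.J, Commute (g * B.z * g⁻¹) j) : g * B.z * g⁻¹ = B.z :=
  B.conj_central ⟨B.not_conj_d g, B.not_conj_dz g⟩ hc

/-- A two-subgroup between the core and the centraliser is normalised only by elements fixing the involution. -/
theorem norm_fix {T : Subgroup G} (hJT : B.J ≤ T) (hTz : T ≤ Subgroup.centralizer ({B.z} : Set G)) {n : G}
    (hn : ∀ t ∈ T, n * t * n⁻¹ ∈ T) : n * B.z * n⁻¹ = B.z := by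
  refine B.central_eq fun j hj => ?_
  have hji : n⁻¹ * j * n ∈ T := by
    let s : Finset G := (Set.toFinite (T : Set G)).toFinset
    have hinj : Function.Injective (fun t : ↥T => (⟨n * t * n⁻¹, hn t t.2⟩ : ↥T)) := fun a b h =>
      Subtype.ext (mul_left_cancel (mul_right_cancel (congrArg Subtype.val h)))
    obtain ⟨t, ht⟩ := (Finite.injective_iff_surjective.mp hinj) ⟨j, hJT hj⟩
    have e : n * (t : G) * n⁻¹ = j := congrArg Subtype.val ht
    rw [← e, show n⁻¹ * (n * (t : G) * n⁻¹) * n = t by group]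
    exact t.2
  have := (B.mem_C.mp (hTz hji)).symm.map (MulAut.conj n).toMonoidHom
  simpa [mul_assoc] using this

/-- A Sylow subgroup of the centraliser containing the core. -/
theorem exists_sylow : ∃ T : Subgroup G, IsPGroup 2 T ∧ B.J ≤ T ∧ T ≤ Subgroup.centralizer ({B.z} : Set G) ∧
    ¬ 2 ∣ T.index := by
  haveI : Fact (Nat.Prime 2) := ⟨Nat.prime_two⟩
  set C := Subgroup.centralizer ({B.z} : Set G)
  obtain ⟨S, hS⟩ := ((IsPGroup.of_card (n := 10) (show Nat.card B.J = 2 ^ 10 by rw [B.card]; norm_num)).comap_subtype :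
    IsPGroup 2 (B.J.subgroupOf C)).exists_le_sylow
  have hJT : B.J ≤ (S : Subgroup C).map C.subtype := fun j hj =>
    ⟨⟨j, B.mem_C.mpr (B.Jz j hj)⟩, hS hj, rfl⟩
  refine ⟨(S : Subgroup C).map C.subtype, S.isPGroup'.map _, hJT, Subgroup.map_subtype_le _,
    sylow_local _ (S.isPGroup'.map _) (Subgroup.map_subtype_le _) ?_ fun n hn => B.norm_fix hJT (Subgroup.map_subtype_le _) hn⟩
  rw [Subgroup.subgroupOf, Subgroup.comap_map_eq_self_of_injective C.subtype_injective]
  exact S.not_dvd_index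

/-- When the centraliser fixes the second involution, it is not conjugate to the third. -/
theorem d_not_conj (hA : ∀ h, Commute h B.z → Commute h B.d) (k : G) : k * B.d * k⁻¹ ≠ B.d * B.z := by
  intro e
  haveI : Fact (Nat.Prime 2) := ⟨Nat.prime_two⟩
  obtain ⟨T, hT, hJT, hTz, hodd⟩ := B.exists_sylow
  set C := Subgroup.centralizer ({B.d * B.z} : Set G) with hC
  have hTC : T ≤ C := fun t ht => Subgroup.mem_centralizer_singleton_iff.mpr
    ((hA t (B.mem_C.mp (hTz ht))).mul_right (B.mem_C.mp (hTz ht)))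
  set T' := T.map (MulAut.conj k).toMonoidHom with hT'
  have hT'C : T' ≤ C := by
    rintro _ ⟨t, ht, rfl⟩
    refine Subgroup.mem_centralizer_singleton_iff.mpr ?_
    rw [← e]
    exact (hA t (B.mem_C.mp (hTz ht))).map (MulAut.conj k).toMonoidHom
  have nd : ∀ R : Subgroup G, Nat.card R = Nat.card T → R ≤ C → ¬ 2 ∣ (R.subgroupOf C).index := by
    intro R hR hRC h2
    refine hodd ?_
    have h1 : (R.subgroupOf C).index ∣ R.index := Subgroup.relIndex_dvd_index_of_le hRC
    have e1 := R.index_mul_card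
    rw [← T.index_mul_card, hR] at e1
    rw [← Nat.eq_of_mul_eq_mul_right Nat.card_pos e1]
    exact h2.trans h1
  let P : Sylow 2 C := (hT.comap_subtype : IsPGroup 2 (T.subgroupOf C)).toSylow (nd T rfl hTC)
  let P' : Sylow 2 C := ((hT.map _).comap_subtype : IsPGroup 2 (T'.subgroupOf C)).toSylow (nd T' (by
    rw [hT']; exact (Nat.card_congr (T.equivMapOfInjective _ (MulEquiv.injective _)).toEquiv).symm) hT'C)
  obtain ⟨c, hc⟩ := MulAction.exists_smul_eq C P' P
  have hcd : Commute (c : G) (B.d * B.z) := Subgroup.mem_centralizer_singleton_iff.mp c.2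
  have hn : ∀ t ∈ T, ((c : G) * k) * t * ((c : G) * k)⁻¹ ∈ T := by
    intro t ht
    have h1 : (⟨k * t * k⁻¹, hT'C ⟨t, ht, rfl⟩⟩ : C) ∈ (P' : Subgroup C) := Subgroup.mem_subgroupOf.mpr ⟨t, ht, rfl⟩
    have h3 : c * ⟨k * t * k⁻¹, hT'C ⟨t, ht, rfl⟩⟩ * c⁻¹ ∈ (P : Subgroup C) := by
      rw [← hc, Sylow.coe_subgroup_smul]
      exact Subgroup.smul_mem_pointwise_smul _ (MulAut.conj c) _ h1
    have h4 : (c : G) * (k * t * k⁻¹) * (c : G)⁻¹ ∈ T := Subgroup.mem_subgroupOf.mp h3
    rwa [show ((c : G) * k) * t * ((c : G) * k)⁻¹ = (c : G) * (k * t * k⁻¹) * (c : G)⁻¹ by group]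
  have hz := hA _ (mul_inv_eq_iff_eq_mul.mp (B.norm_fix hJT hTz hn))
  have : ((c : G) * k) * B.d * ((c : G) * k)⁻¹ = B.d * B.z := by
    rw [show ((c : G) * k) * B.d * ((c : G) * k)⁻¹ = (c : G) * (k * B.d * k⁻¹) * (c : G)⁻¹ by group, e, hcd.eq,
      mul_inv_cancel_right]
  rw [hz.eq, mul_inv_cancel_right] at this
  exact B.dz_ne_d this.symm

/-- An element of odd order commuting with an involution and with its fixed points in the core centralises
the core. -/
theorem odd_fix {k b : G} (hk : Commute k B.z) (hb : Commute b B.z) (hb2 : b * b = 1) (hkb : Commute k b)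
    (hodd : Odd (orderOf k)) (hfix : ∀ j ∈ B.J, Commute j b → Commute k j) : ∀ j ∈ B.J, Commute k j := by
  by_contra hno
  push Not at hno
  obtain ⟨j1, hj1, hj1k⟩ := hno
  have hbi : b⁻¹ = b := inv_eq_of_mul_eq_one_right hb2
  have kz := hfix B.z B.zJ hb.symm
  -- the fixed points, an invariant subgroup with elementary quotient
  let S := {j | j ∈ B.J ∧ Commute k j}
  have sq : ∀ j ∈ B.J, Commute k (j * j) := fun j hj => by
    rcases B.sq2 j hj with e | e <;> rw [e]
    exacts [Commute.one_right k, kz]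
  have key : ∀ j ∈ B.J, (b * j * b⁻¹ * j⁻¹) ∈ B.J ∧ Commute k (b * j * b⁻¹ * j⁻¹) → Commute k j := by
    intro j hj ⟨sJ, sk⟩
    set s := b * j * b⁻¹ * j⁻¹ with hs
    set c := j⁻¹ * (k * j * k⁻¹) with hc
    have hcJ : c ∈ B.J := mul_mem (inv_mem hj) (B.conjJ k hk j hj)
    have hkj : k * j * k⁻¹ = j * c := by rw [hc]; group
    have ebj : b * j * b⁻¹ = s * j := by rw [hs]; group
    have e1 : b * (j * c) * b⁻¹ = s * (j * c) := by
      calc b * (j * c) * b⁻¹ = b * (k * j * k⁻¹) * b⁻¹ := by rw [hkj]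
        _ = k * (b * j * b⁻¹) * k⁻¹ := by
          rw [show k * (b * j * b⁻¹) * k⁻¹ = (k * b) * j * (k * b)⁻¹ by group, hkb.eq]; group
        _ = (k * s) * j * k⁻¹ := by rw [ebj]; group
        _ = s * (k * j * k⁻¹) := by rw [sk.eq]; group
        _ = s * (j * c) := by rw [hkj]
    have hbc : Commute c b := by
      refine (mul_inv_eq_iff_eq_mul.mp ?_).symm
      calc b * c * b⁻¹ = (b * j * b⁻¹)⁻¹ * (b * (j * c) * b⁻¹) := by group
        _ = c := by rw [e1, ebj]; group
    have hkc := hfix c hcJ hbc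
    have hpow : ∀ i : ℕ, k ^ i * j * (k ^ i)⁻¹ = j * c ^ i := fun i => by
      induction i with
      | zero => simp
      | succ i ih =>
        calc k ^ (i + 1) * j * (k ^ (i + 1))⁻¹ = k * (k ^ i * j * (k ^ i)⁻¹) * k⁻¹ := by rw [pow_succ']; group
          _ = k * j * k⁻¹ * (k * c ^ i * k⁻¹) := by rw [ih]; group
          _ = j * c * c ^ i := by rw [hkj, (hkc.pow_right i).eq, mul_inv_cancel_right]
          _ = j * c ^ (i + 1) := by rw [pow_succ']; group
    have h2 := hpow (orderOf k)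
    rw [pow_orderOf_eq_one, one_mul, inv_one, mul_one, left_eq_mul] at h2
    have hc2 : c ^ 4 = 1 := by
      rcases B.sq2 c hcJ with e | e <;> rw [show c ^ 4 = (c * c) * (c * c) by simp [pow_succ, mul_assoc], e]
      exacts [one_mul 1, B.zz]
    obtain ⟨m, hm⟩ := hodd
    have hc1 : c = 1 := by
      have h3 : orderOf c ∣ 4 := orderOf_dvd_of_pow_eq_one hc2
      have h4 : orderOf c ∣ orderOf k := orderOf_dvd_of_pow_eq_one h2
      have h5 : orderOf c ∣ 1 := by
        have := Nat.dvd_gcd h3 h4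
        rwa [show Nat.gcd 4 (orderOf k) = 1 from Nat.Coprime.pow_left 2
          ((Nat.coprime_two_left).mpr ⟨m, hm⟩)] at this
      exact orderOf_eq_one_iff.mp (Nat.dvd_one.mp h5)
    rw [hc1, mul_one, mul_inv_eq_iff_eq_mul] at hkj
    exact hkj
  have hb1 : b * j1 * b⁻¹ ∈ B.J := B.conjJ b hb j1 hj1
  set t := j1 * (b * j1 * b⁻¹) with ht
  have hbbj : b * (b * j1 * b⁻¹) * b⁻¹ = j1 := by
    rw [show b * (b * j1 * b⁻¹) * b⁻¹ = (b * b) * j1 * (b * b)⁻¹ by group, hb2, one_mul, inv_one, mul_one]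
  by_cases htk : Commute k t
  · -- the first element is fixed modulo the fixed points
    refine hj1k (key j1 hj1 ⟨mul_mem hb1 (inv_mem hj1), ?_⟩)
    have e : b * j1 * b⁻¹ * j1⁻¹ = (j1⁻¹ * t * j1) * (j1 * j1)⁻¹ := by rw [ht]; group
    rw [e]
    refine Commute.mul_right ?_ (sq j1 hj1).inv_right
    rcases B.comm2 _ (inv_mem hj1) t (mul_mem hj1 hb1) with c | c
    · rw [c.eq, inv_mul_cancel_right]; exact htk
    · rw [c, show B.z * (t * j1⁻¹) * j1 = B.z * t by group]; exact kz.mul_right htk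
  · refine htk (key t (mul_mem hj1 hb1) ⟨mul_mem (B.conjJ b hb _ (mul_mem hj1 hb1)) (inv_mem (mul_mem hj1 hb1)), ?_⟩)
    rw [show b * t * b⁻¹ = b * j1 * b⁻¹ * (b * (b * j1 * b⁻¹) * b⁻¹) by rw [ht]; group, hbbj, ht]
    rcases B.comm2 _ hb1 j1 hj1 with c | c
    · rw [c.eq, mul_inv_cancel]; exact Commute.one_right k
    · rw [c, mul_inv_cancel_right]; exact kz

end Base

end CfsgLib.FiTwoType
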