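/-
A subgroup of index two of the centraliser of an involution extends to the group: the transfer, for a core with
centre of order four.
-/
import Cfsg.Agent.Lib.Basic
import Cfsg.Agent.Lib.ExtraTransferTwo

set_option autoImplicit false
set_option linter.unusedVariables false

namespace CfsgLib.FiTwoType

/-- The kernel of the transfer. -/
theorem transfer_two {G : Type*} [Group G] [Finite G] {z : G} (hz : orderOf z = 2) {E : Subgroup G}
    (hEC : E ≤ (Subgroup.centralizer ({z} : Set G))) (hzE : z ∈ E)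
    (hnorm : ∀ g ∈ (Subgroup.centralizer ({z} : Set G)), ∀ e ∈ E, g * e * g⁻¹ ∈ E)
    (hE : IsPGroup 2 E) (hsq : ∀ e ∈ E, e * e = 1 ∨ e * e = z)
    (hcomm : ∀ a ∈ E, ∀ b ∈ E, a * b = b * a ∨ a * b = z * (b * a))
    (hcen : ∀ x : G, (∀ e ∈ E, e * (x * z * x⁻¹) = x * z * x⁻¹ * e) → x * z * x⁻¹ = z)
    (hindex : ∀ w : G, w ∈ (Subgroup.centralizer ({z} : Set G)) → w * w = 1 → w ∉ E →
      ((Subgroup.centralizer ({w} : Set G)).subgroupOf E).index ≠ 1 ∧
      ((Subgroup.centralizer ({w} : Set G)).subgroupOf E).index ≠ 2)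
    (hfour : ∀ A : Subgroup ↥E, A.index = 4 → ∃ u ∈ A, ∃ v ∈ A, ¬ u * v = v * u) {k : ℕ}
    (hcard : Nat.card ↥E = 2 ^ k) (K' : Subgroup ↥(Subgroup.centralizer ({z} : Set G))) (hK' : K'.index = 2)
    (hgood : ∀ x : G, x * z * x⁻¹ ∈ E → x * z * x⁻¹ ≠ z → ∀ e ∈ E, e * (x * z * x⁻¹) = x * z * x⁻¹ * e →
      ∀ hm : x⁻¹ * e * x ∈ (Subgroup.centralizer ({z} : Set G)),
        (⟨x⁻¹ * e * x, hm⟩ : ↥(Subgroup.centralizer ({z} : Set G))) ∈ K') :
    ∃ G0 : Subgroup G, G0.index = 2 ∧ ∀ (h : G) (hh : h ∈ (Subgroup.centralizer ({z} : Set G))),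
      h ∈ G0 ↔ (⟨h, hh⟩ : ↥(Subgroup.centralizer ({z} : Set G))) ∈ K' := by
  classical
  let χ : (Subgroup.centralizer ({z} : Set G)) →* Multiplicative (ZMod 2) := MonoidHom.mk'
    (fun c => if c ∈ K' then 1 else Multiplicative.ofAdd 1) fun a b => by
      have := Subgroup.mul_mem_iff_of_index_two hK' (a := a) (b := b)
      by_cases ha : a ∈ K' <;> by_cases hb : b ∈ K'
      · rw [if_pos ha, if_pos hb, if_pos (this.mpr (iff_of_true ha hb))]; rfl
      · rw [if_pos ha, if_neg hb, if_neg fun h => hb ((this.mp h).mp ha)]; rfl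
      · rw [if_neg ha, if_pos hb, if_neg fun h => ha ((this.mp h).mpr hb)]; rfl
      · rw [if_neg ha, if_neg hb, if_pos (this.mpr (iff_of_false ha hb))]; rfl
  have hA : ∀ a : Multiplicative (ZMod 2), a * a = 1 := by decide
  haveI := Fact.mk Nat.prime_two
  haveI : Fintype (G ⧸ (Subgroup.centralizer ({z} : Set G))) := Fintype.ofFinite _
  -- a Sylow subgroup of the centralizer
  obtain ⟨S, hS⟩ := (show IsPGroup 2 (E.subgroupOf (Subgroup.centralizer ({z} : Set G))) from
    IsPGroup.of_equiv hE (Subgroup.subgroupOfEquivOfLe hEC).symm).exists_le_sylow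
  let P : Subgroup G := (S : Subgroup (Subgroup.centralizer ({z} : Set G))).map (Subgroup.centralizer ({z} : Set G)).subtype
  have hPC : P ≤ (Subgroup.centralizer ({z} : Set G)) := Subgroup.map_subtype_le _
  have hEP : E ≤ P := fun e he => ⟨⟨e, hEC he⟩, hS he, rfl⟩
  haveI hEn : (E.subgroupOf P).Normal := ⟨fun k hk g => hnorm g (hPC g.2) k hk⟩
  have hnil : Group.IsNilpotent P := (S.isPGroup'.map (Subgroup.centralizer ({z} : Set G)).subtype).isNilpotent
  let c : P → G ⧸ (Subgroup.centralizer ({z} : Set G)) → Multiplicative (ZMod 2) := fun g q => CfsgLib.TransferOrbit.cval χ (g : G) q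
  have hc : ∀ g h x, c (g * h) x = c g (h • x) * c h x := fun g h x => CfsgLib.TransferOrbit.cval_mul χ g h x
  have hzP : z ∈ P := hEP hzE
  have hzz2 : (⟨z, hzP⟩ : P) * ⟨z, hzP⟩ = 1 := Subtype.ext (by
    change z * z = 1
    rw [← pow_two, ← hz, pow_orderOf_eq_one])
  have hstab : ∀ (h x : G), h • (x : G ⧸ (Subgroup.centralizer ({z} : Set G))) = x ↔ x⁻¹ * h * x ∈ (Subgroup.centralizer ({z} : Set G)) := fun h x => by
    rw [show h • (x : G ⧸ (Subgroup.centralizer ({z} : Set G))) = ((h * x : G) : G ⧸ (Subgroup.centralizer ({z} : Set G))) from rfl, eq_comm, QuotientGroup.eq, mul_assoc]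
  have hq₀ : ∀ g : P, g • ((1 : G) : G ⧸ (Subgroup.centralizer ({z} : Set G))) = ((1 : G) : G ⧸ (Subgroup.centralizer ({z} : Set G))) := fun g =>
    (hstab g 1).mpr (by rw [inv_one, one_mul, mul_one]; exact hPC g.2)
  have hcase : ∀ q : G ⧸ (Subgroup.centralizer ({z} : Set G)), q ≠ ((1 : G) : G ⧸ (Subgroup.centralizer ({z} : Set G))) → (⟨z, hzP⟩ : P) • q ≠ q ∨
      ∀ M : Subgroup P, (∀ x, x ∈ M ↔ x ∈ E.subgroupOf P ∧ x • q = q) →
        (8 * Nat.card M ≤ Nat.card (E.subgroupOf P) ∨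
          (4 * Nat.card M ≤ Nat.card (E.subgroupOf P) ∧ c ⟨z, hzP⟩ q = 1)) ∨
        (2 * Nat.card M ≤ Nat.card (E.subgroupOf P) ∧ ∀ m ∈ M, c m q = 1) := by
    intro q hq
    refine or_iff_not_imp_left.mpr fun hzq M hM => ?_
    push Not at hzq
    obtain ⟨x, rfl⟩ := QuotientGroup.mk_surjective q
    set w := x * z * x⁻¹ with hw
    have hfix : ∀ g : G, g • (x : G ⧸ (Subgroup.centralizer ({z} : Set G))) = x ↔ g * w = w * g := fun g => by
      rw [hstab, Subgroup.mem_centralizer_singleton_iff, hw]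
      constructor
      · intro h
        calc g * (x * z * x⁻¹) = x * (x⁻¹ * g * x * z) * x⁻¹ := by group
          _ = x * (z * (x⁻¹ * g * x)) * x⁻¹ := by rw [h]
          _ = x * z * x⁻¹ * g := by group
      · intro h
        calc x⁻¹ * g * x * z = x⁻¹ * (g * (x * z * x⁻¹)) * x := by group
          _ = x⁻¹ * (x * z * x⁻¹ * g) * x := by rw [h]
          _ = z * (x⁻¹ * g * x) := by group
    have hwC : w ∈ (Subgroup.centralizer ({z} : Set G)) := Subgroup.mem_centralizer_singleton_iff.mpr ((hfix z).mp hzq).symm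
    by_cases hwE : w ∈ E
    · right
      have hwz : w ≠ z := fun h => hq (QuotientGroup.eq.mpr (by
        rw [mul_one, inv_mem_iff, Subgroup.mem_centralizer_singleton_iff]
        exact mul_inv_eq_iff_eq_mul.mp h))
      have hw1 : w ≠ 1 := fun h => by
        have h1 : z = 1 := by
          calc z = x⁻¹ * w * x := by rw [hw]; group
            _ = 1 := by rw [h]; group
        rw [h1, orderOf_one] at hz
        norm_num at hz
      refine ⟨?_, fun m hm => ?_⟩
      · set Mw := (Subgroup.centralizer ({w} : Set G)).subgroupOf E with hMw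
        have hcardM : Nat.card M = Nat.card Mw := by
          refine Nat.card_congr ⟨fun g => ⟨⟨(g : P), ((hM g).mp g.2).1⟩, ?_⟩, fun k => ⟨⟨(k : E), hEP (k : E).2⟩, ?_⟩,
            fun g => rfl, fun k => rfl⟩
          · exact Subgroup.mem_centralizer_singleton_iff.mpr ((hfix _).mp ((hM g).mp g.2).2)
          · exact (hM _).mpr ⟨(k : E).2, (hfix _).mpr (Subgroup.mem_centralizer_singleton_iff.mp k.2)⟩
        rw [hcardM, Nat.card_congr (Subgroup.subgroupOfEquivOfLe hEP).toEquiv, ← Mw.card_mul_index, mul_comm 2]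
        refine Nat.mul_le_mul_left _ (Nat.two_le_iff _ |>.mpr ⟨Subgroup.index_ne_zero_of_finite, fun h1 => ?_⟩)
        refine hwz (hcen x fun e he => ?_)
        have hk : (⟨e, he⟩ : E) ∈ Mw := Subgroup.index_eq_one.mp h1 ▸ Subgroup.mem_top _
        exact Subgroup.mem_centralizer_singleton_iff.mp hk
      · obtain ⟨hmE, hmq⟩ := (hM m).mp hm
        have hm' : x⁻¹ * (m : G) * x ∈ (Subgroup.centralizer ({z} : Set G)) := (hstab _ x).mp hmq
        change CfsgLib.TransferOrbit.cval χ (m : G) (x : G ⧸ (Subgroup.centralizer ({z} : Set G))) = 1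
        rw [CfsgLib.TransferOrbit.cval_eq χ (g := (m : G)) (x := x) hmq hm']
        exact if_pos (hgood x hwE hwz _ hmE ((hfix _).mp hmq) hm')
    left
    obtain ⟨hi1, hi2⟩ := hindex w hwC (by
      rw [hw, show x * z * x⁻¹ * (x * z * x⁻¹) = x * (z * z) * x⁻¹ by group, ← pow_two, ← hz, pow_orderOf_eq_one]
      simp) hwE
    set Mw := (Subgroup.centralizer ({w} : Set G)).subgroupOf E
    have hcardM : Nat.card M = Nat.card Mw := by
      refine Nat.card_congr ⟨fun g => ⟨⟨(g : P), ((hM g).mp g.2).1⟩, ?_⟩, fun k => ⟨⟨(k : E), hEP (k : E).2⟩, ?_⟩,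
        fun g => rfl, fun k => rfl⟩
      · exact Subgroup.mem_centralizer_singleton_iff.mpr ((hfix _).mp ((hM g).mp g.2).2)
      · exact (hM _).mpr ⟨(k : E).2, (hfix _).mpr (Subgroup.mem_centralizer_singleton_iff.mp k.2)⟩
    have hcardE : Nat.card (E.subgroupOf P) = Nat.card E := Nat.card_congr (Subgroup.subgroupOfEquivOfLe hEP).toEquiv
    rw [hcardM, hcardE, ← Mw.card_mul_index, mul_comm 8, mul_comm 4]
    obtain ⟨i, -, hi⟩ := (Nat.dvd_prime_pow Nat.prime_two).mp (hcard ▸ Mw.index_dvd_card)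
    rcases Nat.lt_or_ge i 3 with hlt | hge
    · right
      have hi4 : Mw.index = 4 := by
        interval_cases i
        · exact absurd hi hi1
        · exact absurd hi hi2
        · exact hi
      refine ⟨by rw [hi4], ?_⟩
      -- the subgroup fixing the point is not abelian
      obtain ⟨u, hu, v, hv, huv⟩ := hfour Mw hi4
      have hst : ∀ k : E, k ∈ Mw → ((k : E) : G) • (x : G ⧸ (Subgroup.centralizer ({z} : Set G))) = x := fun k hk =>
        (hfix _).mpr (Subgroup.mem_centralizer_singleton_iff.mp hk)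
      have hz'' : (⟨(u : G), hEP u.2⟩ : P) * ⟨(v : G), hEP v.2⟩ =
          ⟨z, hzP⟩ * (⟨(v : G), hEP v.2⟩ * ⟨(u : G), hEP u.2⟩) := Subtype.ext
        ((hcomm u u.2 v v.2).resolve_left fun h => huv (Subtype.ext h))
      have hu' : (⟨(u : G), hEP u.2⟩ : P) • (x : G ⧸ (Subgroup.centralizer ({z} : Set G))) = x := hst u hu
      have hv' : (⟨(v : G), hEP v.2⟩ : P) • (x : G ⧸ (Subgroup.centralizer ({z} : Set G))) = x := hst v hv
      have h1 := congrArg (fun g => c g (x : G ⧸ (Subgroup.centralizer ({z} : Set G)))) hz''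
      simp only [hc, mul_smul, hu', hv'] at h1
      rw [mul_comm (c ⟨(u : G), _⟩ _)] at h1
      exact mul_eq_right.mp h1.symm
    · left
      rw [hi]
      exact Nat.mul_le_mul_left _ (le_trans (by norm_num : 8 ≤ 2 ^ 3) (Nat.pow_le_pow_right (by norm_num) hge))
  have hkill : ∀ g : P, MonoidHom.transfer χ (g : G) = χ ⟨g, hPC g.2⟩ := by
    intro g
    have horb : ∀ q, q ≠ ((1 : G) : G ⧸ (Subgroup.centralizer ({z} : Set G))) → ∀ g : P, ∏ x ∈ CfsgLib.TransferOrbit.orb (⊤ : Subgroup P) q, c g x = 1 :=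
      fun q hq g => CfsgLib.ExtraTransfer.orbit_eq_one hc hnil hA (E.subgroupOf P) (z := ⟨z, hzP⟩) hzE
        (fun g => Subtype.ext (Subgroup.mem_centralizer_singleton_iff.mp (hPC g.2))) hzz2
        (fun k hk => (hsq k hk).imp (fun h => Subtype.ext h) fun h => Subtype.ext h)
        (fun a ha b hb => by
          rcases hcomm b⁻¹ (inv_mem hb) a⁻¹ (inv_mem ha) with h | h
          · refine Or.inl (Subtype.ext ?_)
            show (b : G)⁻¹ * (a : G)⁻¹ * b * a = 1
            rw [h]; group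
          · refine Or.inr (Subtype.ext ?_)
            show (b : G)⁻¹ * (a : G)⁻¹ * b * a = z
            rw [h]; group)
        q (hcase q hq) g
    rw [CfsgLib.TransferOrbit.transfer_eq_prod,
      show ∏ q : G ⧸ (Subgroup.centralizer ({z} : Set G)), CfsgLib.TransferOrbit.cval χ (g : G) q = c g ((1 : G) : G ⧸ (Subgroup.centralizer ({z} : Set G))) from
        CfsgLib.TransferOrbit.prod_univ_eq hc ((1 : G) : G ⧸ (Subgroup.centralizer ({z} : Set G))) hq₀ horb g]
    have hm : (1 : G)⁻¹ * (g : G) * 1 ∈ (Subgroup.centralizer ({z} : Set G)) := by rw [inv_one, one_mul, mul_one]; exact hPC g.2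
    refine (CfsgLib.TransferOrbit.cval_eq χ (g := (g : G)) (x := (1 : G)) (hq₀ g) hm).trans ?_
    exact congrArg χ (Subtype.ext (by group))
  -- the transfer extends the character
  set V := MonoidHom.transfer χ with hV
  let δ : (Subgroup.centralizer ({z} : Set G)) →* Multiplicative (ZMod 2) := V.comp (Subgroup.centralizer ({z} : Set G)).subtype * χ
  have hδ : (S : Subgroup (Subgroup.centralizer ({z} : Set G))) ≤ δ.ker := fun s hs => by
    rw [MonoidHom.mem_ker]
    change V (s : G) * χ s = 1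
    rw [hV, hkill ⟨(s : G), ⟨s, hs, rfl⟩⟩]
    exact hA _
  have hδ1 : ∀ c : (Subgroup.centralizer ({z} : Set G)), δ c = 1 := by
    have hi := Subgroup.index_dvd_of_le hδ
    rw [Subgroup.index_ker] at hi
    have hd : Nat.card δ.range ∣ 2 := by
      have := Subgroup.card_subgroup_dvd_card δ.range
      rwa [Nat.card_eq_fintype_card (α := Multiplicative (ZMod 2))] at this
    rcases (Nat.dvd_prime Nat.prime_two).mp hd with h | h
    · intro c
      have : δ c ∈ δ.range := ⟨c, rfl⟩
      rwa [Subgroup.card_eq_one.mp h, Subgroup.mem_bot] at this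
    · rw [h] at hi
      exact absurd hi S.not_dvd_index
  have hVχ : ∀ c : (Subgroup.centralizer ({z} : Set G)), V (c : G) = χ c := fun c =>
    mul_right_cancel ((show V (c : G) * χ c = 1 from hδ1 c).trans (hA _).symm)
  have hχ1 : ∀ c : (Subgroup.centralizer ({z} : Set G)), χ c = 1 ↔ c ∈ K' := fun c => by
    show (if c ∈ K' then (1 : Multiplicative (ZMod 2)) else Multiplicative.ofAdd 1) = 1 ↔ _
    split
    · simpa
    · next h => exact iff_of_false (fun e => one_ne_zero (ofAdd_eq_one.mp e)) h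
  refine ⟨V.ker, ?_, fun h hh => by rw [MonoidHom.mem_ker, ← hχ1]; rw [show V h = χ ⟨h, hh⟩ from hVχ ⟨h, hh⟩]⟩
  obtain ⟨c, hc'⟩ : ∃ c : (Subgroup.centralizer ({z} : Set G)), c ∉ K' := by
    by_contra hall
    push Not at hall
    have : K' = ⊤ := eq_top_iff.mpr fun c _ => hall c
    rw [this, Subgroup.index_top] at hK'
    norm_num at hK'
  have hd : Nat.card V.range ∣ 2 := by
    have := Subgroup.card_subgroup_dvd_card V.range
    rwa [Nat.card_eq_fintype_card (α := Multiplicative (ZMod 2))] at this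
  rw [Subgroup.index_ker]
  refine ((Nat.dvd_prime Nat.prime_two).mp hd).resolve_left fun h => hc' ((hχ1 c).mp ?_)
  have : V (c : G) ∈ V.range := ⟨c, rfl⟩
  rwa [Subgroup.card_eq_one.mp h, Subgroup.mem_bot, hVχ] at this

end CfsgLib.FiTwoType
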