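/-
The hypotheses of the transfer for the core; a subgroup of index two of the centraliser extends.
-/
import Cfsg.Agent.Lib.FiTwoType.Fusion
import Cfsg.Agent.Lib.FiTwoType.Transfer

set_option autoImplicit false
set_option linter.unusedVariables false
set_option linter.unusedSectionVars false
set_option linter.style.haveILetI false

namespace CfsgLib.FiTwoType

namespace Base

variable {G : Type*} [Group G] [Finite G] {X : Type*} [Group X] (B : Base G X)

/-- A subgroup of index four of the core is not abelian. -/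
theorem quarter_nonab (A : Subgroup G) (hA : A ≤ B.J) (hc : 256 ≤ Nat.card A) :
    ∃ u ∈ A, ∃ v ∈ A, ¬ Commute u v := by
  classical
  by_contra hno
  push Not at hno
  let S : Finset G := {1, B.z, B.d, B.d * B.z}
  have memS : ∀ {m}, B.Z m → m ∈ S := fun h => by simpa [S, Z] using h
  have out : ∀ T : Finset G, T.card < 256 → ∃ a ∈ A, a ∉ T := by
    intro T hT
    by_contra h
    push Not at h
    have := Nat.card_le_card_of_injective (fun a : ↥A => (⟨a.1, h a a.2⟩ : T)) fun a b e =>
      Subtype.ext (congrArg (fun w : T => w.1) e)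
    rw [Nat.card_eq_finsetCard] at this
    omega
  have hS : S.card ≤ 4 := Finset.card_le_four
  obtain ⟨x, hx, hxS⟩ := out S (by omega)
  have hxZ : ¬ B.Z x := fun h => hxS (memS h)
  obtain ⟨y, hy, hyS⟩ := out (S ∪ S.image (x * ·)) (by
    have := Finset.card_union_le S (S.image (x * ·))
    have := Finset.card_image_le (s := S) (f := (x * ·))
    omega)
  have hyZ : ¬ B.Z y := fun h => hyS (Finset.mem_union_left _ (memS h))
  -- both differences are non-empty
  have diff : ∀ {p q : G}, p ∈ A → q ∈ A → ¬ B.Z p → ¬ B.Z q → (∀ ζ, B.Z ζ → q ≠ p * ζ) →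
      ∃ j ∈ B.J, Commute j p ∧ ¬ Commute j q := by
    intro p q hp hq hpZ hqZ hne
    by_contra h
    push Not at h
    rcases B.cc (hA hp) hpZ (hA hq) fun j hj hjp => (h j hj hjp).symm with h1 | h1
    · exact hqZ h1
    · have hp2 : p * p = 1 ∨ p * p = B.z := B.sq2 p (hA hp)
      rcases hp2 with e | e
      · refine hne _ h1 ?_
        rw [← mul_assoc, (hno p hp q hq).eq, mul_assoc, e, mul_one]
      · refine hne _ (B.Z_mul h1 B.Z_z) ?_
        calc q = q * (B.z * B.z) := by rw [B.zz, mul_one]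
          _ = q * (p * p) * B.z := by rw [e, mul_assoc]
          _ = (p * q) * p * B.z := by rw [← (hno q hq p hp).eq]; group
          _ = p * (q * p * B.z) := by group
  obtain ⟨j2, hj2, j2x, j2y⟩ := diff hx hy hxZ hyZ fun ζ hζ e =>
    hyS (Finset.mem_union_right _ (Finset.mem_image.mpr ⟨ζ, memS hζ, e.symm⟩))
  obtain ⟨j1, hj1, j1y, j1x⟩ := diff hy hx hyZ hxZ fun ζ hζ e =>
    hyS (Finset.mem_union_right _ (Finset.mem_image.mpr ⟨ζ, memS hζ, by rw [e, mul_assoc, B.Z_sq hζ, mul_one]⟩))
  set C := B.J ⊓ Subgroup.centralizer ({x, y} : Set G)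
  have memC : ∀ {j}, j ∈ C ↔ j ∈ B.J ∧ Commute j x ∧ Commute j y := fun {j} => by
    show j ∈ B.J ∧ j ∈ Subgroup.centralizer ({x, y} : Set G) ↔ _
    rw [Subgroup.mem_centralizer_iff]
    simp only [Set.forall_mem_insert, Set.mem_singleton_iff, forall_eq]
    exact and_congr_right' (and_congr eq_comm eq_comm)
  have hAC : A ≤ C := fun a ha => memC.mpr ⟨hA ha, hno a ha x hx, hno a ha y hy⟩
  -- the four cosets
  let f : ↥C × Bool × Bool → ↥B.J := fun p => ⟨(if p.2.1 then j1 else 1) * (if p.2.2 then j2 else 1) * p.1,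
    mul_mem (mul_mem (by split <;> [exact hj1; exact one_mem _]) (by split <;> [exact hj2; exact one_mem _]))
      (memC.mp p.1.2).1⟩
  have canc : ∀ {a b c : G}, Commute (a * b) c → Commute b c → Commute a c := fun h1 h2 => by
    have := h1.mul_left h2.inv_left
    rwa [mul_inv_cancel_right] at this
  have canc' : ∀ {a b c : G}, Commute (a * b) c → Commute a c → Commute b c := fun h1 h2 => by
    have := h2.inv_left.mul_left h1
    rwa [inv_mul_cancel_left] at this
  have finj : Function.Injective f := by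
    rintro ⟨c, p, q⟩ ⟨c', p', q'⟩ e
    have e' : (if p then j1 else 1) * (if q then j2 else 1) * (c : G) =
        (if p' then j1 else 1) * (if q' then j2 else 1) * (c' : G) := congrArg Subtype.val e
    have px : ∀ (p q : Bool) (c : ↥C), Commute ((if p then j1 else 1) * (if q then j2 else 1) * (c : G)) x ↔ p = false := by
      intro p q c
      constructor
      · intro h
        have h' := canc (canc h (memC.mp c.2).2.1) (by cases q <;> simp [j2x])
        cases p
        · rfl
        · exact absurd h' j1x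
      · rintro rfl
        exact ((Commute.one_left x).mul_left (by cases q <;> simp [j2x])).mul_left (memC.mp c.2).2.1
    have py : ∀ (p q : Bool) (c : ↥C), Commute ((if p then j1 else 1) * (if q then j2 else 1) * (c : G)) y ↔ q = false := by
      intro p q c
      constructor
      · intro h
        have h' := canc' (canc h (memC.mp c.2).2.2) (by cases p <;> simp [j1y])
        cases q
        · rfl
        · exact absurd h' j2y
      · rintro rfl
        exact ((show Commute (if p then j1 else 1) y by cases p <;> simp [j1y]).mul_left (Commute.one_left y)).mul_left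
          (memC.mp c.2).2.2
    have ep : p = p' := by
      have h1 := (px p q c).symm
      rw [e'] at h1
      have h1' : (p = false) ↔ (p' = false) := h1.trans (px p' q' c')
      clear e e' h1
      revert h1'
      cases p <;> cases p' <;> simp
    have eq : q = q' := by
      have h1 := (py p q c).symm
      rw [e'] at h1
      have h1' : (q = false) ↔ (q' = false) := h1.trans (py p' q' c')
      clear e e' h1
      revert h1'
      cases q <;> cases q' <;> simp
    subst ep eq
    rw [Subtype.ext (mul_left_cancel e')]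
  have hC4 : Nat.card C * 4 ≤ 1024 := by
    have := Nat.card_le_card_of_injective f finj
    rw [Nat.card_prod, Nat.card_prod, B.card, Nat.card_eq_fintype_card (α := Bool), Fintype.card_bool] at this
    omega
  have eAC := Subgroup.eq_of_le_of_card_ge hAC (by omega)
  have cov : ∀ j ∈ B.J, ∃ c ∈ A, ∃ p q : Bool, j = (if p then j1 else 1) * (if q then j2 else 1) * c := by
    intro j hj
    have hle : Nat.card C * 4 = 1024 := by have := Subgroup.card_le_of_le hAC; omega
    obtain ⟨⟨c, p, q⟩, e⟩ := (Nat.bijective_iff_injective_and_card f).mpr ⟨finj, by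
      rw [Nat.card_prod, Nat.card_prod, B.card, Nat.card_eq_fintype_card (α := Bool), Fintype.card_bool]; omega⟩ |>.2 ⟨j, hj⟩
    exact ⟨c, eAC ▸ c.2, p, q, (congrArg Subtype.val e).symm⟩
  obtain ⟨w, hw, hwS⟩ := out ((S ∪ S.image (x * ·)) ∪ (S ∪ S.image (x * ·)).image (y * ·)) (by
    have := Finset.card_union_le (S ∪ S.image (x * ·)) ((S ∪ S.image (x * ·)).image (y * ·))
    have := Finset.card_image_le (s := S ∪ S.image (x * ·)) (f := (y * ·))
    have := Finset.card_union_le S (S.image (x * ·))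
    have := Finset.card_image_le (s := S) (f := (x * ·))
    omega)
  obtain ⟨px, hpx⟩ : ∃ px : G, px = if Commute w j1 then 1 else x := ⟨_, rfl⟩
  obtain ⟨py, hpy⟩ : ∃ py : G, py = if Commute w j2 then 1 else y := ⟨_, rfl⟩
  have pxA : px ∈ A := by rw [hpx]; split <;> [exact one_mem A; exact hx]
  have pyA : py ∈ A := by rw [hpy]; split <;> [exact one_mem A; exact hy]
  set m := py * px * w with hm
  have hmA : m ∈ A := mul_mem (mul_mem pyA pxA) hw
  have c1 : Commute m j1 := by
    rw [hm, mul_assoc]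
    refine Commute.mul_left (by rw [hpy]; split <;> [exact Commute.one_left _; exact j1y.symm]) ?_
    by_cases h : Commute w j1
    · rw [hpx, if_pos h, one_mul]; exact h
    · rw [hpx, if_neg h]; exact B.both (hA hx) (hA hw) hj1 (fun h' => j1x h'.symm) h
  have c2 : Commute m j2 := by
    rw [hm, mul_assoc, ← mul_assoc, (hno py pyA px pxA).eq, mul_assoc]
    refine Commute.mul_left (by rw [hpx]; split <;> [exact Commute.one_left _; exact j2x.symm]) ?_
    by_cases h : Commute w j2
    · rw [hpy, if_pos h, one_mul]; exact h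
    · rw [hpy, if_neg h]; exact B.both (hA hy) (hA hw) hj2 (fun h' => j2y h'.symm) h
  have hmZ : B.Z m := B.centre m (hA hmA) fun j hj => by
    obtain ⟨c, hc, p, q, rfl⟩ := cov j hj
    refine (Commute.mul_right ?_ ?_).mul_right (hno m hmA c hc)
    · split <;> [exact c1; exact Commute.one_right _]
    · split <;> [exact c2; exact Commute.one_right _]
  refine hwS ?_
  have eP : ∀ {p q : G}, p ∈ A → q = 1 ∨ q = p → ∃ r : G, B.Z r ∧ q⁻¹ = q * r := by
    intro p q hp hq
    rcases hq with rfl | rfl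
    · exact ⟨1, B.Z_one, by group⟩
    · rcases B.sq2 q (hA hp) with e | e
      · exact ⟨1, B.Z_one, by rw [mul_one]; exact inv_eq_of_mul_eq_one_right e⟩
      · exact ⟨B.z, B.Z_z, inv_eq_of_mul_eq_one_right (by rw [← mul_assoc, e, B.zz])⟩
  obtain ⟨r, hr, er⟩ := eP hx (by rw [hpx]; split <;> simp : px = 1 ∨ px = x)
  obtain ⟨r', hr', er'⟩ := eP hy (by rw [hpy]; split <;> simp : py = 1 ∨ py = y)
  have ew : w = py * (px * (r * r' * m)) := by
    have e0 : w = px⁻¹ * py⁻¹ * m := by rw [hm]; group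
    calc w = px * r * (py * r') * m := by rw [e0, er, er']
      _ = px * (r * py) * (r' * m) := by group
      _ = px * py * (r * r' * m) := by rw [(B.Z_comm hr (hA pyA)).eq]; group
      _ = py * (px * (r * r' * m)) := by rw [(hno px pxA py pyA).eq, mul_assoc]
  have hZ : B.Z (r * r' * m) := B.Z_mul (B.Z_mul hr hr') hmZ
  rw [ew, hpx, hpy]
  split <;> split <;> simp only [one_mul, Finset.mem_union, Finset.mem_image]
  · exact Or.inl (Or.inl (memS hZ))
  · exact Or.inl (Or.inr ⟨_, memS hZ, rfl⟩)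
  · exact Or.inr ⟨_, Or.inl (memS hZ), rfl⟩
  · exact Or.inr ⟨_, Or.inr ⟨_, memS hZ, rfl⟩, rfl⟩

/-- An involution outside the core fixes less than half of it. -/
theorem half_not {w : G} (hwC : Commute w B.z) (hw2 : w * w = 1) (hwJ : w ∉ B.J) :
    ((Subgroup.centralizer ({w} : Set G)).subgroupOf B.J).index ≠ 1 ∧
      ((Subgroup.centralizer ({w} : Set G)).subgroupOf B.J).index ≠ 2 := by
  classical
  set M := (Subgroup.centralizer ({w} : Set G)).subgroupOf B.J with hM
  have memM : ∀ k : ↥B.J, k ∈ M ↔ Commute (k : G) w := fun k => by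
    rw [hM, Subgroup.mem_subgroupOf, Subgroup.mem_centralizer_singleton_iff]; rfl
  refine ⟨fun h1 => hwJ (B.selfcent w hwC fun j hj =>
    ((memM ⟨j, hj⟩).mp (Subgroup.index_eq_one.mp h1 ▸ Subgroup.mem_top _)).symm), fun h2 => hwJ ?_⟩
  have fixc : ∀ {j}, j ∈ B.J → Commute j w → B.Z (w * j * w⁻¹ * j⁻¹) := fun {j} hj hjw => by
    rw [← hjw.eq, mul_inv_cancel_right, mul_inv_cancel]; exact B.Z_one
  have hzw : (⟨B.z, B.zJ⟩ : ↥B.J) ∈ M := (memM _).mpr hwC.symm
  have both' : ∀ {j k : ↥B.J}, j ∉ M → k ∉ M → j⁻¹ * k ∈ M := fun hj hk =>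
    (Subgroup.mul_mem_iff_of_index_two h2).mpr (iff_of_false (fun h => hj (inv_mem_iff.mp h)) hk)
  by_cases hd : (⟨B.d, B.dJ⟩ : ↥B.J) ∈ M
  · obtain ⟨j0, hj0⟩ : ∃ j0, j0 ∉ M := by
      by_contra h
      push Not at h
      rw [show M = ⊤ from eq_top_iff.mpr fun j _ => h j, Subgroup.index_top] at h2
      norm_num at h2
    set m := (j0 : G)⁻¹ * (w * j0 * w⁻¹) with hm
    have hmJ : m ∈ B.J := mul_mem (inv_mem j0.2) (B.conjJ w hwC _ j0.2)
    have hj0' : w * (j0 : G) * w⁻¹ = j0 * m := by rw [hm]; group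
    have hwi : w⁻¹ = w := inv_eq_of_mul_eq_one_right hw2
    have hmM : ∀ k : ↥B.J, k ∈ M → Commute m k := by
      intro k hk
      have hk' : Commute (k : G) w := (memM k).mp hk
      have h3 : Commute ((j0 : G) * k * (j0 : G)⁻¹) w := by
        rcases B.comm2 _ j0.2 _ k.2 with e | e
        · rw [e.eq, mul_inv_cancel_right]; exact hk'
        · rw [e, show B.z * ((k : G) * j0) * (j0 : G)⁻¹ = B.z * k by group]; exact hwC.symm.mul_left hk'
      show m * k = k * m
      calc m * k = (j0 : G)⁻¹ * (w * j0 * w⁻¹ * k * (w * j0 * w⁻¹)⁻¹) * (w * j0 * w⁻¹) := by rw [hm]; group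
        _ = (j0 : G)⁻¹ * (w * (j0 * (w⁻¹ * k * w) * (j0 : G)⁻¹) * w⁻¹) * (w * j0 * w⁻¹) := by group
        _ = (j0 : G)⁻¹ * (j0 * k * (j0 : G)⁻¹) * (w * j0 * w⁻¹) := by
          rw [show w⁻¹ * (k : G) * w = k by rw [mul_assoc, hk'.eq, inv_mul_cancel_left], ← h3.eq, mul_inv_cancel_right]
        _ = _ := by rw [hm]; group
    by_cases hmZ : B.Z m
    · refine B.ker_mod hwC fun j hj => ?_
      by_cases hjM : (⟨j, hj⟩ : ↥B.J) ∈ M
      · exact fixc hj ((memM _).mp hjM)
      · have hk : Commute ((j0 : G)⁻¹ * j) w := (memM _).mp (both' hj0 hjM)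
        have e : w * j * w⁻¹ = m * j := by
          calc w * j * w⁻¹ = w * j0 * w⁻¹ * (w * ((j0 : G)⁻¹ * j) * w⁻¹) := by group
            _ = j0 * m * ((j0 : G)⁻¹ * j) := by rw [hj0', ← hk.eq, mul_inv_cancel_right]
            _ = m * j0 * ((j0 : G)⁻¹ * j) := by rw [(B.Z_comm hmZ j0.2).eq]
            _ = m * j := by group
        rw [e, mul_inv_cancel_right]; exact hmZ
    · obtain ⟨j1, hj1, hj1m⟩ := B.noncomm hmJ hmZ
      have hcM : ∀ {k}, k ∈ B.J → Commute k m → Commute k w := by
        intro k hk hkm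
        by_contra hkw
        have hk' : (⟨k, hk⟩ : ↥B.J) ∉ M := fun h => hkw ((memM _).mp h)
        by_cases h1 : (⟨j1, hj1⟩ : ↥B.J) ∈ M
        · exact hj1m (hmM _ h1)
        · refine hj1m ?_
          have h4 := hkm.symm.mul_right (hmM _ (both' hk' h1))
          simpa using h4
      have hwm : Commute m w := hcM hmJ (Commute.refl _)
      have hm2 : m * m = 1 := by
        have e1 : (j0 : G) = j0 * m * m := by
          calc (j0 : G) = w * (w * j0 * w⁻¹) * w⁻¹ := by
                rw [show w * (w * (j0 : G) * w⁻¹) * w⁻¹ = (w * w) * j0 * (w * w)⁻¹ by group, hw2, one_mul, inv_one,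
                  mul_one]
            _ = w * j0 * w⁻¹ * (w * m * w⁻¹) := by
                rw [hj0', show w * ((j0 : G) * m) * w⁻¹ = w * j0 * w⁻¹ * (w * m * w⁻¹) by group, hj0']

            _ = _ := by rw [hj0', ← hwm.eq, mul_inv_cancel_right]
        rw [mul_assoc, left_eq_mul] at e1
        exact e1
      exact B.hyperplane hmJ hm2 hmZ hwC fun k hk hkm => fixc hk (hcM hk hkm)
  · -- the centre is moved
    refine B.ker_mod hwC fun j hj => ?_
    by_cases hjM : (⟨j, hj⟩ : ↥B.J) ∈ M
    · exact fixc hj ((memM _).mp hjM)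
    · have hk : Commute (B.d⁻¹ * j) w := (memM _).mp (both' hd hjM)
      have hζ : B.Z (w * B.d * w⁻¹) := B.Z_conj hwC B.Z_d
      have e : w * j * w⁻¹ * j⁻¹ = w * B.d * w⁻¹ * B.d⁻¹ := by
        calc w * j * w⁻¹ * j⁻¹ = w * B.d * w⁻¹ * (w * (B.d⁻¹ * j) * w⁻¹) * j⁻¹ := by group
          _ = _ := by rw [← hk.eq]; group
      rw [e]; exact B.Z_mul hζ (B.Z_inv B.Z_d)

theorem orderOf_z : orderOf B.z = 2 := orderOf_eq_prime (by rw [pow_two, B.zz]) B.z1

theorem J_le_C : B.J ≤ Subgroup.centralizer ({B.z} : Set G) := fun j hj => B.mem_C.mpr (B.Jz j hj)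

theorem four (A : Subgroup ↥B.J) (hA : A.index = 4) : ∃ u ∈ A, ∃ v ∈ A, ¬ u * v = v * u := by
  have hc : Nat.card (A.map B.J.subtype) = 256 := by
    rw [← Nat.card_congr (A.equivMapOfInjective _ B.J.subtype_injective).toEquiv]
    have h := A.index_mul_card
    rw [hA, B.card] at h
    omega
  obtain ⟨_, ⟨u, hu, rfl⟩, _, ⟨v, hv, rfl⟩, h⟩ := B.quarter_nonab _ (Subgroup.map_subtype_le A) hc.ge
  exact ⟨u, hu, v, hv, fun e => h (congrArg Subtype.val e)⟩

/-- The transfer for the core. -/
theorem extend_K (K' : Subgroup ↥(Subgroup.centralizer ({B.z} : Set G))) (hK' : K'.index = 2)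
    (hgood : ∀ g : G, g * B.z * g⁻¹ ∈ B.J → g * B.z * g⁻¹ ≠ B.z → ∀ e ∈ B.J, Commute e (g * B.z * g⁻¹) →
      ∀ hm : g⁻¹ * e * g ∈ Subgroup.centralizer ({B.z} : Set G),
        (⟨g⁻¹ * e * g, hm⟩ : ↥(Subgroup.centralizer ({B.z} : Set G))) ∈ K') :
    ∃ G0 : Subgroup G, G0.index = 2 ∧ ∀ (h : G) (hh : h ∈ Subgroup.centralizer ({B.z} : Set G)),
      h ∈ G0 ↔ (⟨h, hh⟩ : ↥(Subgroup.centralizer ({B.z} : Set G))) ∈ K' :=
  transfer_two B.orderOf_z B.J_le_C B.zJ (fun g hg e he => B.conjJ g (B.mem_C.mp hg) e he)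
    (IsPGroup.of_card (n := 10) (show Nat.card B.J = 2 ^ 10 by rw [B.card]; norm_num)) B.sq2 B.comm2
    (fun x hx => B.central_eq fun e he => (show Commute e (x * B.z * x⁻¹) from hx e he).symm)
    (fun w hw h2 hJ => B.half_not (B.mem_C.mp hw) h2 hJ) B.four (k := 10) (by rw [B.card]; norm_num) K' hK' hgood

/-- A subgroup of index two meeting the centraliser in the preimage of the simple group. -/
theorem extend_N (hgood : ∀ g : G, g * B.z * g⁻¹ ∈ B.J → g * B.z * g⁻¹ ≠ B.z → ∀ e ∈ B.J,
      Commute e (g * B.z * g⁻¹) → B.In (g⁻¹ * e * g)) :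
    ∃ G0 : Subgroup G, G0.index = 2 ∧ ∀ h, Commute h B.z → (h ∈ G0 ↔ B.In h) := by
  obtain ⟨G0, h1, h2⟩ := B.extend_K (B.N.comap B.π) (by rw [Subgroup.index_comap_of_surjective _ B.hπ, B.hN])
    fun g h1 h2 e he hc hm => by
      obtain ⟨_, h⟩ := hgood g h1 h2 e he hc
      exact Subgroup.mem_comap.mpr h
  refine ⟨G0, h1, fun h hh => (h2 h (B.mem_C.mpr hh)).trans ⟨fun e => ⟨_, Subgroup.mem_comap.mp e⟩, fun e => ?_⟩⟩
  obtain ⟨_, e⟩ := e
  exact Subgroup.mem_comap.mpr e

end Base

end CfsgLib.FiTwoType
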