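/-
The extraspecial case as a statement on coordinates: the involution is isolated or the group is the unitary group,
and the same below a subgroup of index two.
-/
import Cfsg.Agent.Lib.U6Chz.Aut.Build
import Cfsg.Agent.Lib.U6Chz.SixBuild
import Cfsg.Agent.Lib.U6Rec.Final
import Cfsg.Agent.Lib.LargeExtra.Odd

set_option autoImplicit false
set_option maxRecDepth 100000
set_option linter.unusedVariables false
set_option linter.style.haveILetI false

namespace CfsgLib.FiTwoType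

open CfsgLib.U6Chz (Chz)
open CfsgLib.U42Act (Natural)

/-- The involution is isolated or the action is in natural coordinates. -/
theorem isolated_or_natural {G : Type*} [Group G] [Finite G] (D : Chz G) {Y : Type*} [Group Y]
    (π : ↥(Subgroup.centralizer ({D.z} : Set G)) →* Y) (hπ : Function.Surjective π)
    (hk : ∀ h, π h = 1 ↔ (h : G) ∈ D.J) {F : Type*} [Field F] [Fintype F] (hF : Fintype.card F = 3)
    (e : Y ≃* Cfsg.PSp 2 F) :
    (∀ g : G, Commute (g * D.z * g⁻¹) D.z → g * D.z * g⁻¹ = D.z) ∨ Natural (CfsgLib.U6Chz.action D π hπ hk) := by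
  classical
  have hz : orderOf D.z = 2 := orderOf_eq_prime (by rw [pow_two, D.zz]) D.z1
  let H : Subgroup G := Subgroup.centralizer ({D.z} : Set G)
  have cz : ∀ h : H, Commute (h : G) D.z := fun h => Subgroup.mem_centralizer_singleton_iff.mp h.2
  have hH : ∀ {h : G}, Commute h D.z → h ∈ H := fun hh => Subgroup.mem_centralizer_singleton_iff.mpr hh
  haveI : Finite Y := Finite.of_surjective π hπ
  let A := CfsgLib.U6Chz.action D π hπ hk
  haveI : Finite Y := Finite.of_surjective π hπ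
  have hA : ∀ (h : G) (hh : Commute h D.z), ∀ v < 256, A.act (π ⟨h, hH hh⟩) v = D.act h v := fun h hh v hv =>
    CfsgLib.U6Chz.action_act D π hπ hk ⟨h, hH hh⟩ hv
  rcases CfsgLib.U42Act.ident hF e A with hn | ⟨ψ, ε, hε, hψ, hq, hfix, hlow⟩
  · exact Or.inr hn
  · -- six plus two coordinates
    refine Or.inl fun g hg => ?_
    have l2 : ∀ {v}, v < 64 → v < 256 := fun h => by omega
    have isom : ∀ x, ∃ g : CfsgLib.SixTwoType.XG, ∀ v < 64, A.act x (ψ v) = ψ (CfsgLib.SixTwoType.pw g v) := by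
      intro x
      choose w hw ew using hlow x
      let f : ℕ → ℕ := fun v => if hv : v < 64 then w v hv else 0
      have fe : ∀ v (hv : v < 64), f v = w v hv := fun v hv => dif_pos hv
      obtain ⟨g, hg⟩ := CfsgLib.SixTwoType.isom_psi f (fun v hv => by rw [fe v hv]; exact hw v hv)
        (fun u hu v hv => by
          have hl := Nat.xor_lt_two_pow (n := 6) hu hv
          rw [fe _ hl, fe u hu, fe v hv]
          refine hψ.inj _ _ (l2 (hw _ hl)) (CfsgLib.U42Act.xlt (l2 (hw _ hu)) (l2 (hw _ hv))) ?_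
          rw [hψ.add _ _ (l2 (hw _ hu)) (l2 (hw _ hv)), ← ew, ← ew, ← ew, hψ.add u v (l2 hu) (l2 hv),
            A.add x _ _ (hψ.lt u (l2 hu)) (hψ.lt v (l2 hv))])
        (fun v hv => by
          rw [fe v hv, ← (CfsgLib.SixTwoType.qW_split ε hε _ (l2 (hw v hv))).2.2.2.1 (hw v hv),
            ← (CfsgLib.SixTwoType.qW_split ε hε v (l2 hv)).2.2.2.1 hv, ← hq _ (l2 (hw v hv)), ← ew,
            A.q_inv x _ (hψ.lt v (l2 hv)), hq v (l2 hv)])
      exact ⟨g, fun v hv => by rw [ew v hv, hg v hv, fe v hv]⟩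
    choose s hs using isom
    have whole : ∀ x, (∀ v < 64, A.act x (ψ v) = ψ v) → x = 1 := fun x hx => A.faithful x fun w hw => by
      obtain ⟨v, hv, rfl⟩ := hψ.surj w hw
      obtain ⟨e1, l, lu, hu, -, -⟩ := CfsgLib.SixTwoType.parts v hv
      rw [e1, hψ.add _ _ (l2 l) lu, A.add x _ _ (hψ.lt _ (l2 l)) (hψ.lt _ lu), hx _ l, hfix x _ lu hu]
    have smul : ∀ x y, s (x * y) = s x * s y := by
      intro x y
      rw [← inv_mul_eq_one]
      refine CfsgLib.SixTwoType.pw_inj fun v hv => ?_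
      have : CfsgLib.SixTwoType.pw (s (x * y)) v = CfsgLib.SixTwoType.pw (s x * s y) v := by
        refine hψ.inj _ _ (CfsgLib.SixTwoType.pw_lt _ _) (CfsgLib.SixTwoType.pw_lt _ _) ?_
        rw [← hs _ v hv, A.mul x y _ (hψ.lt v (l2 hv)), hs y v hv, hs x _ (CfsgLib.SixTwoType.pw_six _ hv),
          CfsgLib.SixTwoType.pw_mul]
      rw [CfsgLib.SixTwoType.pw_mul, ← this, CfsgLib.SixTwoType.pw_inv_self _ (l2 hv)]
    let S : (Y) →* CfsgLib.SixTwoType.XG := MonoidHom.mk' s smul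
    have Sinj : Function.Injective S := by
      rw [← MonoidHom.ker_eq_bot_iff, eq_bot_iff]
      intro x hx
      refine Subgroup.mem_bot.mpr (whole x fun v hv => ?_)
      have e1 : s x = 1 := hx
      rw [hs x v hv, e1, CfsgLib.SixTwoType.pw_one (l2 hv)]
    haveI : IsSimpleGroup (Y) := by
      haveI := CfsgLib.U42Act.psp_simple hF
      haveI : Nontrivial (Y) := e.toEquiv.nontrivial
      exact IsSimpleGroup.isSimpleGroup_of_surjective e.symm.toMonoidHom e.symm.surjective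
    have cardX : Nat.card (Y) = 25920 := (Nat.card_congr e.toEquiv).trans (CfsgLib.U42Act.card_psp hF)
    have hrange : S.range = CfsgLib.SixTwoType.X0 := CfsgLib.U6Chz.range_X0 cardX S Sinj
    refine CfsgLib.U6Chz.six_isolated D hε hψ hq (fun h hh v hv => ?_) (fun h hh v hv hv0 => ⟨v, hv, hv0, ?_⟩)
      (fun g hg => ?_) (fun h hh hf => ?_) g hg
    · obtain ⟨w, hw, ew⟩ := hlow (π ⟨h, hH hh⟩) v hv
      exact ⟨w, hw, by rw [← hA h hh _ (hψ.lt v (l2 hv)), ew]⟩
    · rw [← hA h hh _ (hψ.lt v hv), hfix _ v hv hv0]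
    · rw [← hrange] at hg
      obtain ⟨x, rfl⟩ := hg
      obtain ⟨h, rfl⟩ := hπ x
      exact ⟨h.1, cz h, fun v hv => (hA _ (cz h) _ (hψ.lt v (l2 hv))).symm.trans (hs _ v hv),
        fun v hv hv0 => (hA _ (cz h) _ (hψ.lt v hv)).symm.trans (hfix _ v hv hv0)⟩
    · refine (hk ⟨h, hH hh⟩).mp (whole _ fun v hv => ?_)
      rw [hA h hh _ (hψ.lt v (l2 hv)), hf v hv]

/-- The involution is isolated or the group is the unitary group. -/
theorem isolated_or_u6 {G : Type*} [Group G] [Finite G] (D : Chz G) {Y : Type*} [Group Y]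
    (π : ↥(Subgroup.centralizer ({D.z} : Set G)) →* Y) (hπ : Function.Surjective π)
    (hk : ∀ h, π h = 1 ↔ (h : G) ∈ D.J) {F : Type*} [Field F] [Fintype F] (hF : Fintype.card F = 3)
    (e : Y ≃* Cfsg.PSp 2 F) {K : Type*} [Field K] [Fintype K] (hK : Fintype.card K = 4) :
    (∀ g : G, Commute (g * D.z * g⁻¹) D.z → g * D.z * g⁻¹ = D.z) ∨ Nonempty (G ≃* Cfsg.PSU 6 K 2) := by
  classical
  have hz : orderOf D.z = 2 := orderOf_eq_prime (by rw [pow_two, D.zz]) D.z1
  let H : Subgroup G := Subgroup.centralizer ({D.z} : Set G)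
  have cz : ∀ h : H, Commute (h : G) D.z := fun h => Subgroup.mem_centralizer_singleton_iff.mp h.2
  have hH : ∀ {h : G}, Commute h D.z → h ∈ H := fun hh => Subgroup.mem_centralizer_singleton_iff.mpr hh
  haveI : Finite Y := Finite.of_surjective π hπ
  let A := CfsgLib.U6Chz.action D π hπ hk
  haveI : Finite Y := Finite.of_surjective π hπ
  have hA : ∀ (h : G) (hh : Commute h D.z), ∀ v < 256, A.act (π ⟨h, hH hh⟩) v = D.act h v := fun h hh v hv =>
    CfsgLib.U6Chz.action_act D π hπ hk ⟨h, hH hh⟩ hv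
  rcases isolated_or_natural D π hπ hk hF e with hiso | ⟨ψ, r, hψ, hq, hrU, hrs, hr⟩
  · exact Or.inl hiso
  let ρ : G → ℕ := fun h => if hh : h ∈ H then r (π ⟨h, hh⟩) else CfsgLib.U6Rec.one
  have ρe : ∀ (h : G) (hh : Commute h D.z), ρ h = r (π ⟨h, hH hh⟩) := fun h hh => dif_pos (hH hh)
  let C : CfsgLib.U6Rec.Core G :=
    { z := D.z
      hz := hz
      J := D.J
      zJ := D.zJ
      Jz := D.Jz
      Jcard := D.Jcard
      conjJ := D.conjJ
      κ := fun g => CfsgLib.U6Chz.inverse ψ (D.κ g)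
      κ_lt := fun j hj => (CfsgLib.U6Chz.inverse_spec hψ (D.κ_lt j hj)).1
      κ_mul := fun a ha b hb => by
        rw [D.κ_mul a ha b hb, CfsgLib.U6Chz.inverse_add hψ (D.κ_lt a ha) (D.κ_lt b hb)]
      κ_ker := fun j hj => by rw [CfsgLib.U6Chz.inverse_zero hψ (D.κ_lt j hj), D.κ_ker j hj]
      κ_surj := fun v hv => by
        obtain ⟨j, hj, ej⟩ := D.κ_surj _ (hψ.lt v hv)
        exact ⟨j, hj, by rw [ej, CfsgLib.U6Chz.inverse_apply hψ hv]⟩
      sq := fun j hj => by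
        obtain ⟨l, el⟩ := CfsgLib.U6Chz.inverse_spec hψ (D.κ_lt j hj)
        rw [← hq _ l]
        show j * j = if A.q (ψ (CfsgLib.U6Chz.inverse ψ (D.κ j))) = 1 then D.z else 1
        rw [el]; exact D.sq hj
      ρ := ρ
      ρ_mem := fun h hh => by rw [ρe h hh]; exact hrU _
      κ_conj := fun h hh j hj => by
        obtain ⟨l, el⟩ := CfsgLib.U6Chz.inverse_spec hψ (D.κ_lt j hj)
        rw [← D.act_κ hh hj, ← hA h hh _ (D.κ_lt j hj)]
        conv_lhs => rw [← el]
        rw [hr _ _ l, CfsgLib.U6Chz.inverse_apply hψ (CfsgLib.U6Rec.app_lt _ _), ← ρe h hh]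
      ρ_surj := fun g hg => by
        obtain ⟨x, hx⟩ := hrs g hg
        obtain ⟨h, rfl⟩ := hπ x
        exact ⟨h.1, cz h, (ρe _ (cz h)).trans hx⟩
      cent := D.cent }
  by_cases hne : C.NonIsolated
  · exact Or.inr (C.iso_psu hne hK)
  · refine Or.inl fun g hg => ?_
    by_contra hn
    exact hne ⟨g, hg, hn⟩

/-- A subgroup of index two of the quotient: the involution is isolated or a subgroup of index two is unitary. -/
theorem isolated_or_sub {G : Type*} [Group G] [Finite G] (D : Chz G) {X : Type*} [Group X] [Finite X]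
    (π : ↥(Subgroup.centralizer ({D.z} : Set G)) →* X) (hπ : Function.Surjective π)
    (hk : ∀ h, π h = 1 ↔ (h : G) ∈ D.J) (N : Subgroup X) {F : Type*} [Field F] [Fintype F]
    (hF : Fintype.card F = 3) (hN : N.index = 2) (eN : Cfsg.PSp 2 F ≃* ↥N)
    (hcent : ∀ x : X, (∀ n ∈ N, x * n = n * x) → x = 1) {K : Type*} [Field K] [Fintype K] (hK : Fintype.card K = 4) :
    (∀ g : G, Commute (g * D.z * g⁻¹) D.z → g * D.z * g⁻¹ = D.z) ∨
      ∃ G0 : Subgroup G, G0.index = 2 ∧ Nonempty (↥G0 ≃* Cfsg.PSU 6 K 2) ∧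
        ∀ (h : G) (hh : h ∈ Subgroup.centralizer ({D.z} : Set G)), h ∈ G0 ↔ π ⟨h, hh⟩ ∈ N := by
  classical
  have hz : orderOf D.z = 2 := orderOf_eq_prime (by rw [pow_two, D.zz]) D.z1
  let H : Subgroup G := Subgroup.centralizer ({D.z} : Set G)
  have cz : ∀ h : H, Commute (h : G) D.z := fun h => Subgroup.mem_centralizer_singleton_iff.mp h.2
  have hext : Cfsg.IsExtraspecial 2 ↥D.J := by
    obtain ⟨j1, hj1, e1⟩ := D.κ_surj 1 (by norm_num)
    obtain ⟨c, hc, hnc⟩ := D.nc j1 hj1 (by rw [e1]; norm_num)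
    refine CfsgLargeExtra.isExtraspecial_of_ext2 (z := (⟨D.z, D.zJ⟩ : D.J)) (a := ⟨c, hc⟩) (b := ⟨j1, hj1⟩)
      ⟨fun h => D.z1 (congrArg Subtype.val h), fun g => ⟨fun hg => ?_, ?_⟩, fun g => ?_⟩
      (fun h => hnc (congrArg Subtype.val h))
    · by_cases h0 : D.κ g = 0
      · exact ((D.κ_ker g g.2).mp h0).imp (fun h => Subtype.ext h) fun h => Subtype.ext h
      · obtain ⟨c, hc, hn⟩ := D.nc g g.2 h0
        exact absurd (congrArg Subtype.val (Subgroup.mem_center_iff.mp hg ⟨c, hc⟩)) hn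
    · rintro (rfl | rfl)
      · exact one_mem _
      · exact Subgroup.mem_center_iff.mpr fun g => Subtype.ext (D.Jz g g.2).eq
    · exact (D.sq2 g g.2).imp (fun h => Subtype.ext h) fun h => Subtype.ext h
  have hC : Subgroup.centralizer (D.J : Set G) ≤ D.J := fun c hc =>
    D.cent c (Subgroup.mem_centralizer_iff.mp hc D.z D.zJ).symm fun j hj => (Subgroup.mem_centralizer_iff.mp hc j hj).symm
  rcases CfsgLib.U6Chz.Aut.extend D π hπ hk N hF hN eN hcent hz hext hC with h | ⟨G0, hi, hG0⟩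
  · exact Or.inl h
  haveI hG0n : G0.Normal := Subgroup.normal_of_index_eq_two hi
  have hzH : D.z ∈ H := Subgroup.mem_centralizer_singleton_iff.mpr rfl
  have zG0 : D.z ∈ G0 := (hG0 D.z hzH).mpr (by rw [(hk ⟨D.z, hzH⟩).mpr D.zJ]; exact one_mem _)
  let w : ↥G0 := ⟨D.z, zG0⟩
  set H1 := Subgroup.centralizer ({w} : Set ↥G0) with hH1
  have mH : ∀ h : H1, ((h : ↥G0) : G) ∈ H := fun h =>
    Subgroup.mem_centralizer_singleton_iff.mpr (congrArg Subtype.val (Subgroup.mem_centralizer_singleton_iff.mp h.2))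
  let f : ↥H1 →* ↥N := MonoidHom.mk' (fun h => ⟨π ⟨_, mH h⟩, (hG0 _ (mH h)).mp h.1.2⟩) fun a b => Subtype.ext (by
    show π ⟨_, _⟩ = π _ * π _
    rw [← map_mul]; rfl)
  have fin : ∀ h (hh : h ∈ H), π ⟨h, hh⟩ ∈ N → ∃ k : H1, ((k : ↥G0) : G) = h := fun h hh hn =>
    ⟨⟨⟨h, (hG0 h hh).mpr hn⟩, Subgroup.mem_centralizer_singleton_iff.mpr
      (Subtype.ext (Subgroup.mem_centralizer_singleton_iff.mp hh))⟩, rfl⟩
  have hf : Function.Surjective f := by
    rintro ⟨x, hx⟩
    obtain ⟨h, rfl⟩ := hπ x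
    obtain ⟨k, hk'⟩ := fin h h.2 hx
    exact ⟨k, Subtype.ext (congrArg π (Subtype.ext hk'))⟩
  have kerf : ∀ k : H1, k ∈ f.ker ↔ ((k : ↥G0) : G) ∈ D.J := fun k => by
    rw [MonoidHom.mem_ker, ← hk ⟨_, mH k⟩]
    exact ⟨fun h => congrArg Subtype.val h, fun h => Subtype.ext h⟩
  obtain ⟨D1, hD1, hJ1⟩ := CfsgLib.U6Chz.exists_chz w (by rw [← hz]; exact Subgroup.orderOf_mk _ _)
    (D.J.subgroupOf G0) (fun j hj => Subtype.ext (D.Jz _ hj).eq)
    (fun h hh j hj => D.conjJ _ (congrArg Subtype.val hh.eq) _ hj)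
    (by
      rw [Nat.card_congr (Subgroup.subgroupOfEquivOfLe ?_).toEquiv, D.Jcard]
      exact fun j hj => (hG0 j (Subgroup.mem_centralizer_singleton_iff.mpr (D.Jz j hj))).mpr
        (by rw [(hk ⟨j, Subgroup.mem_centralizer_singleton_iff.mpr (D.Jz j hj)⟩).mpr hj]; exact one_mem _))
    (fun j hj => (D.sq2 _ hj).imp (fun h => Subtype.ext h) fun h => Subtype.ext h) D.zJ
    (fun j hj hc => by
      by_cases h0 : D.κ (j : G) = 0
      · exact ((D.κ_ker _ hj).mp h0).imp (fun h => Subtype.ext h) fun h => Subtype.ext h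
      · obtain ⟨c, hcJ, hn⟩ := D.nc _ hj h0
        refine absurd ?_ hn
        exact congrArg Subtype.val (hc ⟨c, (hG0 c (Subgroup.mem_centralizer_singleton_iff.mpr (D.Jz c hcJ))).mpr
          (by rw [(hk ⟨c, Subgroup.mem_centralizer_singleton_iff.mpr (D.Jz c hcJ)⟩).mpr hcJ]; exact one_mem _)⟩ hcJ).eq)
    (fun h hh hc => D.cent _ (congrArg Subtype.val hh.eq) fun j hj =>
      congrArg Subtype.val (hc ⟨j, (hG0 j (Subgroup.mem_centralizer_singleton_iff.mpr (D.Jz j hj))).mpr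
        (by rw [(hk ⟨j, Subgroup.mem_centralizer_singleton_iff.mpr (D.Jz j hj)⟩).mpr hj]; exact one_mem _)⟩ hj).eq)
  have kerf' : ∀ k : H1, f k = 1 ↔ (k : ↥G0) ∈ D1.J := fun k => by rw [hJ1, ← MonoidHom.mem_ker]; exact kerf k
  let E1 : ↥(Subgroup.centralizer ({D1.z} : Set ↥G0)) ≃* ↥H1 := MulEquiv.subgroupCongr (by rw [hD1])
  rcases isolated_or_u6 D1 (f.comp E1.toMonoidHom) (hf.comp E1.surjective) (fun k => kerf' (E1 k)) hF eN.symm hK with r | r
  · refine Or.inl fun g hg => ?_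
    obtain ⟨a, ha, hna⟩ : ∃ a, ∃ ha : a ∈ H, a ∉ G0 := by
      by_contra h
      push Not at h
      rw [show N = ⊤ from eq_top_iff.mpr fun x _ => by
        obtain ⟨h', rfl⟩ := hπ x
        exact (hG0 h' h'.2).mp (h h' h'.2), Subgroup.index_top] at hN
      norm_num at hN
    obtain ⟨g0, hg0, eg⟩ : ∃ g0 ∈ G0, g0 * D.z * g0⁻¹ = g * D.z * g⁻¹ := by
      by_cases h : g ∈ G0
      · exact ⟨g, h, rfl⟩
      · refine ⟨g * a, (Subgroup.mul_mem_iff_of_index_two hi).mpr (iff_of_false h hna), ?_⟩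
        rw [show g * a * D.z * (g * a)⁻¹ = g * (a * D.z * a⁻¹) * g⁻¹ by group, (cz ⟨a, ha⟩).eq, mul_inv_cancel_right]
    have e := r ⟨g0, hg0⟩ (Subtype.ext (by
      show g0 * (D1.z : ↥G0) * g0⁻¹ * (D1.z : ↥G0) = (D1.z : ↥G0) * (g0 * (D1.z : ↥G0) * g0⁻¹)
      rw [hD1]; exact (eg ▸ hg : Commute (g0 * D.z * g0⁻¹) D.z)))
    have e' := congrArg (Subtype.val) e
    simp only [Subgroup.coe_mul, Subgroup.coe_inv, hD1] at e'
    exact eg ▸ e'
  · exact Or.inr ⟨G0, hi, r, hG0⟩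

end CfsgLib.FiTwoType
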