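/-
The centraliser of an involution of the centre of the core modulo that involution.
-/
import Cfsg.Agent.Lib.FiTwoType.Index
import Cfsg.Agent.Lib.FiTwoType.U6

set_option autoImplicit false
set_option maxRecDepth 100000
set_option linter.unusedVariables false
set_option linter.unusedSectionVars false
set_option linter.style.haveILetI false

namespace CfsgLib.FiTwoType

open CfsgLib.U6Chz (Chz)

namespace Base

variable {G : Type*} [Group G] [Finite G] {X : Type*} [Group X] (B : Base G X)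

/-- The involution is isolated in the centraliser of the second one. -/
def Iso : Prop := ∀ g : G, Commute g B.d → Commute (g * B.z * g⁻¹) B.z → g * B.z * g⁻¹ = B.z

/-- A double cover of the unitary group. -/
def Cover (C0 : Subgroup G) (K : Type*) [Field K] [Fintype K] : Prop :=
  ∃ ψ : ↥C0 →* Cfsg.PSU 6 K 2, Function.Surjective ψ ∧ ∀ g : ↥C0, ψ g = 1 ↔ (g : G) = 1 ∨ (g : G) = B.d

/-- The centraliser of the second involution. -/
def L : Subgroup G := Subgroup.centralizer ({B.d} : Set G)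

theorem mem_L {g : G} : g ∈ B.L ↔ Commute g B.d := Subgroup.mem_centralizer_singleton_iff

/-- The second involution in its centraliser. -/
def dL : ↥B.L := ⟨B.d, B.mem_L.mpr (Commute.refl _)⟩

/-- The first involution in that centraliser. -/
def zL : ↥B.L := ⟨B.z, B.mem_L.mpr B.dz_comm.symm⟩

instance : (Subgroup.zpowers B.dL).Normal := ⟨fun n hn g => by
  obtain ⟨i, rfl⟩ := Subgroup.mem_zpowers_iff.mp hn
  have h : Commute g B.dL := Subtype.ext (B.mem_L.mp g.2).eq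
  rw [(h.zpow_right i).eq, mul_inv_cancel_right]
  exact hn⟩

/-- The quotient. -/
abbrev Q := ↥B.L ⧸ Subgroup.zpowers B.dL

theorem mk_one {g : ↥B.L} : (QuotientGroup.mk g : B.Q) = 1 ↔ (g : G) = 1 ∨ (g : G) = B.d := by
  rw [QuotientGroup.eq_one_iff, Subgroup.mem_zpowers_iff]
  constructor
  · rintro ⟨i, rfl⟩
    have dd : B.dL * B.dL = 1 := Subtype.ext B.dd
    rcases Int.even_or_odd i with ⟨m, rfl⟩ | ⟨m, rfl⟩
    · left; rw [← two_mul, zpow_mul, zpow_two, dd, one_zpow]; rfl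
    · right; rw [zpow_add_one, zpow_mul, zpow_two, dd, one_zpow, one_mul]; rfl
  · rintro (h | h)
    exacts [⟨0, by rw [zpow_zero]; exact Subtype.ext h.symm⟩, ⟨1, by rw [zpow_one]; exact Subtype.ext h.symm⟩]

theorem mk_eq {g h : ↥B.L} : (QuotientGroup.mk g : B.Q) = QuotientGroup.mk h ↔
    (g : G) = h ∨ (g : G) = h * B.d := by
  rw [← inv_mul_eq_one, ← QuotientGroup.mk_inv, ← QuotientGroup.mk_mul, B.mk_one]
  show ((g : G)⁻¹ * h = 1 ∨ (g : G)⁻¹ * h = B.d) ↔ _
  rw [inv_mul_eq_one, inv_mul_eq_iff_eq_mul]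
  refine or_congr Iff.rfl ⟨fun e => ?_, fun e => ?_⟩
  · rw [e, mul_assoc, B.dd, mul_one]
  · rw [e, mul_assoc, B.dd, mul_one]

/-- The image of the involution. -/
def zb : B.Q := QuotientGroup.mk B.zL

/-- An element commuting with the image commutes with the involution. -/
theorem lift_comm {g : ↥B.L} (h : Commute (QuotientGroup.mk g : B.Q) B.zb) : Commute (g : G) B.z := by
  have e : (QuotientGroup.mk (g * B.zL) : B.Q) = QuotientGroup.mk (B.zL * g) := h.eq
  rcases B.mk_eq.mp e with e | e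
  · exact e
  · exfalso
    refine B.not_conj_dz (g : G) ?_
    have e' : (g : G) * B.z = B.z * g * B.d := e
    rw [e', mul_assoc B.z, (B.mem_L.mp g.2).eq, ← mul_assoc, mul_inv_cancel_right, B.dz_comm.eq]

theorem comm_mk {g : ↥B.L} (h : Commute (g : G) B.z) : Commute (QuotientGroup.mk g : B.Q) B.zb :=
  (show Commute g B.zL from Subtype.ext h.eq).map (QuotientGroup.mk' _)

/-- The core as a subgroup of the centraliser of the second involution. -/
theorem J_L : B.J ≤ B.L := fun j hj => B.mem_L.mpr (B.Jd j hj)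

/-- The image of the core. -/
def Jb : Subgroup B.Q := (B.J.subgroupOf B.L).map (QuotientGroup.mk' _)

theorem mem_Jb {g : ↥B.L} : (QuotientGroup.mk g : B.Q) ∈ B.Jb ↔ (g : G) ∈ B.J := by
  constructor
  · rintro ⟨j, hj, e⟩
    rcases B.mk_eq.mp (e.symm : (QuotientGroup.mk g : B.Q) = QuotientGroup.mk j) with e | e <;> rw [e]
    exacts [hj, mul_mem (show (j : G) ∈ B.J from hj) B.dJ]
  · exact fun h => ⟨g, h, rfl⟩

/-- The data of the quotient. -/
theorem exists_D : ∃ D : Chz B.Q, D.z = B.zb ∧ D.J = B.Jb := by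
  classical
  have hz1 : B.zb ≠ 1 := fun h => (B.mk_one.mp h).elim B.z1 fun e => B.dne e.symm
  refine CfsgLib.U6Chz.exists_chz B.zb (orderOf_eq_prime (p := 2) (by
      rw [pow_two, zb, ← QuotientGroup.mk_mul, B.mk_one]; exact Or.inl B.zz) hz1) B.Jb ?_ ?_ ?_ ?_ ?_ ?_ ?_
  · rintro _ ⟨j, hj, rfl⟩
    exact B.comm_mk (B.Jz _ hj)
  · rintro h hh _ ⟨j, hj, rfl⟩
    obtain ⟨g, rfl⟩ := QuotientGroup.mk_surjective h
    show QuotientGroup.mk g * QuotientGroup.mk j * (QuotientGroup.mk g)⁻¹ ∈ B.Jb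
    rw [← QuotientGroup.mk_inv, ← QuotientGroup.mk_mul, ← QuotientGroup.mk_mul, B.mem_Jb]
    exact B.conjJ _ (B.lift_comm hh) _ hj
  · let f : ↥B.J →* B.Q := (QuotientGroup.mk' _).comp (Subgroup.inclusion B.J_L)
    have hr : f.range = B.Jb := by
      ext q
      constructor
      · rintro ⟨j, rfl⟩; exact ⟨_, j.2, rfl⟩
      · rintro ⟨j, hj, rfl⟩; exact ⟨⟨j, hj⟩, rfl⟩
    have hker : Nat.card f.ker = 2 := by
      refine (Nat.card_eq_two_iff' (1 : ↥f.ker)).mpr ⟨⟨⟨B.d, B.dJ⟩, B.mk_one.mpr (Or.inr rfl)⟩, ?_, ?_⟩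
      · exact fun e => B.d1 (congrArg (fun w : ↥f.ker => ((w : ↥B.J) : G)) e)
      · rintro ⟨⟨j, hj⟩, hk⟩ hne
        rcases B.mk_one.mp hk with e | e
        · exact absurd (Subtype.ext (Subtype.ext e)) hne
        · exact Subtype.ext (Subtype.ext e)
    have := f.ker.index_mul_card
    rw [Subgroup.index_ker, hr, hker, B.card] at this
    omega
  · rintro _ ⟨j, hj, rfl⟩
    rcases B.sq2 _ hj with e | e
    · left
      show (QuotientGroup.mk j : B.Q) * QuotientGroup.mk j = 1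
      rw [← QuotientGroup.mk_mul]; exact B.mk_one.mpr (Or.inl e)
    · right
      show (QuotientGroup.mk j : B.Q) * QuotientGroup.mk j = B.zb
      rw [← QuotientGroup.mk_mul]; exact congrArg _ (Subtype.ext e)
  · exact B.mem_Jb.mpr B.zJ
  · rintro _ ⟨m, hm, rfl⟩ hc
    have hcm : ∀ j ∈ B.J, Commute (m : G) j := by
      intro j hj
      have h := hc _ (B.mem_Jb.mpr hj : (QuotientGroup.mk ⟨j, B.J_L hj⟩ : B.Q) ∈ B.Jb)
      have e : (QuotientGroup.mk (⟨j, B.J_L hj⟩ * m) : B.Q) = QuotientGroup.mk (m * ⟨j, B.J_L hj⟩) := h.eq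
      rcases B.mk_eq.mp e with e | e
      · exact e.symm
      · rcases B.comm2 j hj m hm with c | c
        · exact c.symm
        · exfalso
          refine B.dne ?_
          have e' : j * (m : G) = (m : G) * j * B.d := e
          rw [c, (B.Jz _ (mul_mem (show (m : G) ∈ B.J from hm) hj)).eq.symm] at e'
          exact mul_left_cancel e'.symm
    show (QuotientGroup.mk m : B.Q) = 1 ∨ (QuotientGroup.mk m : B.Q) = B.zb
    rcases B.centre _ hm hcm with e | e | e | e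
    · exact Or.inl (B.mk_one.mpr (Or.inl e))
    · exact Or.inr (congrArg _ (Subtype.ext e))
    · exact Or.inl (B.mk_one.mpr (Or.inr e))
    · exact Or.inr (B.mk_eq.mpr (Or.inr (e.trans B.dz_comm.eq)))
  · intro h hh hc
    obtain ⟨g, rfl⟩ := QuotientGroup.mk_surjective h
    refine B.mem_Jb.mpr (B.ker_mod (B.lift_comm hh) fun j hj => ?_)
    have e : (QuotientGroup.mk (g * ⟨j, B.J_L hj⟩) : B.Q) = QuotientGroup.mk (⟨j, B.J_L hj⟩ * g) :=
      (hc _ (B.mem_Jb.mpr hj : (QuotientGroup.mk ⟨j, B.J_L hj⟩ : B.Q) ∈ B.Jb)).eq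
    rcases B.mk_eq.mp e with e | e
    · have e' : (g : G) * j = j * g := e
      rw [e', mul_inv_cancel_right, mul_inv_cancel]; exact B.Z_one
    · have e' : (g : G) * j = j * g * B.d := e
      rw [e', mul_assoc j, (B.mem_L.mp g.2).eq, ← mul_assoc, mul_inv_cancel_right, (B.Jd j hj).eq,
        mul_inv_cancel_right]
      exact B.Z_d

variable {B}

/-- The image in the quotient by the core of an element centralising the image of the involution. -/
noncomputable def toX {D : Chz B.Q} (hD : D.z = B.zb) : ↥(Subgroup.centralizer ({D.z} : Set B.Q)) →* X :=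
  MonoidHom.mk' (fun h => B.π ⟨((h : B.Q).out : ↥B.L), B.mem_C.mpr (B.lift_comm (by
      rw [QuotientGroup.out_eq', ← hD]; exact Subgroup.mem_centralizer_singleton_iff.mp h.2))⟩)
    fun a b => by
      rw [← map_mul, ← inv_mul_eq_one, ← map_inv, ← map_mul, B.hk]
      have e : (QuotientGroup.mk ((a * b : ↥(Subgroup.centralizer ({D.z} : Set B.Q))) : B.Q).out : B.Q) =
          QuotientGroup.mk ((a : B.Q).out * (b : B.Q).out) := by
        rw [QuotientGroup.out_eq', QuotientGroup.mk_mul, QuotientGroup.out_eq', QuotientGroup.out_eq']; rfl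
      rcases B.mk_eq.mp e with e | e
      · show (_ : G)⁻¹ * (_ * _) ∈ B.J
        rw [e]; simp
      · show (_ : G)⁻¹ * (_ * _) ∈ B.J
        rw [e, Subgroup.coe_mul, mul_inv_rev, inv_mul_cancel_right]; exact inv_mem B.dJ

theorem toX_mk {D : Chz B.Q} (hD : D.z = B.zb) (g : ↥B.L) (hg : Commute (g : G) B.z)
    (hq : (QuotientGroup.mk g : B.Q) ∈ Subgroup.centralizer ({D.z} : Set B.Q)) :
    toX hD ⟨_, hq⟩ = B.π ⟨g, B.mem_C.mpr hg⟩ := by
  show B.π _ = B.π _
  rw [← inv_mul_eq_one, ← map_inv, ← map_mul, B.hk]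
  show (((QuotientGroup.mk g : B.Q).out : ↥B.L) : G)⁻¹ * g ∈ B.J
  rcases B.mk_eq.mp (QuotientGroup.out_eq' (QuotientGroup.mk g : B.Q)) with e | e <;> rw [e]
  · simp
  · simp [B.dJ]

theorem mem_CQ {D : Chz B.Q} (hD : D.z = B.zb) {g : ↥B.L} (hg : Commute (g : G) B.z) :
    (QuotientGroup.mk g : B.Q) ∈ Subgroup.centralizer ({D.z} : Set B.Q) := by
  rw [Subgroup.mem_centralizer_singleton_iff, hD]; exact B.comm_mk hg

theorem toX_ker {D : Chz B.Q} (hD : D.z = B.zb) (hJ : D.J = B.Jb) :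
    ∀ h, toX hD h = 1 ↔ (h : B.Q) ∈ D.J := by
  intro h
  rw [hJ]
  show B.π _ = 1 ↔ _
  rw [B.hk]
  conv_rhs => rw [← QuotientGroup.out_eq' (h : B.Q), B.mem_Jb]

variable (B)

theorem iso_of_quot {D : Chz B.Q} (hD : D.z = B.zb)
    (h : ∀ q : B.Q, Commute (q * D.z * q⁻¹) D.z → q * D.z * q⁻¹ = D.z) : B.Iso := by
  intro g hg hc
  set gL : ↥B.L := ⟨g, B.mem_L.mpr hg⟩
  have e1 : (QuotientGroup.mk gL : B.Q) * D.z * (QuotientGroup.mk gL : B.Q)⁻¹ = QuotientGroup.mk (gL * B.zL * gL⁻¹) := by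
    rw [hD]; rfl
  have h2 := h (QuotientGroup.mk gL) (by
    rw [e1, hD]
    exact B.comm_mk (g := gL * B.zL * gL⁻¹) hc)
  rw [e1, hD] at h2
  rcases B.mk_eq.mp h2 with e | e
  · exact e
  · exact absurd (show g * B.z * g⁻¹ = B.d * B.z from (e.trans B.dz_comm.eq.symm)) (B.not_conj_dz g)

variable {F : Type*} [Field F] [Fintype F] {K : Type*} [Field K] [Fintype K]

/-- When the centraliser fixes the second involution. -/
theorem six_A (hF : Fintype.card F = 3) (hK : Fintype.card K = 4) (eN : Cfsg.PSp 2 F ≃* ↥B.N)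
    (hA : ∀ h, Commute h B.z → Commute h B.d) :
    B.Iso ∨ ∃ C0 : Subgroup G, C0 ≤ B.L ∧ (∀ k ∈ B.L, ∀ x ∈ C0, k * x * k⁻¹ ∈ C0) ∧
      (∀ h, Commute h B.z → (h ∈ C0 ↔ B.In h)) ∧ (∀ k ∈ B.L, ∀ k' ∈ B.L, k ∉ C0 → k' ∉ C0 → k * k' ∈ C0) ∧
      B.Cover C0 K := by
  classical
  obtain ⟨D, hD, hJ⟩ := B.exists_D
  haveI : Finite X := Finite.of_surjective B.π B.hπ
  have hs : Function.Surjective (toX hD) := fun x => by
    obtain ⟨h, rfl⟩ := B.hπ x
    exact ⟨⟨_, mem_CQ hD (g := ⟨h, B.mem_L.mpr (hA _ (B.mem_C.mp h.2))⟩) (B.mem_C.mp h.2)⟩, toX_mk hD _ (B.mem_C.mp h.2) _⟩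
  rcases isolated_or_sub D (toX hD) hs (toX_ker hD hJ) B.N hF B.hN eN B.hcent hK with h | ⟨G0, hi, ⟨e⟩, hG0⟩
  · exact Or.inl (B.iso_of_quot hD h)
  right
  let f : ↥B.L →* B.Q := QuotientGroup.mk' _
  refine ⟨(G0.comap f).map B.L.subtype, Subgroup.map_subtype_le _, ?_, ?_, ?_, ?_⟩
  · rintro k hk _ ⟨x, hx, rfl⟩
    haveI : G0.Normal := Subgroup.normal_of_index_eq_two hi
    exact ⟨⟨k, hk⟩ * x * ⟨k, hk⟩⁻¹, (inferInstance : (G0.comap f).Normal).conj_mem x hx _, rfl⟩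
  · intro h hh
    have hL := B.mem_L.mpr (hA h hh)
    have key : (h ∈ (G0.comap f).map B.L.subtype) ↔ (QuotientGroup.mk (⟨h, hL⟩ : ↥B.L) : B.Q) ∈ G0 :=
      ⟨fun ⟨x, hx, e⟩ => by rw [← show x = ⟨h, hL⟩ from Subtype.ext e]; exact hx, fun hx => ⟨⟨h, hL⟩, hx, rfl⟩⟩
    rw [key, hG0 _ (mem_CQ hD (g := ⟨h, hL⟩) hh), toX_mk hD ⟨h, hL⟩ hh]
    exact ⟨fun e => ⟨_, e⟩, fun ⟨_, e⟩ => e⟩
  · intro k hk k' hk' n n'
    refine ⟨⟨k, hk⟩ * ⟨k', hk'⟩, ?_, rfl⟩
    show f (⟨k, hk⟩ * ⟨k', hk'⟩) ∈ G0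
    rw [map_mul, Subgroup.mul_mem_iff_of_index_two hi]
    exact iff_of_false (fun h => n ⟨_, h, rfl⟩) fun h => n' ⟨_, h, rfl⟩
  · set C0 := (G0.comap f).map B.L.subtype
    have hC : C0 ≤ B.L := Subgroup.map_subtype_le _
    let ψ0 : ↥C0 →* ↥G0 := MonoidHom.mk' (fun g => ⟨f ⟨g, hC g.2⟩, by
      obtain ⟨x, hx, e⟩ := g.2
      rw [show (⟨g, hC g.2⟩ : ↥B.L) = x from Subtype.ext e.symm]; exact hx⟩)
      fun a b => Subtype.ext (map_mul f ⟨a, hC a.2⟩ ⟨b, hC b.2⟩)
    refine ⟨e.toMonoidHom.comp ψ0, e.surjective.comp fun q => ?_, fun g => ?_⟩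
    · obtain ⟨g, hg⟩ := QuotientGroup.mk_surjective (q : B.Q)
      exact ⟨⟨g, ⟨g, (show f g ∈ G0 by rw [show f g = (q : B.Q) from hg]; exact q.2), rfl⟩⟩, Subtype.ext hg⟩
    · show e (ψ0 g) = 1 ↔ _
      rw [MulEquiv.map_eq_one_iff, ← Subtype.coe_inj]
      exact B.mk_one

/-- When the centraliser moves the second involution. -/
theorem six_B (hF : Fintype.card F = 3) (hK : Fintype.card K = 4) (eN : Cfsg.PSp 2 F ≃* ↥B.N)
    (hB : ∀ h, Commute h B.z → Commute h B.d → B.In h) : B.Iso ∨ B.Cover B.L K := by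
  classical
  obtain ⟨D, hD, hJ⟩ := B.exists_D
  let π' : ↥(Subgroup.centralizer ({D.z} : Set B.Q)) →* ↥B.N := (toX hD).codRestrict B.N fun h => by
    have hc : Commute ((h : B.Q).out : G) B.z := B.lift_comm (by
      rw [QuotientGroup.out_eq', ← hD]; exact Subgroup.mem_centralizer_singleton_iff.mp h.2)
    exact (hB _ hc (B.mem_L.mp (h : B.Q).out.2)).2
  have hs : Function.Surjective π' := fun x => by
    obtain ⟨h, hh, e⟩ := B.In_lift x.2
    exact ⟨⟨_, mem_CQ hD (g := ⟨h, B.mem_L.mpr (B.In_d hh)⟩) (B.In_comm hh)⟩,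
      Subtype.ext ((toX_mk hD _ (B.In_comm hh) _).trans (e _))⟩
  have hk : ∀ h, π' h = 1 ↔ (h : B.Q) ∈ D.J := fun h => by rw [← toX_ker hD hJ h, ← Subtype.coe_inj]; rfl
  rcases isolated_or_u6 D π' hs hk hF eN.symm hK with h | ⟨⟨e⟩⟩
  · exact Or.inl (B.iso_of_quot hD h)
  · refine Or.inr ⟨e.toMonoidHom.comp (QuotientGroup.mk' _), e.surjective.comp (QuotientGroup.mk'_surjective _), fun g => ?_⟩
    show e (QuotientGroup.mk g) = 1 ↔ _
    rw [MulEquiv.map_eq_one_iff]; exact B.mk_one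

/-- Conjugates in the core by elements of the centraliser of the second involution. -/
theorem good_side (hF : Fintype.card F = 3) (hK : Fintype.card K = 4) (eN : Cfsg.PSp 2 F ≃* ↥B.N)
    (hA : ∀ h, Commute h B.z → Commute h B.d) {g : G} (hg : Commute g B.d) (hx : g * B.z * g⁻¹ ∈ B.J)
    (hne : g * B.z * g⁻¹ ≠ B.z) {e : G} (he : e ∈ B.J) (hc : Commute e (g * B.z * g⁻¹)) : B.In (g⁻¹ * e * g) := by
  rcases B.six_A hF hK eN hA with h | ⟨C0, -, hn, hC0, -, -⟩
  · exact absurd (h g hg (B.Jz _ hx)) hne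
  · have hz : Commute (g⁻¹ * e * g) B.z := by
      have := hc.map (MulAut.conj g⁻¹).toMonoidHom
      simpa [mul_assoc] using this
    refine (hC0 _ hz).mp ?_
    simpa using hn g⁻¹ (inv_mem (B.mem_L.mpr hg)) e ((hC0 e (B.Jz e he)).mpr (B.In_J he))

/-- When the centraliser fixes the second involution a subgroup of index two extends. -/
theorem extend_A (hF : Fintype.card F = 3) (hK : Fintype.card K = 4) (eN : Cfsg.PSp 2 F ≃* ↥B.N)
    (hA : ∀ h, Commute h B.z → Commute h B.d) :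
    ∃ G0 : Subgroup G, G0.index = 2 ∧ ∀ h, Commute h B.z → (h ∈ G0 ↔ B.In h) := by
  refine B.extend_N fun g hx hne e he hc => ?_
  set x := g * B.z * g⁻¹ with hxd
  set d' := g * B.d * g⁻¹ with hd'
  have hx2 : x * x = 1 := by rw [hxd, show g * B.z * g⁻¹ * (g * B.z * g⁻¹) = g * (B.z * B.z) * g⁻¹ by group, B.zz]; group
  have hxZ : ¬ B.Z x := by
    rintro (h | h | h | h)
    exacts [B.z1 (conj_eq_one_iff.mp h), hne h, B.not_conj_d g h, B.not_conj_dz g h]
  have hfix : ∀ j ∈ B.J, Commute j x → Commute d' j := fun j hj hjx => by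
    have h1 : Commute (g⁻¹ * j * g) B.z := by
      have := hjx.map (MulAut.conj g⁻¹).toMonoidHom
      simpa [hxd, mul_assoc] using this
    have := (hA _ h1).map (MulAut.conj g).toMonoidHom
    simpa [hd', mul_assoc] using this.symm
  have hd'z : Commute d' B.z := hfix _ B.zJ (B.Jz x hx).symm
  have hd'J : d' ∈ B.J := B.hyperplane hx hx2 hxZ hd'z fun j hj hjx => by
    rw [(hfix j hj hjx).eq, mul_inv_cancel_right, mul_inv_cancel]; exact B.Z_one
  have hd'1 : d' ≠ 1 := fun h => B.d1 (conj_eq_one_iff.mp h)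
  have hd'z' : d' ≠ B.z := fun h => B.not_conj_d g⁻¹ (by rw [← h, hd']; group)
  rcases B.cc hx hxZ hd'J hfix with (h | h | h | h) | h
  · exact absurd h hd'1
  · exact absurd h hd'z'
  · exact B.good_side hF hK eN hA (mul_inv_eq_iff_eq_mul.mp h) hx hne he hc
  · exact absurd h (B.d_not_conj hA g)
  · -- the conjugate of the third involution lies in the centre
    have hdz : g * (B.d * B.z) * g⁻¹ = d' * x := by rw [hd', hxd]; group
    rw [← hdz] at h
    rcases h with h | h | h | h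
    · exact absurd (conj_eq_one_iff.mp h) B.dz1
    · refine absurd ?_ (B.not_conj_dz g⁻¹)
      calc g⁻¹ * B.z * g⁻¹⁻¹ = g⁻¹ * (g * (B.d * B.z) * g⁻¹) * g⁻¹⁻¹ := by rw [h]
        _ = _ := by group
    · refine absurd ?_ (B.d_not_conj hA g⁻¹)
      calc g⁻¹ * B.d * g⁻¹⁻¹ = g⁻¹ * (g * (B.d * B.z) * g⁻¹) * g⁻¹⁻¹ := by rw [h]
        _ = _ := by group
    · exact B.flip.good_side hF hK eN (fun k hk => (hA k hk).mul_right hk) (mul_inv_eq_iff_eq_mul.mp h) hx hne he hc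

end Base

end CfsgLib.FiTwoType
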