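/-
Coordinates of the core and of the action of the preimage of the simple group.
-/
import Cfsg.Agent.Lib.FiTwoType.Quot
import Cfsg.Agent.Lib.FiTwoType.Checks

set_option autoImplicit false
set_option maxRecDepth 100000
set_option linter.unusedVariables false
set_option linter.unusedSectionVars false
set_option linter.style.haveILetI false

namespace CfsgLib.FiTwoType

open CfsgLib.U6Chz (Chz inverse inverse_spec inverse_apply inverse_add inverse_zero)
open CfsgLib.U42Act (Action Chart qW bq)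
open CfsgLib.SixTwoType (psi)
open U6Rec (app comp InU qf one)

attribute [local irreducible] U6Rec.comp U6Rec.app SixTwoType.psi

/-- Coordinates: codes of the core, codes of the action through a representation. -/
structure Model {G : Type*} [Group G] {X : Type*} [Group X] (B : Base G X) (φ : ℕ → ℕ) (q : ℕ → ℕ) where
  co : G → ℕ
  co_lt : ∀ j ∈ B.J, co j < 256
  co_mul : ∀ a ∈ B.J, ∀ b ∈ B.J, co (a * b) = co a ^^^ co b
  co_ker : ∀ j ∈ B.J, co j = 0 ↔ B.Z j
  co_surj : ∀ v < 256, ∃ j ∈ B.J, co j = v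
  sq : ∀ j ∈ B.J, j * j = if q (co j) = 1 then B.z else 1
  comm : ∀ a ∈ B.J, ∀ b ∈ B.J, Commute a b ↔ bq q (co a) (co b) = 0
  ρ : G → ℕ
  ρ_mem : ∀ h, B.In h → InU (ρ h)
  ρ_mul : ∀ a b, B.In a → B.In b → ρ (a * b) = comp (ρ a) (ρ b)
  ρ_J : ∀ h, B.In h → (ρ h = one ↔ h ∈ B.J)
  ρ_surj : ∀ u, InU u → ∃ h, B.In h ∧ ρ h = u
  co_conj : ∀ h, B.In h → ∀ j ∈ B.J, co (h * j * h⁻¹) = app (φ (ρ h)) (co j)

namespace Base

variable {G : Type*} [Group G] [Finite G] {X : Type*} [Group X] (B : Base G X)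

/-- The preimage in the quotient. -/
def qn : ↥B.H0 →* B.Q := (QuotientGroup.mk' _).comp (Subgroup.inclusion fun g hg => B.mem_L.mpr (B.In_d hg))

theorem qn_comm {D : Chz B.Q} (hD : D.z = B.zb) (h : ↥B.H0) : Commute (B.qn h) D.z := by
  rw [hD]; exact B.comm_mk (B.In_comm h.2)

theorem qn_J {D : Chz B.Q} (hJ : D.J = B.Jb) {h : ↥B.H0} (hh : (h : G) ∈ B.J) : B.qn h ∈ D.J := by
  rw [hJ]; exact B.mem_Jb.mpr hh

theorem act_congr {D : Chz B.Q} (hD : D.z = B.zb) (hJ : D.J = B.Jb) {a b : ↥B.H0} (e : B.toN a = B.toN b) {v : ℕ}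
    (hv : v < 256) : D.act (B.qn a) v = D.act (B.qn b) v := by
  have hm : B.qn (a⁻¹ * b) ∈ D.J := B.qn_J hJ (B.toN_one.mp (by rw [map_mul, map_inv, e, inv_mul_cancel]))
  conv_rhs => rw [show b = a * (a⁻¹ * b) by rw [mul_inv_cancel_left], map_mul,
    D.act_mul (B.qn_comm hD a) (B.qn_comm hD _) hv, D.act_J hm hv]

/-- The action of the simple group on the codes of the quotient. -/
noncomputable def nAct {D : Chz B.Q} (hD : D.z = B.zb) (hJ : D.J = B.Jb) : Action ↥B.N where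
  act x v := D.act (B.qn (Function.surjInv B.toN_surj x)) v
  q := D.q
  lt x v hv := D.act_lt (B.qn_comm hD _) hv
  add x u v hu hv := D.act_add (B.qn_comm hD _) hu hv
  mul x y v hv := by
    rw [← D.act_mul (B.qn_comm hD _) (B.qn_comm hD _) hv, ← map_mul]
    exact B.act_congr hD hJ (by rw [map_mul, Function.surjInv_eq B.toN_surj, Function.surjInv_eq B.toN_surj,
      Function.surjInv_eq B.toN_surj]) hv
  one v hv := by
    rw [B.act_congr hD hJ (b := 1) (by rw [Function.surjInv_eq B.toN_surj, map_one]) hv, map_one]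
    exact D.act_J (one_mem _) hv
  faithful x hx := by
    have h := D.act_ker (B.qn_comm hD _) hx
    rw [hJ] at h
    rw [← Function.surjInv_eq B.toN_surj x]
    exact B.toN_one.mpr (B.mem_Jb.mp h)
  q_lt v _ := D.q_lt v
  q_zero := D.q_zero
  q_inv x v hv := D.act_q (B.qn_comm hD _) hv
  q_add u v w hu hv hw := D.q_add u v w hu hv hw
  q_nd := D.q_nd

theorem nAct_act {D : Chz B.Q} (hD : D.z = B.zb) (hJ : D.J = B.Jb) (h : ↥B.H0) {v : ℕ} (hv : v < 256) :
    (B.nAct hD hJ).act (B.toN h) v = D.act (B.qn h) v :=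
  B.act_congr hD hJ (Function.surjInv_eq B.toN_surj _) hv

/-- Coordinates from a chart. -/
theorem model_of_chart {D : Chz B.Q} (hD : D.z = B.zb) (hJ : D.J = B.Jb) {ψ : ℕ → ℕ} (hψ : Chart ψ) (φ q : ℕ → ℕ)
    (hq : ∀ v < 256, D.q (ψ v) = q v) (r : ↥B.N → ℕ) (hrU : ∀ x, InU (r x)) (hrm : ∀ x y, r (x * y) = comp (r x) (r y))
    (hr1 : ∀ x, r x = one ↔ x = 1) (hrs : ∀ u, InU u → ∃ x, r x = u)
    (hr : ∀ x, ∀ v < 256, (B.nAct hD hJ).act x (ψ v) = ψ (app (φ (r x)) v)) : Nonempty (Model B φ q) := by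
  classical
  let qJ : (g : G) → g ∈ B.J → B.Q := fun g hg => QuotientGroup.mk (⟨g, B.J_L hg⟩ : ↥B.L)
  have qJm : ∀ g (hg : g ∈ B.J), qJ g hg ∈ D.J := fun g hg => by rw [hJ]; exact B.mem_Jb.mpr hg
  let co : G → ℕ := fun g => if hg : g ∈ B.J then inverse ψ (D.κ (qJ g hg)) else 0
  have ce : ∀ g (hg : g ∈ B.J), co g = inverse ψ (D.κ (qJ g hg)) := fun g hg => dif_pos hg
  have qJmul : ∀ a (ha : a ∈ B.J) b (hb : b ∈ B.J), qJ (a * b) (mul_mem ha hb) = qJ a ha * qJ b hb :=
    fun a ha b hb => rfl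
  let ρ : G → ℕ := fun g => if hg : B.In g then r (B.toN ⟨g, hg⟩) else one
  have re : ∀ g (hg : B.In g), ρ g = r (B.toN ⟨g, hg⟩) := fun g hg => dif_pos hg
  exact ⟨{
    co := co
    co_lt := fun j hj => by rw [ce j hj]; exact (inverse_spec hψ (D.κ_lt _ (qJm j hj))).1
    co_mul := fun a ha b hb => by
      rw [ce a ha, ce b hb, ce _ (mul_mem ha hb), qJmul a ha b hb, D.κ_mul _ (qJm a ha) _ (qJm b hb),
        inverse_add hψ (D.κ_lt _ (qJm a ha)) (D.κ_lt _ (qJm b hb))]
    co_ker := fun j hj => by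
      rw [ce j hj, inverse_zero hψ (D.κ_lt _ (qJm j hj)), D.κ_ker _ (qJm j hj), hD]
      constructor
      · rintro (e | e)
        · rcases B.mk_one.mp e with e | e
          · exact Or.inl e
          · exact Or.inr (Or.inr (Or.inl e))
        · rcases B.mk_eq.mp e with e | e
          · exact Or.inr (Or.inl e)
          · exact Or.inr (Or.inr (Or.inr (e.trans B.dz_comm.eq.symm)))
      · rintro (e | e | e | e)
        · exact Or.inl (B.mk_one.mpr (Or.inl e))
        · exact Or.inr (B.mk_eq.mpr (Or.inl e))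
        · exact Or.inl (B.mk_one.mpr (Or.inr e))
        · exact Or.inr (B.mk_eq.mpr (Or.inr (e.trans B.dz_comm.eq)))
    co_surj := fun v hv => by
      obtain ⟨x, hx, ex⟩ := D.κ_surj _ (hψ.lt v hv)
      rw [hJ] at hx
      obtain ⟨g, hg, rfl⟩ := hx
      refine ⟨(g : G), hg, ?_⟩
      rw [ce (g : G) hg]
      show inverse ψ (D.κ (QuotientGroup.mk' _ g)) = v
      rw [ex, inverse_apply hψ hv]
    sq := fun j hj => by
      obtain ⟨l, el⟩ := inverse_spec hψ (D.κ_lt _ (qJm j hj))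
      have hs := D.sq (qJm j hj)
      rw [← el, ← ce j hj, hq _ (by rw [ce j hj]; exact l), hD] at hs
      split
      · next h1 =>
        rw [if_pos h1, ← qJmul j hj j hj] at hs
        rcases B.mk_eq.mp hs with e | e
        · exact e
        · exfalso
          rcases B.sq2 j hj with c | c
          · exact B.dz1 (by rw [B.dz_comm.eq]; exact (c.symm.trans e).symm)
          · exact B.d1 (mul_eq_left.mp (c.symm.trans e).symm)
      · next h1 =>
        rw [if_neg h1, ← qJmul j hj j hj] at hs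
        rcases B.sq2 j hj with c | c
        · exact c
        · exfalso
          rcases B.mk_one.mp hs with e | e
          · exact B.z1 (c.symm.trans e)
          · exact B.dne (e.symm.trans c)
    comm := fun a ha b hb => by
      obtain ⟨la, ea⟩ := inverse_spec hψ (D.κ_lt _ (qJm a ha))
      obtain ⟨lb, eb⟩ := inverse_spec hψ (D.κ_lt _ (qJm b hb))
      have e1 : bq q (co a) (co b) = bq D.q (D.κ (qJ a ha)) (D.κ (qJ b hb)) := by
        conv_rhs => rw [← ea, ← eb]
        rw [ce a ha, ce b hb]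
        show q _ ^^^ q _ ^^^ q _ = D.q _ ^^^ D.q _ ^^^ D.q _
        rw [← hq _ (U42Act.xlt la lb), ← hq _ la, ← hq _ lb, hψ.add _ _ la lb]
      rw [e1, ← D.comm_iff (qJm a ha) (qJm b hb)]
      constructor
      · intro h
        exact (show Commute (⟨a, B.J_L ha⟩ : ↥B.L) ⟨b, B.J_L hb⟩ from Subtype.ext h.eq).map (QuotientGroup.mk' _)
      · intro h
        have e : (QuotientGroup.mk ((⟨a, B.J_L ha⟩ : ↥B.L) * ⟨b, B.J_L hb⟩) : B.Q) =
          QuotientGroup.mk ((⟨b, B.J_L hb⟩ : ↥B.L) * ⟨a, B.J_L ha⟩) := h.eq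
        refine (B.mk_eq.mp e).resolve_right fun e' => ?_
        have e2 : a * b = b * a * B.d := e'
        rcases B.comm2 a ha b hb with c | c
        · rw [c.eq] at e2; exact B.d1 (left_eq_mul.mp e2)
        · rw [c, ← (B.Jz _ (mul_mem hb ha)).eq] at e2; exact B.dne (mul_left_cancel e2).symm
    ρ := ρ
    ρ_mem := fun h hh => by rw [re h hh]; exact hrU _
    ρ_mul := fun a b ha hb => by
      rw [re a ha, re b hb, re _ (B.In_mul ha hb), ← hrm, ← map_mul]; rfl
    ρ_J := fun h hh => by rw [re h hh, hr1, B.toN_one]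
    ρ_surj := fun u hu => by
      obtain ⟨x, hx⟩ := hrs u hu
      obtain ⟨h, rfl⟩ := B.toN_surj x
      exact ⟨h, h.2, (re _ h.2).trans hx⟩
    co_conj := fun h hh j hj => by
      have hj' := B.conjJ h (B.In_comm hh) j hj
      obtain ⟨l, el⟩ := inverse_spec hψ (D.κ_lt _ (qJm j hj))
      have e : qJ (h * j * h⁻¹) hj' = B.qn ⟨h, hh⟩ * qJ j hj * (B.qn ⟨h, hh⟩)⁻¹ := rfl
      rw [ce _ hj', e, ← D.act_κ (B.qn_comm hD _) (qJm j hj), ← B.nAct_act hD hJ _ (D.κ_lt _ (qJm j hj)), re h hh]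
      conv_lhs => rw [← el]
      rw [hr _ _ l, inverse_apply hψ (U6Rec.app_lt _ _), ce j hj] }⟩

/-- Coordinates from a natural action. -/
theorem model_nat {D : Chz B.Q} (hD : D.z = B.zb) (hJ : D.J = B.Jb) (hn : U42Act.Natural (B.nAct hD hJ)) :
    Nonempty (Model B id qf) := by
  classical
  obtain ⟨ψ, r, hψ, hq, hrU, hrs, hr⟩ := hn
  set A := B.nAct hD hJ with hA
  have hinj : Function.Injective r := fun a b e => by
    refine inv_mul_eq_one.mp (A.faithful _ fun w hw => ?_)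
    obtain ⟨v, hv, rfl⟩ := hψ.surj w hw
    rw [A.mul _ _ _ hw, hr b v hv, ← e, ← hr a v hv, ← A.mul _ _ _ hw, inv_mul_cancel, A.one _ hw]
  have hm : ∀ x y, r (x * y) = comp (r x) (r y) := fun x y => by
    refine (hrU _).ext (U42Act.inU_comp (hrU x) (hrU y)) fun v hv => ?_
    rw [U6Rec.app_comp]
    refine hψ.inj _ _ (U6Rec.app_lt _ _) (U6Rec.app_lt _ _) ?_
    rw [← hr _ v hv, A.mul _ _ _ (hψ.lt v hv), hr y v hv, hr x _ (U6Rec.app_lt _ _)]
  have h1 : r 1 = one := (hrU 1).ext U6Rec.inU_one fun v hv => by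
    refine hψ.inj _ _ (U6Rec.app_lt _ _) (U6Rec.app_lt _ _) ?_
    rw [← hr 1 v hv, A.one _ (hψ.lt v hv), U6Rec.app_one v hv]
  exact B.model_of_chart hD hJ hψ id qf hq r hrU hm (fun x => ⟨fun e => hinj (e.trans h1.symm), fun e => e ▸ h1⟩) hrs hr

/-- Coordinates when the involution is not isolated and the centraliser moves the second one. -/
theorem model_moved {F : Type*} [Field F] [Fintype F] (hF : Fintype.card F = 3) (eN : Cfsg.PSp 2 F ≃* ↥B.N)
    (hB : ∀ h, Commute h B.z → Commute h B.d → B.In h) (hI : ¬ B.Iso) : Nonempty (Model B id qf) := by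
  classical
  obtain ⟨D, hD, hJ⟩ := B.exists_D
  haveI : Finite ↥B.N := Nat.finite_of_card_ne_zero (by rw [B.cardN]; norm_num)
  let π' : ↥(Subgroup.centralizer ({D.z} : Set B.Q)) →* ↥B.N := (toX hD).codRestrict B.N fun h => by
    have hc : Commute ((h : B.Q).out : G) B.z := B.lift_comm (by
      rw [QuotientGroup.out_eq', ← hD]; exact Subgroup.mem_centralizer_singleton_iff.mp h.2)
    exact (hB _ hc (B.mem_L.mp (h : B.Q).out.2)).2
  have hπe : ∀ (h : ↥B.H0) (hq : B.qn h ∈ Subgroup.centralizer ({D.z} : Set B.Q)), π' ⟨B.qn h, hq⟩ = B.toN h :=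
    fun h hq => Subtype.ext (toX_mk hD ⟨h, B.mem_L.mpr (B.In_d h.2)⟩ (B.In_comm h.2) hq)
  have hs : Function.Surjective π' := fun x => by
    obtain ⟨h, rfl⟩ := B.toN_surj x
    exact ⟨⟨_, mem_CQ hD (g := ⟨h, B.mem_L.mpr (B.In_d h.2)⟩) (B.In_comm h.2)⟩, hπe h _⟩
  have hk : ∀ h, π' h = 1 ↔ (h : B.Q) ∈ D.J := fun h => by rw [← toX_ker hD hJ h, ← Subtype.coe_inj]; rfl
  rcases isolated_or_natural D π' hs hk hF eN.symm with h | ⟨ψ, r, hψ, hq, hrU, hrs, hr⟩
  · exact absurd (B.iso_of_quot hD h) hI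
  · refine B.model_nat hD hJ ⟨ψ, r, hψ, hq, hrU, hrs, fun x v hv => ?_⟩
    obtain ⟨h, rfl⟩ := B.toN_surj x
    rw [B.nAct_act hD hJ h (hψ.lt v hv), ← hr (B.toN h) v hv]
    have hq' : B.qn h ∈ Subgroup.centralizer ({D.z} : Set B.Q) :=
      Subgroup.mem_centralizer_singleton_iff.mpr (B.qn_comm hD h).eq
    rw [← hπe h hq']
    exact (U6Chz.action_act D π' hs hk ⟨B.qn h, hq'⟩ (hψ.lt v hv)).symm

variable {F : Type*} [Field F] [Fintype F]

/-- Natural coordinates or a fixed plane. -/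
theorem models (hF : Fintype.card F = 3) (eN : Cfsg.PSp 2 F ≃* ↥B.N) :
    Nonempty (Model B id qf) ∨ ∃ ε < 2, Nonempty (Model B psi (qW ε)) := by
  classical
  obtain ⟨D, hD, hJ⟩ := B.exists_D
  haveI : Finite X := Finite.of_surjective B.π B.hπ
  set A := B.nAct hD hJ with hA
  rcases U42Act.ident hF eN.symm A with hn | ⟨ψ, ε, hε, hψ, hq, hfix, hlow⟩
  · exact Or.inl (B.model_nat hD hJ hn)
  · right
    refine ⟨ε, hε, ?_⟩
    have l2 : ∀ {v}, v < 64 → v < 256 := fun h => by omega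
    have isom : ∀ x, ∃ g : SixTwoType.XG, ∀ v < 64, A.act x (ψ v) = ψ (SixTwoType.pw g v) := by
      intro x
      choose w hw ew using hlow x
      let f : ℕ → ℕ := fun v => if hv : v < 64 then w v hv else 0
      have fe : ∀ v (hv : v < 64), f v = w v hv := fun v hv => dif_pos hv
      obtain ⟨g, hg⟩ := SixTwoType.isom_psi f (fun v hv => by rw [fe v hv]; exact hw v hv)
        (fun u hu v hv => by
          have hl := Nat.xor_lt_two_pow (n := 6) hu hv
          rw [fe _ hl, fe u hu, fe v hv]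
          refine hψ.inj _ _ (l2 (hw _ hl)) (U42Act.xlt (l2 (hw _ hu)) (l2 (hw _ hv))) ?_
          rw [hψ.add _ _ (l2 (hw _ hu)) (l2 (hw _ hv)), ← ew, ← ew, ← ew, hψ.add u v (l2 hu) (l2 hv),
            A.add x _ _ (hψ.lt u (l2 hu)) (hψ.lt v (l2 hv))])
        (fun v hv => by
          rw [fe v hv, ← (SixTwoType.qW_split ε hε _ (l2 (hw v hv))).2.2.2.1 (hw v hv),
            ← (SixTwoType.qW_split ε hε v (l2 hv)).2.2.2.1 hv, ← hq _ (l2 (hw v hv)), ← ew,
            A.q_inv x _ (hψ.lt v (l2 hv)), hq v (l2 hv)])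
      exact ⟨g, fun v hv => by rw [ew v hv, hg v hv, fe v hv]⟩
    choose s hs using isom
    have whole : ∀ x, (∀ v < 64, A.act x (ψ v) = ψ v) → x = 1 := fun x hx => A.faithful x fun w hw => by
      obtain ⟨v, hv, rfl⟩ := hψ.surj w hw
      obtain ⟨e1, l, lu, hu, -, -⟩ := SixTwoType.parts v hv
      rw [e1, hψ.add _ _ (l2 l) lu, A.add x _ _ (hψ.lt _ (l2 l)) (hψ.lt _ lu), hx _ l, hfix x _ lu hu]
    have smul : ∀ x y, s (x * y) = s x * s y := by
      intro x y
      rw [← inv_mul_eq_one]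
      refine SixTwoType.pw_inj fun v hv => ?_
      have : SixTwoType.pw (s (x * y)) v = SixTwoType.pw (s x * s y) v := by
        refine hψ.inj _ _ (SixTwoType.pw_lt _ _) (SixTwoType.pw_lt _ _) ?_
        rw [← hs _ v hv, A.mul x y _ (hψ.lt v (l2 hv)), hs y v hv, hs x _ (SixTwoType.pw_six _ hv),
          SixTwoType.pw_mul]
      rw [SixTwoType.pw_mul, ← this, SixTwoType.pw_inv_self _ (l2 hv)]
    let S : ↥B.N →* SixTwoType.XG := MonoidHom.mk' s smul
    have Sinj : Function.Injective S := by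
      rw [← MonoidHom.ker_eq_bot_iff, eq_bot_iff]
      intro x hx
      refine Subgroup.mem_bot.mpr (whole x fun v hv => ?_)
      have e1 : s x = 1 := hx
      rw [hs x v hv, e1, SixTwoType.pw_one (l2 hv)]
    haveI := B.Nsimple
    have hrange : S.range = SixTwoType.X0 := U6Chz.range_X0 B.cardN S Sinj
    refine B.model_of_chart hD hJ hψ psi (qW ε) hq (fun x => (s x).1)
      (fun x => SixTwoType.mem_X0.mp (hrange ▸ (⟨x, rfl⟩ : s x ∈ S.range)))
      (fun x y => by rw [smul]; rfl) (fun x => ?_) (fun u hu => ?_) fun x v hv => ?_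
    · refine ⟨fun e => Sinj (Subtype.ext (e.trans ?_)), fun e => ?_⟩
      · rw [map_one]; rfl
      · rw [e]; exact congrArg Subtype.val (map_one S)
    · have h : (⟨u, Or.inl hu⟩ : SixTwoType.XG) ∈ S.range := hrange ▸ SixTwoType.mem_X0.mpr hu
      obtain ⟨x, hx⟩ := h
      exact ⟨x, congrArg Subtype.val hx⟩
    · obtain ⟨e1, l, lu, hu, -, -⟩ := SixTwoType.parts v hv
      have e2 : SixTwoType.pw (s x) v = SixTwoType.pw (s x) (v &&& 63) ^^^ (v &&& 192) := by
        conv_lhs => rw [e1]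
        rw [show SixTwoType.pw (s x) ((v &&& 63) ^^^ (v &&& 192)) =
          SixTwoType.pw (s x) (v &&& 63) ^^^ SixTwoType.pw (s x) (v &&& 192) from U6Rec.app_add _ _ _,
          (SixTwoType.pw_form _ _ lu).2.2 hu]
      show _ = ψ (SixTwoType.pw (s x) v)
      rw [e2]
      conv_lhs => rw [e1]
      rw [hψ.add _ _ (l2 l) lu, A.add x _ _ (hψ.lt _ (l2 l)) (hψ.lt _ lu), hs x _ l, hfix x _ lu hu,
        hψ.add _ _ (SixTwoType.pw_lt _ _) lu]

end Base

end CfsgLib.FiTwoType
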