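/-
Using the coordinates: actions, fixed vectors, counting, lifts and the two classes of involutions.
-/
import Cfsg.Agent.Lib.FiTwoType.Model
import Cfsg.Agent.Lib.SixTwoType.Facts

set_option autoImplicit false
set_option maxRecDepth 100000
set_option linter.unusedVariables false
set_option linter.unusedSectionVars false
set_option linter.style.haveILetI false

namespace CfsgLib.FiTwoType

open CfsgLib.U42Act (bq)
open U6Rec (app comp InU one st elt rep)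

attribute [local irreducible] U6Rec.comp U6Rec.app SixTwoType.psi

theorem mem_fixL {g v : ℕ} : v ∈ fixL g ↔ v < 256 ∧ app g v = v := by
  simp [fixL, List.mem_filter, Nat.beq_eq]

theorem fixL_nodup (g : ℕ) : (fixL g).Nodup := List.nodup_range.filter _

theorem mem_dispL {g v : ℕ} : v ∈ dispL g ↔ ∃ u < 256, app g u ^^^ u = v := by
  simp [dispL, List.mem_map]

theorem comp_inv {g : ℕ} (h : InU g) : ∃ k, InU k ∧ comp k g = one ∧ comp g k = one := by
  obtain ⟨k, hk, e⟩ := U42Act.inU_inv h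
  obtain ⟨l, hl, e'⟩ := U42Act.inU_inv hk
  refine ⟨k, hk, e, ?_⟩
  have h1 : ∀ v < 256, app g v = app l v := fun v hv => by
    conv_rhs => rw [← U6Rec.app_one v hv, ← e, U6Rec.app_comp, ← U6Rec.app_comp, e', U6Rec.app_one _ (U6Rec.app_lt _ _)]
  rw [h.ext hl h1, e']

namespace Model

variable {G : Type*} [Group G] [Finite G] {X : Type*} [Group X] {B : Base G X} {φ q : ℕ → ℕ} (M : Model B φ q)

theorem co_one : M.co 1 = 0 := (M.co_ker 1 (one_mem _)).mpr B.Z_one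

theorem co_inv {j : G} (hj : j ∈ B.J) : M.co j⁻¹ = M.co j := by
  have h := M.co_mul j⁻¹ (inv_mem hj) j hj
  rw [inv_mul_cancel, M.co_one] at h
  exact U42Act.xzero h.symm

theorem co_eq {a b : G} (ha : a ∈ B.J) (hb : b ∈ B.J) (e : M.co a = M.co b) : B.Z (b⁻¹ * a) := by
  rw [← M.co_ker _ (mul_mem (inv_mem hb) ha), M.co_mul _ (inv_mem hb) _ ha, M.co_inv hb, e, Nat.xor_self]

theorem co_Z {a : G} (ha : B.Z a) : M.co a = 0 := (M.co_ker a (B.Z_J ha)).mpr ha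

theorem co_mul_Z {a ζ : G} (ha : a ∈ B.J) (hζ : B.Z ζ) : M.co (a * ζ) = M.co a := by
  rw [M.co_mul a ha ζ (B.Z_J hζ), M.co_Z hζ, Nat.xor_zero]

theorem ρ_one : M.ρ 1 = one := (M.ρ_J 1 (B.In_J (one_mem _))).mpr (one_mem _)

theorem ρ_inv {h : G} (hh : B.In h) : comp (M.ρ h⁻¹) (M.ρ h) = one ∧ comp (M.ρ h) (M.ρ h⁻¹) = one := by
  rw [← M.ρ_mul _ _ (B.In_inv hh) hh, ← M.ρ_mul _ _ hh (B.In_inv hh), inv_mul_cancel, mul_inv_cancel, M.ρ_one]
  exact ⟨rfl, rfl⟩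

theorem app_mul {a b : G} (ha : B.In a) (hb : B.In b) {v : ℕ} (hv : v < 256) :
    app (φ (comp (M.ρ a) (M.ρ b))) v = app (φ (M.ρ a)) (app (φ (M.ρ b)) v) := by
  obtain ⟨j, hj, rfl⟩ := M.co_surj v hv
  rw [← M.ρ_mul a b ha hb, ← M.co_conj _ (B.In_mul ha hb) j hj, ← M.co_conj b hb j hj,
    ← M.co_conj a ha _ (B.conjJ b (B.In_comm hb) j hj)]
  congr 1; group

theorem app_one_lt (M : Model B φ q) {v : ℕ} (hv : v < 256) : app (φ one) v = v := by
  obtain ⟨j, hj, rfl⟩ := M.co_surj v hv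
  rw [← M.ρ_one, ← M.co_conj _ (B.In_J (one_mem _)) j hj]; simp

theorem fix_of_comm {e j : G} (he : B.In e) (hj : j ∈ B.J) (h : Commute e j) : M.co j ∈ fixL (φ (M.ρ e)) :=
  mem_fixL.mpr ⟨M.co_lt j hj, by rw [← M.co_conj e he j hj, h.eq, mul_inv_cancel_right]⟩

theorem disp_mem {h j : G} (hh : B.In h) (hj : j ∈ B.J) :
    M.co (h * j * h⁻¹ * j⁻¹) ∈ dispL (φ (M.ρ h)) := by
  refine mem_dispL.mpr ⟨M.co j, M.co_lt j hj, ?_⟩
  rw [M.co_mul _ (B.conjJ h (B.In_comm hh) j hj) _ (inv_mem hj), M.co_inv hj, M.co_conj h hh j hj]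

/-- A commutator with given coordinates. -/
theorem disp_lift {h : G} (hh : B.In h) {v : ℕ} (hv : v ∈ dispL (φ (M.ρ h))) :
    ∃ j ∈ B.J, M.co (h * j * h⁻¹ * j⁻¹) = v := by
  obtain ⟨u, hu, e⟩ := mem_dispL.mp hv
  obtain ⟨j, hj, rfl⟩ := M.co_surj u hu
  exact ⟨j, hj, by
    rw [M.co_mul _ (B.conjJ h (B.In_comm hh) j hj) _ (inv_mem hj), M.co_inv hj, M.co_conj h hh j hj, e]⟩

/-- Counting through the coordinates. -/
theorem card_le (S : Subgroup G) (hS : S ≤ B.J) (L : List ℕ) (hL : ∀ j ∈ S, M.co j ∈ L) :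
    Nat.card S ≤ 4 * L.toFinset.card := by
  classical
  haveI : Fintype S := Fintype.ofFinite _
  rw [Nat.card_eq_fintype_card, ← Finset.card_univ]
  refine Finset.card_le_mul_card_image_of_maps_to (f := fun j : S => M.co j) (fun j _ => List.mem_toFinset.mpr (hL j j.2)) 4
    fun v _ => ?_
  by_cases h : ∃ j : S, M.co (j : G) = v
  · obtain ⟨j0, e0⟩ := h
    calc _ ≤ (({1, B.z, B.d, B.d * B.z} : Finset G)).card := by
          refine Finset.card_le_card_of_injOn (fun j : S => (j0 : G)⁻¹ * j) (fun j hj => ?_) fun a _ b _ e =>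
            Subtype.ext (mul_left_cancel e)
          have e : M.co (j : G) = v := (Finset.mem_filter.mp hj).2
          simpa [Base.Z] using M.co_eq (hS j.2) (hS j0.2) (e.trans e0.symm)
      _ ≤ 4 := Finset.card_le_four
  · push Not at h
    rw [Finset.filter_false_of_mem fun j _ => h j]
    simp

/-- Lifts of elements of the group of codes. -/
theorem lift {u : ℕ} (hu : InU u) : ∃ h, B.In h ∧ M.ρ h = u := M.ρ_surj u hu

/-- An involution outside the core goes to one of the two standard ones. -/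
theorem classify {b : G} (hb : B.In b) (hb2 : b * b = 1) (hbJ : b ∉ B.J) :
    ∃ h, B.In h ∧ (M.ρ (h * b * h⁻¹) = T1 ∨ M.ρ (h * b * h⁻¹) = T2) := by
  have ht := M.ρ_mem b hb
  set t := M.ρ b with htd
  have t2 : comp t t = one := by rw [htd, ← M.ρ_mul b b hb hb, hb2, M.ρ_one]
  have t1 : t ≠ one := fun e => hbJ ((M.ρ_J b hb).mp e)
  let tX : SixTwoType.XG := ⟨t, Or.inl ht⟩
  have hP : IsPGroup 2 (Subgroup.zpowers tX) := by
    haveI : Fact (Nat.Prime 2) := ⟨Nat.prime_two⟩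
    exact IsPGroup.of_card (n := 1) (by
      rw [Nat.card_zpowers, orderOf_eq_prime (p := 2) (by rw [pow_two]; exact Subtype.ext t2)
        fun e => t1 (congrArg Subtype.val e), pow_one])
  obtain ⟨v, hv, hf⟩ := SixTwoType.fixed_point _ hP
  obtain ⟨i, hi, rfl⟩ := U6Rec.sing_rep hv
  have htv : app t (app (rep i) 1) = app (rep i) 1 := hf tX (Subgroup.mem_zpowers tX)
  obtain ⟨h1, hh1, e1⟩ := M.lift (U6Rec.inU_rep hi)
  have hb1 : B.In (h1⁻¹ * b * h1) := B.In_mul (B.In_mul (B.In_inv hh1) hb) hh1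
  have hst : app (M.ρ (h1⁻¹ * b * h1)) 1 = 1 := by
    rw [M.ρ_mul _ _ (B.In_mul (B.In_inv hh1) hb) hh1, M.ρ_mul _ _ (B.In_inv hh1) hb, e1, U6Rec.app_comp, U6Rec.app_comp,
      ← htd, htv, ← U6Rec.app_comp, ← e1, (M.ρ_inv hh1).1, U6Rec.app_one 1 (by norm_num)]
  obtain ⟨k, hk, ek⟩ := U6Rec.stab_first (M.ρ_mem _ hb1) hst
  have h := List.all_eq_true.mp cls_ok k (List.mem_range.mpr hk)
  simp only [Bool.or_eq_true, Bool.not_eq_true', ← Bool.not_eq_true, Nat.beq_eq, Bool.and_eq_true] at h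
  have hk2 : comp (st k) (st k) = one := by
    rw [← ek, ← M.ρ_mul _ _ hb1 hb1, show h1⁻¹ * b * h1 * (h1⁻¹ * b * h1) = h1⁻¹ * (b * b) * h1 by group, hb2,
      show h1⁻¹ * 1 * h1 = 1 by group, M.ρ_one]
  have hk1 : st k ≠ one := fun e => hbJ (by
    have := B.conjJ h1 (B.In_comm hh1) _ ((M.ρ_J _ hb1).mp (ek.trans e))
    rwa [show h1 * (h1⁻¹ * b * h1) * h1⁻¹ = b by group] at this)
  obtain ⟨⟨hp, hq⟩, hT⟩ := (h.resolve_left fun h => h.elim (fun h => h hk2) hk1)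
  set p := clsL.getD k (0, 0)
  obtain ⟨h2, hh2, e2⟩ := M.lift (U6Rec.inU_elt (Nat.ble_eq.mp hp) (Nat.ble_eq.mp hq) : InU (elt p))
  refine ⟨h2 * h1⁻¹, B.In_mul hh2 (B.In_inv hh1), ?_⟩
  have e3 : ∀ T, InU T → comp (elt p) (st k) = comp T (elt p) → M.ρ (h2 * h1⁻¹ * b * (h2 * h1⁻¹)⁻¹) = T := by
    intro T hTU hT
    rw [show h2 * h1⁻¹ * b * (h2 * h1⁻¹)⁻¹ = h2 * (h1⁻¹ * b * h1) * h2⁻¹ by group,
      M.ρ_mul _ _ (B.In_mul hh2 hb1) (B.In_inv hh2), M.ρ_mul _ _ hh2 hb1, e2, ek, hT, U6Rec.comp_assoc, ← e2,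
      (M.ρ_inv hh2).2, hTU.form]
  rcases hT with hT | hT
  · exact Or.inl (e3 _ (U6Rec.inU_st (by norm_num)) hT)
  · exact Or.inr (e3 _ (U6Rec.inU_st (by norm_num)) hT)

end Model

end CfsgLib.FiTwoType
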