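/-
The transfer of a character of the centraliser at the second involution.
-/
import Cfsg.Agent.Lib.FiTwoType.Fusion
import Cfsg.Agent.Lib.TransferOrbit
import Mathlib.GroupTheory.PGroup

set_option autoImplicit false
set_option linter.unusedVariables false
set_option linter.unusedSectionVars false
set_option linter.style.haveILetI false

namespace CfsgLib.FiTwoType

open CfsgLib.TransferOrbit (cval cval_mul cval_eq transfer_eq_prod orb mem_orb)

namespace Base

variable {G : Type*} [Group G] [Finite G] {X : Type*} [Group X] (B : Base G X)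

/-- Only the base point contributes to the transfer of the second involution. -/
theorem transfer_d {A : Type*} [CommGroup A] (χ : ↥(Subgroup.centralizer ({B.z} : Set G)) →* A) :
    MonoidHom.transfer χ B.d = χ ⟨B.d, B.mem_C.mpr B.dz_comm⟩ := by
  classical
  let H := Subgroup.centralizer ({B.z} : Set G)
  haveI : Fintype (G ⧸ H) := Fintype.ofFinite _
  haveI : Fact (Nat.Prime 2) := ⟨Nat.prime_two⟩
  have hJ2 : IsPGroup 2 B.J := IsPGroup.of_card (n := 10) (by rw [B.card]; norm_num)
  have hstab : ∀ (h x : G), h • (x : G ⧸ H) = x ↔ x⁻¹ * h * x ∈ H := fun h x => by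
    rw [show h • (x : G ⧸ H) = ((h * x : G) : G ⧸ H) from rfl, eq_comm, QuotientGroup.eq, mul_assoc]
  set q₀ : G ⧸ H := ((1 : G) : G ⧸ H) with hq₀
  rw [transfer_eq_prod]
  let f : G ⧸ H → A := fun x => cval χ B.d x
  let pr : G ⧸ H → Quotient (MulAction.orbitRel ↥B.J (G ⧸ H)) := Quotient.mk''
  haveI : Fintype (Quotient (MulAction.orbitRel ↥B.J (G ⧸ H))) := Fintype.ofFinite _
  have hfib : ∀ q, Finset.univ.filter (fun x => pr x = pr q) = orb (⊤ : Subgroup ↥B.J) q := by
    intro q
    ext x
    simp only [pr, Finset.mem_filter, Finset.mem_univ, true_and, mem_orb, Subgroup.mem_top, Quotient.eq'',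
      MulAction.orbitRel_apply, MulAction.mem_orbit_iff]
  have h0 : ∀ g : ↥B.J, g • q₀ = q₀ := fun g =>
    (hstab g 1).mpr (by rw [inv_one, one_mul, mul_one]; exact B.mem_C.mpr (B.Jz g g.2))
  have hd2 : ∀ x, f x * f (B.d • x) = 1 := fun x => by
    have h := cval_mul χ B.d B.d x
    have h1 := cval_mul χ 1 1 x
    rw [one_smul, mul_one, left_eq_mul] at h1
    rw [B.dd, h1] at h
    rw [mul_comm]; exact h.symm
  show ∏ x, f x = χ ⟨B.d, B.mem_C.mpr B.dz_comm⟩
  rw [← Finset.prod_fiberwise Finset.univ pr f, Fintype.prod_eq_single (pr q₀) fun u hu => ?_]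
  · rw [hfib, show orb (⊤ : Subgroup ↥B.J) q₀ = {q₀} from Finset.ext fun x => by
      simp only [mem_orb, Subgroup.mem_top, true_and, h0, Finset.mem_singleton, exists_const]
      exact eq_comm, Finset.prod_singleton]
    have hm : (1 : G)⁻¹ * B.d * 1 ∈ H := by rw [inv_one, one_mul, mul_one]; exact B.mem_C.mpr B.dz_comm
    refine (cval_eq χ ((hstab _ 1).mpr hm) hm).trans ?_
    exact congrArg χ (Subtype.ext (by group))
  induction u using Quotient.inductionOn' with
  | h q =>
    change ∏ x ∈ Finset.univ.filter (fun x => pr x = pr q), f x = 1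
    rw [hfib]
    have hinv : ∀ x ∈ orb (⊤ : Subgroup ↥B.J) q, B.d • x ∈ orb (⊤ : Subgroup ↥B.J) q := fun x hx =>
      CfsgLib.TransferOrbit.smul_mem_orb (g := (⟨B.d, B.dJ⟩ : ↥B.J)) (Subgroup.mem_top _) hx
    have hdj : ∀ (j : ↥B.J) (x : G ⧸ H), B.d • j • x = j • B.d • x := fun j x => by
      show B.d • (j : G) • x = (j : G) • B.d • x
      rw [smul_smul, smul_smul, (B.Jd j j.2).eq]
    have dd' : ∀ x : G ⧸ H, B.d • B.d • x = x := fun x => by rw [smul_smul, B.dd, one_smul]
    by_cases hdq : B.d • q = q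
    · have hfx : ∀ x ∈ orb (⊤ : Subgroup ↥B.J) q, f x = f q := by
        intro x hx
        obtain ⟨j, -, rfl⟩ := mem_orb.mp hx
        have e1 := cval_mul χ B.d (j : G) q
        have e2 := cval_mul χ (j : G) B.d q
        rw [← (B.Jd j j.2).eq, e2, hdq, mul_comm] at e1
        exact (mul_right_cancel e1).symm
      rw [Finset.prod_congr rfl hfx, Finset.prod_const]
      haveI : Fintype (MulAction.orbit ↥B.J q) := Fintype.ofFinite _
      obtain ⟨n, hn⟩ := hJ2.card_orbit q
      have hc : (orb (⊤ : Subgroup ↥B.J) q).card = 2 ^ n := by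
        rw [← hn, ← Nat.card_eq_finsetCard]
        exact Nat.card_congr (Equiv.subtypeEquivRight fun x => by
          simp only [mem_orb, Subgroup.mem_top, true_and, MulAction.mem_orbit_iff])
      obtain ⟨n, rfl⟩ : ∃ m, n = m + 1 := by
        refine ⟨n - 1, ?_⟩
        by_contra hn0
        have hn0 : n = 0 := by omega
        rw [hn0, pow_zero, Finset.card_eq_one] at hc
        obtain ⟨w, hw⟩ := hc
        have fixq : ∀ j : ↥B.J, j • q = q := fun j => by
          have h1 : j • q ∈ orb (⊤ : Subgroup ↥B.J) q := mem_orb.mpr ⟨j, Subgroup.mem_top _, rfl⟩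
          have h2 : q ∈ orb (⊤ : Subgroup ↥B.J) q := mem_orb.mpr ⟨1, Subgroup.mem_top _, one_smul _ q⟩
          rw [hw, Finset.mem_singleton] at h1 h2
          rw [h1, h2]
        obtain ⟨x, rfl⟩ := QuotientGroup.mk_surjective q
        refine hu (congrArg pr (QuotientGroup.eq.mpr ?_))
        rw [mul_one, inv_mem_iff, Subgroup.mem_centralizer_singleton_iff]
        refine mul_inv_eq_iff_eq_mul.mp (B.central_eq fun j hj => ?_)
        have := (B.mem_C.mp ((hstab j x).mp (fixq ⟨j, hj⟩))).symm.map (MulAut.conj x).toMonoidHom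
        simpa [mul_assoc] using this
      rw [hc, pow_succ', pow_mul, pow_two]
      have := hd2 q
      rw [hdq] at this
      rw [this, one_pow]
    · refine Finset.prod_involution (fun x _ => B.d • x) (fun x _ => hd2 x) (fun x hx _ e => hdq ?_)
        (fun x hx => hinv x hx) (fun x _ => dd' x)
      obtain ⟨j, -, rfl⟩ := mem_orb.mp hx
      exact smul_left_cancel j ((hdj j q).symm.trans e)

end Base

end CfsgLib.FiTwoType
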