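/-
A double cover of the unitary group inside: perfect, or split with the second involution outside the derived group.
-/
import Cfsg.Agent.Lib.FiTwoType.Count
import Cfsg.Agent.Lib.FiTwoType.Coord
import Cfsg.Agent.Lib.Fi22Rec.Main
import Cfsg.Agent.Lib.UnitarySimple
import Cfsg.Agent.Lib.ThreeTrans.M22.Quasi
import Cfsg.Prelude.Def_Spor_Fi22

set_option autoImplicit false
set_option maxRecDepth 100000
set_option linter.unusedVariables false
set_option linter.unusedSectionVars false
set_option linter.style.haveILetI false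

namespace CfsgLib.FiTwoType

open U6Rec (app comp InU qf one)

theorem psu_facts {K : Type} [Field K] [Fintype K] (hK : Fintype.card K = 4) :
    IsSimpleGroup (Cfsg.PSU 6 K 2) ∧ Nat.card (Cfsg.PSU 6 K 2) = 9196830720 ∧ commutator (Cfsg.PSU 6 K 2) = ⊤ := by
  classical
  have hs : IsSimpleGroup (Cfsg.PSU 6 K 2) :=
    CfsgLib.UnitarySimple.simple (F := K) (q := 2) (by rw [hK]; norm_num) (by norm_num) (by norm_num)
  have hc := CfsgThreeTrans.M22.card_psu_eq (F := K) (by rw [hK]; norm_num)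
  refine ⟨hs, hc, ?_⟩
  rcases (inferInstance : (commutator (Cfsg.PSU 6 K 2)).Normal).eq_bot_or_eq_top with h | h
  · exfalso
    letI : CommGroup (Cfsg.PSU 6 K 2) :=
      { (inferInstance : Group (Cfsg.PSU 6 K 2)) with
        mul_comm := fun a b => by
          have := Subgroup.commutator_mem_commutator (Subgroup.mem_top a) (Subgroup.mem_top b)
          rw [← _root_.commutator_def, h, Subgroup.mem_bot, commutatorElement_eq_one_iff_mul_comm] at this
          exact this }
    have hp := IsSimpleGroup.prime_card (α := Cfsg.PSU 6 K 2)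
    rw [hc] at hp
    norm_num at hp
  · exact h

/-- Recognition of the Fischer group from a perfect double cover. -/
theorem fi22_of_cover {P : Type*} [Group P] [Finite P] {d : P} (d1 : d ≠ 1) (d2 : d * d = 1) {K : Type} [Field K]
    [Fintype K] (hK : Fintype.card K = 4) (ψ : ↥(Subgroup.centralizer ({d} : Set P)) →* Cfsg.PSU 6 K 2)
    (hs : Function.Surjective ψ) (hk : ∀ g, ψ g = 1 ↔ (g : P) = 1 ∨ (g : P) = d)
    (hp : commutator ↥(Subgroup.centralizer ({d} : Set P)) = ⊤)
    (hn : ∃ g : P, Commute (g * d * g⁻¹) d ∧ g * d * g⁻¹ ≠ d) : Nonempty (P ≃* Cfsg.Spor.Fi22) := by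
  classical
  let C := Subgroup.centralizer ({d} : Set P)
  haveI := (psu_facts hK).1
  haveI : Group.IsPerfect ↥C := ⟨hp⟩
  have hdC : d ∈ C := Subgroup.mem_centralizer_singleton_iff.mpr rfl
  have hker : ψ.ker = (Subgroup.zpowers d).subgroupOf C := by
    ext g
    rw [MonoidHom.mem_ker, hk, Subgroup.mem_subgroupOf, Subgroup.mem_zpowers_iff]
    constructor
    · rintro (k | k)
      exacts [⟨0, by rw [zpow_zero, k]⟩, ⟨1, by rw [zpow_one, k]⟩]
    · rintro ⟨n, hn⟩
      rw [← hn]
      rcases Int.even_or_odd n with ⟨m, rfl⟩ | ⟨m, rfl⟩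
      · exact Or.inl (by rw [← two_mul, zpow_mul, zpow_two, d2, one_zpow])
      · exact Or.inr (by rw [zpow_add_one, zpow_mul, zpow_two, d2, one_zpow, one_mul])
  have hcen : Subgroup.center ↥C = ψ.ker := by
    refine le_antisymm (fun c hc => ?_) fun c hc => ?_
    · have hmem : ψ c ∈ Subgroup.center (Cfsg.PSU 6 K 2) := Subgroup.mem_center_iff.mpr fun x => by
        obtain ⟨y, rfl⟩ := hs x
        rw [← map_mul, ← map_mul, Subgroup.mem_center_iff.mp hc y]
      rcases (inferInstance : (Subgroup.center (Cfsg.PSU 6 K 2)).Normal).eq_bot_or_eq_top with h | h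
      · rw [h, Subgroup.mem_bot] at hmem
        exact hmem
      · exfalso
        have hcomm : commutator (Cfsg.PSU 6 K 2) = ⊥ := by
          rw [_root_.commutator_def, Subgroup.commutator_eq_bot_iff_le_centralizer]
          intro x _
          refine Subgroup.mem_centralizer_iff.mpr fun y _ => ?_
          exact Subgroup.mem_center_iff.mp (h ▸ Subgroup.mem_top x) y
        have hc' := (psu_facts hK).2.1
        rw [(psu_facts hK).2.2] at hcomm
        rw [← Subgroup.card_top, hcomm, Subgroup.card_bot] at hc'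
        norm_num at hc'
    · refine Subgroup.mem_center_iff.mpr fun y => Subtype.ext ?_
      rcases (hk c).mp hc with e | e
      · simp [e]
      · show (y : P) * c = c * y
        rw [e]; exact Subgroup.mem_centralizer_singleton_iff.mp y.2
  haveI : ((Subgroup.zpowers d).subgroupOf C).Normal := hker ▸ ψ.normal_ker
  have hq : Cfsg.IsQuasisimple ↥C := by
    refine ⟨inferInstance, ?_⟩
    let e := (QuotientGroup.quotientMulEquivOfEq hcen).trans (QuotientGroup.quotientKerEquivOfSurjective ψ hs)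
    haveI : Nontrivial (↥C ⧸ Subgroup.center ↥C) := e.toEquiv.nontrivial
    exact IsSimpleGroup.isSimpleGroup_of_surjective e.symm.toMonoidHom e.symm.surjective
  obtain ⟨f, -⟩ := CfsgFi22Rec.recognise d (orderOf_eq_prime (p := 2) (by rw [pow_two, d2]) d1) hq K hK
    ((QuotientGroup.quotientMulEquivOfEq hker.symm).trans (QuotientGroup.quotientKerEquivOfSurjective ψ hs))
    (by
      obtain ⟨g, h1, h2⟩ := hn
      exact ⟨g, Subgroup.mem_centralizer_singleton_iff.mpr h1, h2⟩)
  exact ⟨f.symm⟩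

namespace Base

variable {G : Type*} [Group G] [Finite G] {X : Type*} [Group X] {B : Base G X} {K : Type} [Field K] [Fintype K]

/-- A normal subgroup of the cover is central or covers. -/
theorem cover_normal {C0 : Subgroup G} (hK : Fintype.card K = 4) (hc : B.Cover C0 K) (hd : B.d ∈ C0) (R : Subgroup ↥C0)
    [hR : R.Normal] :
    (∀ c ∈ R, (c : G) = 1 ∨ (c : G) = B.d) ∨ ∀ c : ↥C0, c ∈ R ∨ c * ⟨B.d, hd⟩ ∈ R := by
  obtain ⟨ψ, hs, hk⟩ := hc
  haveI := (psu_facts hK).1
  rcases (hR.map ψ hs).eq_bot_or_eq_top with h | h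
  · refine Or.inl fun c hcR => (hk c).mp ?_
    have : ψ c ∈ R.map ψ := ⟨c, hcR, rfl⟩
    rwa [h, Subgroup.mem_bot] at this
  · refine Or.inr fun c => ?_
    obtain ⟨r, hr, er⟩ := (h ▸ Subgroup.mem_top _ : ψ c ∈ R.map ψ)
    rcases (hk (c⁻¹ * r)).mp (by rw [map_mul, map_inv, er, inv_mul_cancel]) with e | e
    · exact Or.inl (by rw [show c = r from inv_mul_eq_one.mp (Subtype.ext e)]; exact hr)
    · right
      rw [show c * ⟨B.d, hd⟩ = r by rw [← show c⁻¹ * r = ⟨B.d, hd⟩ from Subtype.ext e, mul_inv_cancel_left]]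
      exact hr

theorem cover_card {C0 : Subgroup G} (hK : Fintype.card K = 4) (hc : B.Cover C0 K) (hd : B.d ∈ C0) :
    Nat.card C0 = 2 * 9196830720 := by
  obtain ⟨ψ, hs, hk⟩ := hc
  have hker : Nat.card ψ.ker = 2 := by
    refine (Nat.card_eq_two_iff' (1 : ↥ψ.ker)).mpr ⟨⟨⟨B.d, hd⟩, (hk _).mpr (Or.inr rfl)⟩, ?_, ?_⟩
    · exact fun e => B.d1 (congrArg (fun w : ↥ψ.ker => ((w : ↥C0) : G)) e)
    · rintro ⟨c, hc⟩ hne
      rcases (hk c).mp hc with e | e
      · exact absurd (Subtype.ext (Subtype.ext e)) hne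
      · exact Subtype.ext (Subtype.ext e)
  have := ψ.ker.index_mul_card
  rw [Subgroup.index_ker, MonoidHom.range_eq_top.mpr hs, Subgroup.card_top, (psu_facts hK).2.1, hker] at this
  omega

/-- The cover is perfect or its derived group is a complement. -/
theorem cover_split {C0 : Subgroup G} (hK : Fintype.card K = 4) (hc : B.Cover C0 K) (hd : B.d ∈ C0) :
    commutator ↥C0 = ⊤ ∨ (B.d ∉ ⁅C0, C0⁆ ∧ (∀ c ∈ C0, c ∈ ⁅C0, C0⁆ ∨ c * B.d ∈ ⁅C0, C0⁆) ∧
      ⁅⁅C0, C0⁆, ⁅C0, C0⁆⁆ = ⁅C0, C0⁆ ∧ Nat.card ↥⁅C0, C0⁆ = 9196830720) := by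
  classical
  have hU := Subgroup.map_subtype_commutator C0
  set U := commutator ↥C0 with hUd
  have hnb : ¬ ∀ c ∈ U, (c : G) = 1 ∨ (c : G) = B.d := fun h => by
    obtain ⟨ψ, hs, hk⟩ := hc
    have e : U.map ψ = ⊥ := eq_bot_iff.mpr (by
      rintro _ ⟨c, hc, rfl⟩
      exact Subgroup.mem_bot.mpr ((hk c).mpr (h c hc)))
    rw [hUd, _root_.commutator_def, Subgroup.map_commutator, Subgroup.map_top_of_surjective ψ hs,
      ← _root_.commutator_def, (psu_facts hK).2.2] at e
    have hc' := (psu_facts hK).2.1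
    rw [← Subgroup.card_top, e, Subgroup.card_bot] at hc'
    norm_num at hc'
  have hcov := (B.cover_normal hK hc hd U).resolve_left hnb
  by_cases hdU : (⟨B.d, hd⟩ : ↥C0) ∈ U
  · refine Or.inl (eq_top_iff.mpr fun c _ => ?_)
    rcases hcov c with h | h
    · exact h
    · have := mul_mem h (inv_mem hdU)
      rwa [mul_inv_cancel_right] at this
  right
  have memU : ∀ {c : G} (hc : c ∈ C0), c ∈ ⁅C0, C0⁆ ↔ (⟨c, hc⟩ : ↥C0) ∈ U := fun {c} hc => by
    rw [← hU]
    exact ⟨fun ⟨x, hx, e⟩ => by rw [show (⟨c, hc⟩ : ↥C0) = x from Subtype.ext e.symm]; exact hx,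
      fun h => ⟨_, h, rfl⟩⟩
  refine ⟨fun h => hdU ((memU hd).mp h), fun c hc => ?_, ?_, ?_⟩
  · exact (hcov ⟨c, hc⟩).imp (memU hc).mpr (memU (mul_mem hc hd)).mpr
  · -- perfect
    have hn : (⁅U, U⁆ : Subgroup ↥C0).Normal := inferInstance
    refine le_antisymm (Subgroup.commutator_le_self _) ?_
    rw [← hU, ← Subgroup.map_commutator]
    refine Subgroup.map_mono fun c hcU => ?_
    rcases B.cover_normal hK hc hd ⁅U, U⁆ with h | h
    · exfalso
      obtain ⟨ψ, hs, hk⟩ := hc
      have e : ⁅U, U⁆.map ψ = ⊥ := eq_bot_iff.mpr (by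
        rintro _ ⟨c, hc, rfl⟩
        exact Subgroup.mem_bot.mpr ((hk c).mpr (h c hc)))
      have eU : U.map ψ = ⊤ := by
        rw [hUd, _root_.commutator_def, Subgroup.map_commutator, Subgroup.map_top_of_surjective ψ hs,
          ← _root_.commutator_def, (psu_facts hK).2.2]
      rw [Subgroup.map_commutator, eU, ← _root_.commutator_def, (psu_facts hK).2.2] at e
      have hc' := (psu_facts hK).2.1
      rw [← Subgroup.card_top, e, Subgroup.card_bot] at hc'
      norm_num at hc'
    · rcases h c with h' | h'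
      · exact h'
      · exfalso
        refine hdU ?_
        have := mul_mem (inv_mem hcU) (Subgroup.commutator_le_self U h')
        rwa [inv_mul_cancel_left] at this
  · have hi : U.index = 2 := Subgroup.index_eq_two_iff.mpr ⟨⟨B.d, hd⟩, fun c => by
      by_cases h : c ∈ U
      · refine Or.inr ⟨h, fun h' => hdU ?_⟩
        have := mul_mem (inv_mem h) h'
        rwa [inv_mul_cancel_left] at this
      · exact Or.inl ⟨(hcov c).resolve_left h, h⟩⟩
    have := U.index_mul_card
    rw [hi, B.cover_card hK hc hd] at this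
    rw [← hU, ← Nat.card_congr (U.equivMapOfInjective C0.subtype C0.subtype_injective).toEquiv]
    omega

variable (B)

theorem card_C : Nat.card ↥(Subgroup.centralizer ({B.z} : Set G)) = 2 * 25920 * 1024 := by
  have h := B.π.ker.index_mul_card
  have e : B.π.ker = B.J.subgroupOf _ := by ext h; rw [MonoidHom.mem_ker, B.hk]; rfl
  rw [Subgroup.index_ker, MonoidHom.range_eq_top.mpr B.hπ, Subgroup.card_top, ← B.N.index_mul_card, B.hN, B.cardN, e,
    Nat.card_congr (Subgroup.subgroupOfEquivOfLe B.J_le_C).toEquiv, B.card] at h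
  omega

/-- An invariant subgroup complementing the second involution keeps it out of the derived group. -/
theorem d_not_comm {U : Subgroup G} (hd : B.d ∉ U) (hsplit : ∀ h, B.In h → h ∈ U ∨ h * B.d ∈ U)
    (hinv : ∀ h x, Commute h B.z → B.In x → x ∈ U → h * x * h⁻¹ ∈ U) : B.d ∉ commutator G := by
  classical
  set H := Subgroup.centralizer ({B.z} : Set G) with hH
  let D0 : Subgroup ↥H := (U ⊓ B.H0).subgroupOf H
  haveI hn : D0.Normal := ⟨fun x hx h => ⟨hinv h x (B.mem_C.mp h.2) hx.2 hx.1, B.In_conj hx.2 (B.mem_C.mp h.2)⟩⟩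
  haveI : Finite X := Finite.of_surjective B.π B.hπ
  have hidx : D0.index = 4 := by
    have h0 : (B.H0.subgroupOf H).index = 2 := by
      rw [show B.H0.subgroupOf H = B.N.comap B.π from by
        ext h
        exact ⟨fun ⟨_, e⟩ => e, fun e => ⟨h.2, e⟩⟩, Subgroup.index_comap_of_surjective _ B.hπ, B.hN]
    have h1 : (U.subgroupOf B.H0).index = 2 := Subgroup.index_eq_two_iff.mpr ⟨⟨B.d, B.In_J B.dJ⟩, fun c => by
      by_cases h : (c : G) ∈ U
      · refine Or.inr ⟨h, fun h' => hd ?_⟩
        have := mul_mem (inv_mem h) (show (c : G) * B.d ∈ U from h')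
        rwa [inv_mul_cancel_left] at this
      · exact Or.inl ⟨(hsplit c c.2).resolve_left h, h⟩⟩
    have hle : B.H0 ≤ H := fun h hh => hh.1
    have e : D0.index = (U ⊓ B.H0).relIndex H := rfl
    rw [e, ← Subgroup.relIndex_mul_relIndex _ B.H0 _ inf_le_right hle, Subgroup.inf_relIndex_right]
    show (U.subgroupOf B.H0).index * (B.H0.subgroupOf H).index = 4
    rw [h0, h1]
  haveI : Fact (Nat.Prime 2) := ⟨Nat.prime_two⟩
  letI : CommGroup (↥H ⧸ D0) := { (inferInstance : Group (↥H ⧸ D0)) with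
    mul_comm := (IsPGroup.isMulCommutative_of_card_eq_prime_sq (p := 2) (show Nat.card (↥H ⧸ D0) = 2 ^ 2 from hidx)).is_comm.comm }
  let χ : ↥H →* ↥H ⧸ D0 := QuotientGroup.mk' D0
  intro hmem
  have h1 : MonoidHom.transfer χ B.d = 1 := Abelianization.commutator_subset_ker _ hmem
  rw [B.transfer_d χ] at h1
  exact hd ((QuotientGroup.eq_one_iff _).mp h1).1

/-- The core is generated by commutators of the preimage and the centre. -/
theorem comm_center (M : Model B id qf) {j : G} (hj : j ∈ B.J) :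
    ∃ c ∈ ⁅B.H0, B.H0⁆, B.Z (c⁻¹ * j) := by
  classical
  let S : ℕ → Prop := fun v => ∃ c, c ∈ ⁅B.H0, B.H0⁆ ∧ c ∈ B.J ∧ M.co c = v
  have Sx : ∀ {u v}, S u → S v → S (u ^^^ v) := fun {u v} ⟨a, a1, a2, a3⟩ ⟨b, b1, b2, b3⟩ =>
    ⟨a * b, mul_mem a1 b1, mul_mem a2 b2, by rw [M.co_mul a a2 b b2, a3, b3]⟩
  have S0 : S 0 := ⟨1, one_mem _, one_mem _, M.co_one⟩
  have hgen : ∀ k < 5, ∀ b < 8, S (app (U6Rec.gen k) (1 <<< b) ^^^ (1 <<< b)) := by
    intro k hk b hb
    have hU : InU (U6Rec.gen k) := gen_one k hk ▸ U42Act.gen_left hk U6Rec.inU_one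
    obtain ⟨h, hh, eh⟩ := M.lift hU
    obtain ⟨w, hw, ew⟩ := M.co_surj (1 <<< b) (by interval_cases b <;> decide)
    have hwJ := B.conjJ h (B.In_comm hh) w hw
    refine ⟨h * w * h⁻¹ * w⁻¹, Subgroup.commutator_mem_commutator hh (B.In_J hw), mul_mem hwJ (inv_mem hw), ?_⟩
    rw [M.co_mul _ hwJ _ (inv_mem hw), M.co_inv hw, M.co_conj h hh w hw, eh, ew, id]
  have hbit : ∀ i < 8, S (1 <<< i) := by
    intro i hi
    obtain ⟨hl, he⟩ := span_nat i hi
    rw [← he]
    generalize spanL.getD i [] = l at hl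
    induction l with
    | nil => exact S0
    | cons p l ih =>
      rw [List.foldr_cons]
      exact Sx (hgen p.1 (hl p List.mem_cons_self).1 p.2 (hl p List.mem_cons_self).2)
        (ih fun q hq => hl q (List.mem_cons_of_mem _ hq))
  have hdec : ∀ v < 256, ((List.range 8).filter fun i => v.testBit i).foldr (fun i a => (1 <<< i) ^^^ a) 0 = v := by
    decide +kernel
  have hall : ∀ v < 256, S v := by
    intro v hv
    rw [← hdec v hv]
    have hl : ∀ i ∈ (List.range 8).filter fun i => v.testBit i, i < 8 := fun i hi =>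
      List.mem_range.mp (List.mem_of_mem_filter hi)
    generalize (List.range 8).filter (fun i => v.testBit i) = l at hl
    induction l with
    | nil => exact S0
    | cons i l ih =>
      rw [List.foldr_cons]
      exact Sx (hbit i (hl i List.mem_cons_self)) (ih fun q hq => hl q (List.mem_cons_of_mem _ hq))
  obtain ⟨c, c1, c2, c3⟩ := hall _ (M.co_lt j hj)
  exact ⟨c, c1, M.co_eq hj c2 c3.symm⟩

end Base

end CfsgLib.FiTwoType
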