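/-
A subgroup avoiding the second involution and containing the preimage up to it: isolation or the unitary group.
-/
import Cfsg.Agent.Lib.FiTwoType.Quot

set_option autoImplicit false
set_option maxRecDepth 100000
set_option linter.unusedVariables false
set_option linter.unusedSectionVars false
set_option linter.style.haveILetI false

namespace CfsgLib.FiTwoType

namespace Base

variable {G : Type*} [Group G] [Finite G] {X : Type*} [Group X] (B : Base G X)
variable {F : Type*} [Field F] [Fintype F] {K : Type*} [Field K] [Fintype K]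

/-- Isolation in the subgroup or a unitary subgroup with abelian quotient. -/
theorem sub_split (hF : Fintype.card F = 3) (hK : Fintype.card K = 4) (eN : Cfsg.PSp 2 F ≃* ↥B.N)
    {G2 : Subgroup G} (hz : B.z ∈ G2) (hd : B.d ∉ G2) (hsplit : ∀ h, B.In h → h ∈ G2 ∨ h * B.d ∈ G2) :
    (∀ g ∈ G2, Commute (g * B.z * g⁻¹) B.z → g * B.z * g⁻¹ = B.z) ∨
      ∃ G3 : Subgroup G, G3 ≤ G2 ∧ Nonempty (↥G3 ≃* Cfsg.PSU 6 K 2) ∧
        (∀ a ∈ G2, ∀ b ∈ G2, a * b * a⁻¹ * b⁻¹ ∈ G3) ∧ ((∀ h ∈ G2, Commute h B.z → B.In h) → G3 = G2) := by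
  classical
  let z2 : ↥G2 := ⟨B.z, hz⟩
  let J1 : Subgroup ↥G2 := B.J.subgroupOf G2
  have hjd : ∀ j ∈ B.J, j ∈ G2 ∨ j * B.d ∈ G2 := fun j hj => hsplit j (B.In_J hj)
  have hc1 : Nat.card J1 = 512 := by
    have hi : (G2.subgroupOf B.J).index = 2 := by
      refine Subgroup.index_eq_two_iff.mpr ⟨⟨B.d, B.dJ⟩, fun b => ?_⟩
      by_cases hb : (b : G) ∈ G2
      · refine Or.inr ⟨hb, fun h => hd ?_⟩
        have := mul_mem (inv_mem hb) (show (b : G) * B.d ∈ G2 from h)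
        rwa [inv_mul_cancel_left] at this
      · exact Or.inl ⟨(hjd b b.2).resolve_left hb, hb⟩
    have h := (G2.subgroupOf B.J).index_mul_card
    rw [hi, B.card] at h
    have e : Nat.card J1 = Nat.card (G2.subgroupOf B.J) := Nat.card_congr
      ⟨fun j => ⟨⟨(j : ↥G2), j.2⟩, (j : ↥G2).2⟩, fun j => ⟨⟨(j : ↥B.J), j.2⟩, (j : ↥B.J).2⟩, fun j => rfl, fun j => rfl⟩
    omega
  have lift : ∀ k : ↥G2, (∀ j ∈ J1, Commute k j) → ∀ j ∈ B.J, Commute (k : G) B.d → Commute (k : G) j := by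
    intro k hk j hj kd
    rcases hjd j hj with h | h
    · exact congrArg Subtype.val (hk ⟨j, h⟩ hj).eq
    · have h1 : Commute (k : G) (j * B.d) := congrArg Subtype.val (hk ⟨j * B.d, h⟩ (mul_mem hj B.dJ : j * B.d ∈ B.J)).eq
      have := h1.mul_right kd
      rwa [mul_assoc, B.dd, mul_one] at this
  obtain ⟨D, hDz, hDJ⟩ := CfsgLib.U6Chz.exists_chz z2 (by rw [← Subgroup.orderOf_coe]; exact B.orderOf_z) J1
    (fun j hj => Subtype.ext (B.Jz _ hj).eq)
    (fun h hh j hj => B.conjJ _ (congrArg Subtype.val hh.eq) _ hj) hc1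
    (fun j hj => (B.sq2 _ hj).imp (fun h => Subtype.ext h) fun h => Subtype.ext h) B.zJ
    (fun j hj hc => by
      have h := lift j (fun k hk => (hc k hk).symm)
      rcases B.centre _ hj fun k hk => h k hk (B.Jd _ hj) with e | e | e | e
      · exact Or.inl (Subtype.ext e)
      · exact Or.inr (Subtype.ext e)
      · exact absurd (e ▸ j.2) hd
      · refine absurd ?_ hd
        have := mul_mem (e ▸ j.2 : B.d * B.z ∈ G2) hz
        rwa [mul_assoc, B.zz, mul_one] at this)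
    (fun h hh hc => by
      have hhz : Commute (h : G) B.z := congrArg Subtype.val hh.eq
      refine B.ker_mod hhz fun j hj => ?_
      show B.Z ((h : G) * j * (h : G)⁻¹ * j⁻¹)
      rcases hjd j hj with hj2 | hj2
      · rw [show (h : G) * j = j * h from congrArg Subtype.val (hc ⟨j, hj2⟩ hj).eq, mul_inv_cancel_right,
          mul_inv_cancel]
        exact B.Z_one
      · have hc' : (h : G) * (j * B.d) = j * B.d * h :=
          congrArg Subtype.val (hc ⟨j * B.d, hj2⟩ (mul_mem hj B.dJ : j * B.d ∈ B.J)).eq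
        have hζ := B.Z_conj hhz B.Z_d
        have e : (h : G) * j * (h : G)⁻¹ * j⁻¹ = j * (B.d * ((h : G) * B.d * (h : G)⁻¹)⁻¹) * j⁻¹ := by
          calc (h : G) * j * (h : G)⁻¹ * j⁻¹
              = (h : G) * (j * B.d) * (h : G)⁻¹ * ((h : G) * B.d * (h : G)⁻¹)⁻¹ * j⁻¹ := by group
            _ = _ := by rw [hc', mul_inv_cancel_right, mul_assoc j]
        rw [e, ← (B.Z_comm (B.Z_mul B.Z_d (B.Z_inv hζ)) hj).eq, mul_inv_cancel_right]
        exact B.Z_mul B.Z_d (B.Z_inv hζ))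
  set H1 := Subgroup.centralizer ({D.z} : Set ↥G2) with hH1
  have mH : ∀ h : H1, Commute ((h : ↥G2) : G) B.z := fun h => by
    have := Subgroup.mem_centralizer_singleton_iff.mp h.2
    rw [hDz] at this
    exact congrArg Subtype.val this
  let π1 : ↥H1 →* X := MonoidHom.mk' (fun h => B.π ⟨_, B.mem_C.mpr (mH h)⟩) fun a b => by
    show B.π ⟨_, _⟩ = B.π _ * B.π _
    rw [← map_mul]; rfl
  have mk1 : ∀ (h : G) (hh : Commute h B.z) (h2 : h ∈ G2), ∃ k : H1, π1 k = B.π ⟨h, B.mem_C.mpr hh⟩ := fun h hh h2 =>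
    ⟨⟨⟨h, h2⟩, Subgroup.mem_centralizer_singleton_iff.mpr (by rw [hDz]; exact Subtype.ext hh.eq)⟩, rfl⟩
  have surjN : ∀ x ∈ B.N, ∃ k : H1, π1 k = x := by
    intro x hx
    obtain ⟨h, hh, e⟩ := B.In_lift hx
    rcases hsplit h hh with h2 | h2
    · obtain ⟨k, hk⟩ := mk1 h (B.In_comm hh) h2
      exact ⟨k, hk.trans (e _)⟩
    · obtain ⟨k, hk⟩ := mk1 _ ((B.In_comm hh).mul_left B.dz_comm) h2
      refine ⟨k, hk.trans ?_⟩
      show B.π (⟨h, B.mem_C.mpr (B.In_comm hh)⟩ * ⟨B.d, B.mem_C.mpr B.dz_comm⟩) = x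
      rw [map_mul, B.π_J B.dJ, mul_one, e]
  have hk1 : ∀ k : H1, π1 k = 1 ↔ (k : ↥G2) ∈ D.J := fun k => by rw [hDJ]; exact B.hk _
  have hiso : (∀ g : ↥G2, Commute (g * D.z * g⁻¹) D.z → g * D.z * g⁻¹ = D.z) →
      ∀ g ∈ G2, Commute (g * B.z * g⁻¹) B.z → g * B.z * g⁻¹ = B.z := fun h g hg hc => by
    have e := h ⟨g, hg⟩ (by rw [hDz]; exact Subtype.ext hc.eq)
    rw [hDz] at e
    exact congrArg Subtype.val e
  by_cases hin : ∀ h ∈ G2, Commute h B.z → B.In h
  · let π' : ↥H1 →* ↥B.N := π1.codRestrict B.N fun k => (hin _ (k : ↥G2).2 (mH k)).2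
    rcases isolated_or_u6 D π' (fun x => (surjN x x.2).imp fun k hk => Subtype.ext hk)
      (fun k => by rw [← hk1 k, ← Subtype.coe_inj]; rfl) hF eN.symm hK with h | h
    · exact Or.inl (hiso h)
    · exact Or.inr ⟨G2, le_rfl, h, fun a ha b hb => mul_mem (mul_mem (mul_mem ha hb) (inv_mem ha)) (inv_mem hb),
        fun _ => rfl⟩
  · push Not at hin
    obtain ⟨h0, h02, h0z, h0n⟩ := hin
    haveI : Finite X := Finite.of_surjective B.π B.hπ
    have hs : Function.Surjective π1 := fun x => by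
      obtain ⟨k0, hk0⟩ := mk1 h0 h0z h02
      by_cases hx : x ∈ B.N
      · exact surjN x hx
      · obtain ⟨k, hk⟩ := surjN ((π1 k0)⁻¹ * x) (by
          rw [Subgroup.mul_mem_iff_of_index_two B.hN]
          exact iff_of_false (fun h => h0n ⟨_, hk0 ▸ inv_mem_iff.mp h⟩) hx)
        exact ⟨k0 * k, by rw [map_mul, hk, mul_inv_cancel_left]⟩
    rcases isolated_or_sub D π1 hs hk1 B.N hF B.hN eN B.hcent hK with h | ⟨G4, hi, ⟨e⟩, -⟩
    · exact Or.inl (hiso h)
    · refine Or.inr ⟨G4.map G2.subtype, Subgroup.map_subtype_le _,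
        ⟨(G4.equivMapOfInjective G2.subtype G2.subtype_injective).symm.trans e⟩, fun a ha b hb => ?_,
        fun h => absurd (h h0 h02 h0z) h0n⟩
      haveI := Subgroup.normal_of_index_eq_two hi
      refine ⟨⟨a, ha⟩ * ⟨b, hb⟩ * (⟨a, ha⟩ : ↥G2)⁻¹ * (⟨b, hb⟩ : ↥G2)⁻¹, ?_, rfl⟩
      rw [SetLike.mem_coe, Subgroup.mul_mem_iff_of_index_two hi, inv_mem_iff]
      refine ⟨fun h => ?_, fun h => (inferInstance : G4.Normal).conj_mem _ h _⟩
      have := (inferInstance : G4.Normal).conj_mem _ h (⟨a, ha⟩ : ↥G2)⁻¹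
      rwa [show ∀ x y : ↥G2, x⁻¹ * (x * y * x⁻¹) * x⁻¹⁻¹ = y from fun x y => by group] at this

end Base

end CfsgLib.FiTwoType
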