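/-
The centraliser fixes the second involution and the first is not isolated beside it: the second is central.
-/
import Cfsg.Agent.Lib.FiTwoType.Cover
import Cfsg.Agent.Lib.FiTwoType.Split
import Cfsg.Agent.Lib.ZStar.Main
import Cfsg.Agent.S1696

set_option autoImplicit false
set_option maxRecDepth 100000
set_option linter.unusedVariables false
set_option linter.unusedSectionVars false
set_option linter.style.haveILetI false

namespace CfsgLib.FiTwoType

namespace Base

variable {G : Type*} [Group G] [Finite G] {X : Type*} [Group X] (B : Base G X)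
variable {F : Type*} [Field F] [Fintype F] {K : Type} [Field K] [Fintype K]

/-- With a non-isolated first involution and a fixed second one, the second is central. -/
theorem case_A (hF : Fintype.card F = 3) (hK : Fintype.card K = 4) (eN : Cfsg.PSp 2 F ≃* ↥B.N)
    (hA : ∀ h, Commute h B.z → Commute h B.d) (hI : ¬ B.Iso) :
    (∀ g : G, Commute g B.d) ∧ ∃ G0 : Subgroup G, G0.index = 2 ∧ B.d ∈ G0 ∧ B.Cover G0 K := by
  classical
  rcases B.six_A hF hK eN hA with h | ⟨C0, hC0L, hnorm, hC0, hprod, hcov⟩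
  · exact absurd h hI
  obtain ⟨G0, hi, hG0⟩ := B.extend_A hF hK eN hA
  haveI : G0.Normal := Subgroup.normal_of_index_eq_two hi
  obtain ⟨h0, h0z, h0n⟩ := B.exists_outer
  have h0d := hA h0 h0z
  have h0G : h0 ∉ G0 := fun h => h0n ((hG0 h0 h0z).mp h)
  have InC : ∀ h, B.In h → h ∈ C0 := fun h hh => (hC0 h (B.In_comm hh)).mpr hh
  have InG : ∀ h, B.In h → h ∈ G0 := fun h hh => (hG0 h (B.In_comm hh)).mpr hh
  have hd0 : B.d ∈ C0 := InC _ (B.In_J B.dJ)
  have hzC : B.z ∈ C0 := InC _ (B.In_J B.zJ)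
  have dC : ∀ c ∈ C0, Commute c B.d := fun c hc => B.mem_L.mp (hC0L hc)
  have nonab' : ∃ u ∈ B.J, ∃ v ∈ B.J, u * v = B.z * (v * u) := by
    obtain ⟨u, hu, v, hv, e⟩ := B.big_nonab B.J le_rfl (by rw [B.card]; norm_num)
    exact ⟨u, hu, v, hv, e⟩
  -- the cover lies in the subgroup of index two
  have hCG : C0 ≤ G0 := by
    rcases cover_normal hK hcov hd0 (G0.subgroupOf C0) with h | h
    · exfalso
      rcases h ⟨B.z, hzC⟩ (InG _ (B.In_J B.zJ)) with e | e
      exacts [B.z1 e, B.dne e.symm]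
    · intro c hc
      rcases h ⟨c, hc⟩ with h' | h'
      · exact h'
      · have := mul_mem (show c * B.d ∈ G0 from h') (inv_mem (InG _ (B.In_J B.dJ)))
        rwa [mul_inv_cancel_right] at this
  have hCeq : ∀ g, g ∈ G0 → Commute g B.d → g ∈ C0 := fun g hg hgd => by
    by_contra hn
    have h1 := hprod g (B.mem_L.mpr hgd) h0 (B.mem_L.mpr h0d) hn fun h => h0G (hCG h)
    have := mul_mem (inv_mem hg) (hCG h1)
    rw [inv_mul_cancel_left] at this
    exact h0G this
  have outer : ∀ g : G, g ∉ G0 → g * h0 ∈ G0 := fun g hg =>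
    (Subgroup.mul_mem_iff_of_index_two hi).mpr (iff_of_false hg h0G)
  suffices hcen : ∀ g ∈ G0, Commute g B.d by
    have e : C0 = G0 := le_antisymm hCG fun g hg => hCeq g hg (hcen g hg)
    refine ⟨fun g => ?_, G0, hi, e ▸ hd0, e ▸ hcov⟩
    by_cases hg : g ∈ G0
    · exact hcen g hg
    · have := (hcen _ (outer g hg)).mul_left h0d.inv_left
      rwa [mul_inv_cancel_right] at this
  by_cases hiso : ∀ g ∈ G0, Commute (g * B.d * g⁻¹) B.d → g * B.d * g⁻¹ = B.d
  · -- the second involution is isolated in the subgroup of index two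
    set d0 : ↥G0 := ⟨B.d, InG _ (B.In_J B.dJ)⟩
    have hd2 : orderOf d0 = 2 := by
      rw [← Subgroup.orderOf_coe]; exact orderOf_eq_prime (p := 2) (by rw [pow_two]; exact B.dd) B.d1
    have hst : Cfsg.IsIsolated d0 := fun g hg =>
      Subtype.ext (hiso g g.2 (congrArg Subtype.val hg.eq).symm)
    set O := (Cfsg.oddCore ↥G0).map G0.subtype with hO
    have oG : ∀ o ∈ O, o ∈ G0 := fun o ho => Subgroup.map_subtype_le _ ho
    have onorm : ∀ g ∈ G0, ∀ o ∈ O, g * o * g⁻¹ ∈ O := by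
      rintro g hg _ ⟨o, ho, rfl⟩
      exact ⟨⟨g, hg⟩ * o * ⟨g, hg⟩⁻¹, (inferInstance : (Cfsg.oddCore ↥G0).Normal).conj_mem o ho _, rfl⟩
    have oodd : ∀ o ∈ O, Odd (orderOf o) := by
      rintro _ ⟨o, ho, rfl⟩
      rw [Subgroup.subtype_apply, Subgroup.orderOf_coe]
      exact Odd.of_dvd_nat CfsgLib.odd_card_oddCore (Subgroup.orderOf_dvd_natCard _ ho)
    have odd4 : ∀ o ∈ O, o ^ 4 = 1 → o = 1 := fun o ho h4 => orderOf_eq_one_iff.mp (Nat.eq_one_of_dvd_coprimes
      (Nat.Coprime.pow_left 2 (Nat.coprime_two_left.mpr (oodd o ho))) (orderOf_dvd_of_pow_eq_one (n := 2 ^ 2) h4)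
      dvd_rfl)
    have j4 : ∀ j ∈ B.J, j ^ 4 = 1 := fun j hj => by
      rcases B.sq2 j hj with e | e <;> rw [show j ^ 4 = (j * j) * (j * j) by simp [pow_succ, mul_assoc], e]
      exacts [one_mul 1, B.zz]
    have fixfree : ∀ o ∈ O, Commute o B.z → o = 1 := by
      intro o ho hoz
      have oIn : B.In o := (hG0 o hoz).mp (oG o ho)
      refine odd4 o ho (j4 o (B.selfcent o hoz fun j hj => ?_))
      have h1 : o * j * o⁻¹ * j⁻¹ ∈ O := by
        rw [show o * j * o⁻¹ * j⁻¹ = o * (j * o⁻¹ * j⁻¹) by group]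
        exact mul_mem ho (onorm j (InG j (B.In_J hj)) _ (inv_mem ho))
      have h2 : o * j * o⁻¹ * j⁻¹ ∈ B.J := mul_mem (B.conjJ o hoz j hj) (inv_mem hj)
      have h3 := odd4 _ h1 (j4 _ h2)
      rwa [mul_inv_eq_one, mul_inv_eq_iff_eq_mul] at h3
    have zG := InG _ (B.In_J B.zJ)
    let f : ↥O → ↥O := fun o => ⟨(o : G)⁻¹ * (B.z * o * B.z⁻¹), mul_mem (inv_mem o.2) (onorm _ zG _ o.2)⟩
    have finj : Function.Injective f := fun a b e => by
      have e' : (a : G)⁻¹ * (B.z * a * B.z⁻¹) = (b : G)⁻¹ * (B.z * b * B.z⁻¹) := congrArg Subtype.val e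
      refine Subtype.ext (mul_inv_eq_one.mp (fixfree _ (mul_mem b.2 (inv_mem a.2)) ?_)).symm
      refine (mul_inv_eq_iff_eq_mul.mp ?_).symm
      calc B.z * ((b : G) * (a : G)⁻¹) * B.z⁻¹ = B.z * b * B.z⁻¹ * (B.z * a * B.z⁻¹)⁻¹ := by group
        _ = (b : G) * ((b : G)⁻¹ * (B.z * b * B.z⁻¹)) * ((a : G)⁻¹ * (B.z * a * B.z⁻¹))⁻¹ * (a : G)⁻¹ := by group
        _ = (b : G) * (a : G)⁻¹ := by rw [e']; group
    have inv : ∀ o ∈ O, B.z * o * B.z⁻¹ = o⁻¹ := by
      intro o ho
      obtain ⟨w, hw⟩ := (Finite.injective_iff_surjective.mp finj) ⟨o, ho⟩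
      have e : (w : G)⁻¹ * (B.z * w * B.z⁻¹) = o := congrArg Subtype.val hw
      rw [← e, show B.z * ((w : G)⁻¹ * (B.z * w * B.z⁻¹)) * B.z⁻¹ =
        (B.z * w * B.z⁻¹)⁻¹ * (B.z * B.z * w * (B.z * B.z)⁻¹) by group, B.zz]
      group
    let R : Subgroup ↥C0 := (Subgroup.centralizer (O : Set G)).subgroupOf C0
    have memR : ∀ {c : ↥C0}, c ∈ R ↔ ∀ o ∈ O, Commute (c : G) o := fun {c} => by
      rw [Subgroup.mem_subgroupOf, Subgroup.mem_centralizer_iff]
      exact ⟨fun h o ho => (h o ho).symm, fun h o ho => (h o ho).symm⟩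
    haveI : R.Normal := ⟨fun r hr c => memR.mpr fun o ho => by
      have hcG := hCG c.2
      have h1 := memR.mp hr _ (onorm _ (inv_mem hcG) o ho)
      have := h1.map (MulAut.conj (c : G)).toMonoidHom
      simpa [mul_assoc] using this⟩
    have hO1 : ∀ o ∈ O, o = 1 := by
      rcases cover_normal hK hcov hd0 R with h | h
      · exfalso
        have cz : ∀ c ∈ C0, Commute c B.z := fun c hc => by
          have hm : (⟨c, hc⟩ : ↥C0) * ⟨B.z, hzC⟩ * ⟨c, hc⟩⁻¹ * ⟨B.z, hzC⟩⁻¹ ∈ R := memR.mpr fun o ho => by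
            have ho' := onorm _ (inv_mem (hCG hc)) o ho
            have e1 : c * B.z * c⁻¹ * o * (c * B.z * c⁻¹)⁻¹ = o⁻¹ := by
              rw [show c * B.z * c⁻¹ * o * (c * B.z * c⁻¹)⁻¹ = c * (B.z * (c⁻¹ * o * c⁻¹⁻¹) * B.z⁻¹) * c⁻¹ by group,
                inv _ ho']
              group
            refine mul_inv_eq_iff_eq_mul.mp ?_
            show c * B.z * c⁻¹ * B.z⁻¹ * o * (c * B.z * c⁻¹ * B.z⁻¹)⁻¹ = o
            calc c * B.z * c⁻¹ * B.z⁻¹ * o * (c * B.z * c⁻¹ * B.z⁻¹)⁻¹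
                = c * B.z * c⁻¹ * (B.z⁻¹ * o * B.z⁻¹⁻¹) * (c * B.z * c⁻¹)⁻¹ := by group
              _ = c * B.z * c⁻¹ * o⁻¹ * (c * B.z * c⁻¹)⁻¹ := by rw [inv_inv, B.z_inv, ← inv o ho, B.z_inv]
              _ = (c * B.z * c⁻¹ * o * (c * B.z * c⁻¹)⁻¹)⁻¹ := by group
              _ = o := by rw [e1, inv_inv]
          rcases h _ hm with e | e
          · exact mul_inv_eq_iff_eq_mul.mp (mul_inv_eq_one.mp (e : c * B.z * c⁻¹ * B.z⁻¹ = 1))
          · exact absurd (mul_inv_eq_iff_eq_mul.mp (e : c * B.z * c⁻¹ * B.z⁻¹ = B.d)) (B.not_conj_dz c)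
        have := Subgroup.card_le_of_le (show C0 ≤ Subgroup.centralizer ({B.z} : Set G) from fun c hc =>
          B.mem_C.mpr (cz c hc))
        rw [cover_card hK hcov hd0, B.card_C] at this
        omega
      · intro o ho
        obtain ⟨u, hu, v, hv, e⟩ := nonab'
        have hR : ∀ c ∈ C0, ∃ r ∈ C0, (∀ o ∈ O, Commute r o) ∧ ∃ ζ, (ζ = 1 ∨ ζ = B.d) ∧ c = r * ζ := fun c hc => by
          rcases h ⟨c, hc⟩ with h' | h'
          · exact ⟨c, hc, fun o ho => memR.mp h' o ho, 1, Or.inl rfl, (mul_one c).symm⟩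
          · exact ⟨c * B.d, mul_mem hc hd0, fun o ho => memR.mp h' o ho, B.d, Or.inr rfl,
              by rw [mul_assoc, B.dd, mul_one]⟩
        obtain ⟨r, hr, ro, ζ, hζ, eu⟩ := hR u (InC u (B.In_J hu))
        obtain ⟨s, hs, so, η, hη, ev⟩ := hR v (InC v (B.In_J hv))
        have hcz : ∀ {ζ}, (ζ = 1 ∨ ζ = B.d) → ∀ c ∈ C0, Commute ζ c := fun {ζ} h c hc => by
          rcases h with rfl | rfl
          exacts [Commute.one_left c, (dC c hc).symm]
        have hζC : ζ ∈ C0 := by rcases hζ with rfl | rfl; exacts [one_mem _, hd0]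
        have ez : B.z = r * s * r⁻¹ * s⁻¹ := by
          have e2 : u * v * (v * u)⁻¹ = B.z := by rw [e, mul_inv_cancel_right]
          rw [← e2, eu, ev]
          calc r * ζ * (s * η) * (s * η * (r * ζ))⁻¹ = r * (ζ * (s * η)) * ζ⁻¹ * r⁻¹ * η⁻¹ * s⁻¹ := by group
            _ = r * s * (η * r⁻¹) * η⁻¹ * s⁻¹ := by
              rw [(hcz hζ _ (mul_mem hs (by rcases hη with rfl | rfl; exacts [one_mem _, hd0]))).eq]; group
            _ = _ := by rw [(hcz hη _ (inv_mem hr)).eq]; group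
        have hzo : Commute B.z o := by
          rw [ez]; exact (((ro o ho).mul_left (so o ho)).mul_left (ro o ho).inv_left).mul_left (so o ho).inv_left
        exact fixfree o ho hzo.symm
    intro g hg
    have h1 : (⟨g, hg⟩ : ↥G0) * d0 * ⟨g, hg⟩⁻¹ * d0⁻¹ ∈ Cfsg.oddCore ↥G0 := CfsgLib.ZStar.inZStar hd2 hst _
    have h2 : g * B.d * g⁻¹ * B.d⁻¹ = 1 := hO1 _ ⟨_, h1, rfl⟩
    exact mul_inv_eq_iff_eq_mul.mp (mul_inv_eq_one.mp h2)
  exfalso
  push Not at hiso
  obtain ⟨g, hg, hgd, hgne⟩ := hiso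
  rcases cover_split hK hcov hd0 with hperf | ⟨hdU, hsplit, hUU, hUc⟩
  · -- the Fischer group has too large a Sylow subgroup
    set d0 : ↥G0 := ⟨B.d, InG _ (B.In_J B.dJ)⟩
    have mc : ∀ c : ↥(Subgroup.centralizer ({d0} : Set ↥G0)), Commute ((c : ↥G0) : G) B.d := fun c =>
      congrArg Subtype.val (Subgroup.mem_centralizer_singleton_iff.mp c.2)
    let τ : ↥(Subgroup.centralizer ({d0} : Set ↥G0)) ≃* ↥C0 :=
      { toFun := fun c => ⟨((c : ↥G0) : G), hCeq _ (c : ↥G0).2 (mc c)⟩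
        invFun := fun c => ⟨⟨c, hCG c.2⟩, Subgroup.mem_centralizer_singleton_iff.mpr (Subtype.ext (dC c c.2).eq)⟩
        left_inv := fun c => rfl
        right_inv := fun c => rfl
        map_mul' := fun a b => rfl }
    obtain ⟨ψ, hs, hk⟩ := hcov
    obtain ⟨e⟩ := fi22_of_cover (d := d0) (fun e => B.d1 (congrArg Subtype.val e)) (Subtype.ext B.dd) hK
      (ψ.comp τ.toMonoidHom) (hs.comp τ.surjective)
      (fun c => (hk (τ c)).trans (or_congr ⟨fun e => Subtype.ext e, fun e => congrArg Subtype.val e⟩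
        ⟨fun e => Subtype.ext e, fun e => congrArg Subtype.val e⟩))
      (by
        refine Subgroup.map_injective (f := τ.toMonoidHom) τ.injective ?_
        rw [_root_.commutator_def, Subgroup.map_commutator, Subgroup.map_top_of_surjective _ τ.surjective,
          ← _root_.commutator_def]
        exact hperf)
      ⟨⟨g, hg⟩, Subtype.ext hgd.eq, fun e => hgne (congrArg Subtype.val e)⟩
    have hc : Nat.card ↥G0 = 64561751654400 := (Nat.card_congr e.toEquiv).trans Cfsg.Agent.S1696.result.2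
    obtain ⟨T, hT, -, hTH, hodd⟩ := B.exists_sylow
    haveI : Fact (Nat.Prime 2) := ⟨Nat.prime_two⟩
    obtain ⟨k, hk2⟩ := IsPGroup.iff_card.mp hT
    have h17 : k ≤ 17 := by
      by_contra h17
      have h18 : 2 ^ 18 ∣ 2 * 25920 * 1024 := by
        rw [← B.card_C]
        exact ((pow_dvd_pow 2 (by omega)).trans hk2.symm.dvd).trans (Subgroup.card_dvd_of_le hTH)
      norm_num at h18
    have h1 := G0.index_mul_card
    rw [hi, hc, ← T.index_mul_card, hk2] at h1
    have h18 : 2 ^ 18 ∣ T.index * 2 ^ k := by rw [← h1]; norm_num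
    refine hodd ?_
    have h2 : 2 ^ 18 ∣ T.index * 2 ^ 17 := h18.trans (mul_dvd_mul_left _ (pow_dvd_pow 2 h17))
    rw [pow_succ', mul_comm T.index] at h2
    exact (Nat.mul_dvd_mul_iff_left (by norm_num : 0 < 2 ^ 17)).mp (by rwa [mul_comm 2] at h2)
  · -- the derived group of the cover
    set U := ⁅C0, C0⁆ with hU
    have UC : U ≤ C0 := Subgroup.commutator_le_self C0
    set G2 := commutator G with hG2
    haveI : G2.Normal := by rw [hG2]; infer_instance
    have UG : U ≤ G2 := by rw [hG2, _root_.commutator_def]; exact Subgroup.commutator_mono le_top le_top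
    have hUconj : ∀ k ∈ B.L, ∀ x ∈ U, k * x * k⁻¹ ∈ U := fun k hk x hx => by
      have hle : C0.map (MulAut.conj k).toMonoidHom ≤ C0 := by
        rintro _ ⟨c, hc, rfl⟩; exact hnorm k hk c hc
      have : U.map (MulAut.conj k).toMonoidHom ≤ U := by
        rw [hU, Subgroup.map_commutator]; exact Subgroup.commutator_mono hle hle
      exact this ⟨x, hx, rfl⟩
    have hd2 : B.d ∉ G2 := B.d_not_comm hdU (fun h hh => hsplit h (InC h hh))
      fun h x hh hx hxU => hUconj h (B.mem_L.mpr (hA h hh)) x hxU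
    have G2G0 : G2 ≤ G0 := by
      rw [hG2, _root_.commutator_def, Subgroup.commutator_le]
      intro a _ b _
      show a * b * a⁻¹ * b⁻¹ ∈ G0
      rw [Subgroup.mul_mem_iff_of_index_two hi, inv_mem_iff]
      refine ⟨fun h => ?_, fun h => (inferInstance : G0.Normal).conj_mem b h a⟩
      have := (inferInstance : G0.Normal).conj_mem _ h a⁻¹
      rwa [show a⁻¹ * (a * b * a⁻¹) * a⁻¹⁻¹ = b by group] at this
    have zG2 : B.z ∈ G2 := by
      obtain ⟨u, hu, v, hv, e⟩ := nonab'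
      rw [hG2, show B.z = u * v * u⁻¹ * v⁻¹ by rw [e]; group]
      exact Subgroup.commutator_mem_commutator (Subgroup.mem_top u) (Subgroup.mem_top v)
    rcases B.sub_split hF hK eN zG2 hd2 (fun h hh => (hsplit h (InC h hh)).imp (fun h => UG h) fun h => UG h) with
      h | ⟨G3, hG3, ⟨e⟩, -, h3⟩
    · refine hI fun k hk hc => ?_
      obtain ⟨k1, hk1, ek⟩ : ∃ k1 ∈ C0, k1 * B.z * k1⁻¹ = k * B.z * k⁻¹ := by
        by_cases hk0 : k ∈ C0
        · exact ⟨k, hk0, rfl⟩
        · refine ⟨k * h0, hprod k (B.mem_L.mpr hk) h0 (B.mem_L.mpr h0d) hk0 (fun h => h0G (hCG h)), ?_⟩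
          rw [show k * h0 * B.z * (k * h0)⁻¹ = k * (h0 * B.z * h0⁻¹) * k⁻¹ by group, h0z.eq, mul_inv_cancel_right]
      rw [← ek] at hc ⊢
      rcases hsplit k1 hk1 with h' | h'
      · exact h k1 (UG h') hc
      · have e1 : k1 * B.d * B.z * (k1 * B.d)⁻¹ = k1 * B.z * k1⁻¹ := by
          rw [show k1 * B.d * B.z * (k1 * B.d)⁻¹ = k1 * (B.d * B.z * B.d⁻¹) * k1⁻¹ by group, B.dz_comm.eq,
            mul_inv_cancel_right]
        have := h _ (UG h') (by rw [e1]; exact hc)
        rwa [e1] at this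
    · have e3 := h3 fun x hx hxz => (hG0 x hxz).mp (G2G0 hx)
      have hUG2 : U = G2 := Subgroup.eq_of_le_of_card_ge UG (by
        rw [hUc, ← e3, Nat.card_congr e.toEquiv, (psu_facts hK).2.1])
      -- the conjugate centralises the core
      set d' := g * B.d * g⁻¹ with hd'
      have hc : ∀ x ∈ U, Commute d' x := fun x hx => by
        have hx' : g⁻¹ * x * g ∈ C0 := by
          refine UC ?_
          rw [hUG2] at hx ⊢
          simpa using (inferInstance : G2.Normal).conj_mem x hx g⁻¹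
        have := ((dC _ hx').map (MulAut.conj g).toMonoidHom).symm
        simpa [hd', mul_assoc] using this
      have hcJ : ∀ j ∈ B.J, Commute d' j := fun j hj => by
        rcases hsplit j (InC j (B.In_J hj)) with h' | h'
        · exact hc j h'
        · have := (hc _ h').mul_right hgd
          rwa [mul_assoc, B.dd, mul_one] at this
      have d'J := B.selfcent d' (hcJ _ B.zJ) hcJ
      rcases B.centre _ d'J hcJ with e | e | e | e
      · exact B.d1 (conj_eq_one_iff.mp e)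
      · exact B.not_conj_d g⁻¹ (by rw [← e, hd']; group)
      · exact hgne e
      · exact B.d_not_conj hA g e

end Base

end CfsgLib.FiTwoType
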