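/-
A conjugate commuting with both involutions, isolated on both sides: centralisers of the pulled involutions.
-/
import Cfsg.Agent.Lib.FiTwoType.Quot
import Cfsg.Agent.Lib.ZStar.Main

set_option autoImplicit false
set_option maxRecDepth 100000
set_option linter.unusedVariables false
set_option linter.unusedSectionVars false
set_option linter.style.haveILetI false

namespace CfsgLib.FiTwoType

namespace Base

variable {G : Type*} [Group G] [Finite G] {X : Type*} [Group X] (B : Base G X)

/-- The first pulled involution. -/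
def pa (g : G) : G := g⁻¹ * B.z * g

/-- The second pulled involution. -/
def pb (g : G) : G := g⁻¹ * B.d * g

theorem pb_flip (g : G) : B.flip.pb g = B.pb g * B.pa g := by
  show g⁻¹ * (B.d * B.z) * g = g⁻¹ * B.d * g * (g⁻¹ * B.z * g); group

theorem pa_flip (g : G) : B.flip.pa g = B.pa g := rfl

/-- The setting: isolation on both sides and a further conjugate in both centralisers. -/
structure Pair (g : G) : Prop where
  iso : B.Iso
  iso' : B.flip.Iso
  hz : Commute (g * B.z * g⁻¹) B.z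
  hd : Commute (g * B.z * g⁻¹) B.d
  ne : g * B.z * g⁻¹ ≠ B.z

/-- A conjugate fixing the second involution or not: two cases. -/
theorem caseA_or_B : (∀ h, Commute h B.z → Commute h B.d) ∨ ∀ h, Commute h B.z → Commute h B.d → B.In h := by
  by_cases hB : ∀ h, Commute h B.z → Commute h B.d → B.In h
  · exact Or.inr hB
  left
  push Not at hB
  obtain ⟨k, kz, kd, nk⟩ := hB
  intro h hh
  by_cases ih : B.In h
  · exact B.In_d ih
  · have := (B.In_d (B.In_two hh kz.inv_left ih (fun i => nk (by simpa using B.In_inv i)))).mul_left kd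
    rwa [inv_mul_cancel_right] at this

variable {B} {g : G} (P : B.Pair g)
include P

theorem Pair.flip : B.flip.Pair g :=
  ⟨P.iso', by
    intro k hk hc
    exact P.iso k (by
      have h1 : Commute k (B.d * B.z * B.z) := (show Commute k (B.d * B.z * B.z) by
        rw [mul_assoc, B.zz, mul_one]
        have h2 : Commute k ((B.d * B.z) * B.z) := by rwa [show B.flip.flip = _ from rfl] at *
        rwa [mul_assoc, B.zz, mul_one] at h2)
      rwa [mul_assoc, B.zz, mul_one] at h1) hc,
    P.hz, P.hd.mul_right P.hz, P.ne⟩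

theorem Pair.az : Commute (B.pa g) B.z := by
  have := P.hz.symm.map (MulAut.conj g⁻¹).toMonoidHom
  simpa [pa, mul_assoc] using this

theorem Pair.bz : Commute (B.pb g) B.z := by
  have := P.hd.symm.map (MulAut.conj g⁻¹).toMonoidHom
  simpa [pb, mul_assoc] using this

theorem Pair.ab : Commute (B.pa g) (B.pb g) := by
  have := B.dz_comm.symm.map (MulAut.conj g⁻¹).toMonoidHom
  simpa [pa, pb, mul_assoc] using this

omit P in
theorem pa_sq (g : G) : B.pa g * B.pa g = 1 := by
  rw [pa, show g⁻¹ * B.z * g * (g⁻¹ * B.z * g) = g⁻¹ * (B.z * B.z) * g by group, B.zz]; group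

omit P in
theorem pb_sq (g : G) : B.pb g * B.pb g = 1 := by
  rw [pb, show g⁻¹ * B.d * g * (g⁻¹ * B.d * g) = g⁻¹ * (B.d * B.d) * g by group, B.dd]; group

/-- The centraliser of the second pulled involution lies in that of the first. -/
theorem Pair.le {h : G} (hh : Commute h B.z) (hb : Commute h (B.pb g)) : Commute h (B.pa g) := by
  classical
  haveI : Fact (Nat.Prime 2) := ⟨Nat.prime_two⟩
  have zord : orderOf B.zL = 2 := orderOf_eq_prime (p := 2) (by rw [pow_two]; exact Subtype.ext B.zz)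
    fun e => B.z1 (congrArg Subtype.val e)
  have hiso : Cfsg.IsIsolated B.zL := fun q hq =>
    Subtype.ext (P.iso q (B.mem_L.mp q.2) (congrArg Subtype.val hq.eq).symm)
  set k := g * h * g⁻¹ with hk
  have kd : Commute k B.d := by
    have := hb.map (MulAut.conj g).toMonoidHom
    simpa [hk, pb, mul_assoc] using this
  have hO := CfsgLib.ZStar.inZStar zord hiso ⟨k, B.mem_L.mpr kd⟩
  set w' := h * B.pa g * h⁻¹ * (B.pa g)⁻¹ with hw'
  have gw : g * w' * g⁻¹ = k * B.z * k⁻¹ * B.z⁻¹ := by rw [hw', hk, pa]; group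
  have hw'z : Commute w' B.z :=
    (((hh.mul_left P.az).mul_left hh.inv_left).mul_left P.az.inv_left)
  have hbd : Commute w' (B.pb g) :=
    (((hb.mul_left P.ab).mul_left hb.inv_left).mul_left P.ab.inv_left)
  have hodd2 : ∀ y : ↥B.L, y ∈ Cfsg.oddCore ↥B.L → Odd (orderOf y) := fun y hy =>
    Odd.of_dvd_nat (CfsgLib.odd_card_oddCore) (Subgroup.orderOf_dvd_natCard _ hy)
  have hodd : Odd (orderOf w') := by
    have h1 := hodd2 _ hO
    have h2 : orderOf (g * w' * g⁻¹) = orderOf w' := (MulAut.conj g).orderOf_eq w'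
    rw [← h2, gw]
    rwa [← Subgroup.orderOf_coe] at h1
  have hfix : ∀ j ∈ B.J, Commute j (B.pb g) → Commute w' j := by
    intro j hj hjb
    set c := w' * j * w'⁻¹ * j⁻¹ with hc
    have cJ : c ∈ B.J := mul_mem (B.conjJ _ hw'z j hj) (inv_mem hj)
    have jd : Commute (g * j * g⁻¹) B.d := by
      have := hjb.map (MulAut.conj g).toMonoidHom
      simpa [pb, mul_assoc] using this
    set q : ↥B.L := ⟨g * j * g⁻¹, B.mem_L.mpr jd⟩
    have hm : (⟨k, B.mem_L.mpr kd⟩ : ↥B.L) * B.zL * ⟨k, B.mem_L.mpr kd⟩⁻¹ * B.zL⁻¹ *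
        (q * ((⟨k, B.mem_L.mpr kd⟩ : ↥B.L) * B.zL * ⟨k, B.mem_L.mpr kd⟩⁻¹ * B.zL⁻¹)⁻¹ * q⁻¹) ∈ Cfsg.oddCore ↥B.L :=
      mul_mem hO ((inferInstance : (Cfsg.oddCore ↥B.L).Normal).conj_mem _ (inv_mem hO) q)
    have h1 := hodd2 _ hm
    rw [← Subgroup.orderOf_coe] at h1
    have e : g * c * g⁻¹ = k * B.z * k⁻¹ * B.z⁻¹ * (g * j * g⁻¹ * (k * B.z * k⁻¹ * B.z⁻¹)⁻¹ * (g * j * g⁻¹)⁻¹) := by
      rw [← gw, hc]; group
    have h3 : Odd (orderOf c) := by
      rw [← (MulAut.conj g).orderOf_eq c, show MulAut.conj g c = g * c * g⁻¹ from rfl, e]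
      exact h1
    have h4 : orderOf c ∣ 4 := orderOf_dvd_of_pow_eq_one (by
      rcases B.sq2 c cJ with e | e <;> rw [show c ^ 4 = (c * c) * (c * c) by simp [pow_succ, mul_assoc], e]
      exacts [one_mul 1, B.zz])
    have h5 : c = 1 := orderOf_eq_one_iff.mp (Nat.eq_one_of_dvd_coprimes
      (Nat.Coprime.pow_left 2 (Nat.coprime_two_left.mpr h3)) h4 dvd_rfl)
    rwa [hc, mul_inv_eq_one, mul_inv_eq_iff_eq_mul] at h5
  have hJ := B.selfcent w' hw'z (B.odd_fix hw'z P.bz (pb_sq g) hbd hodd hfix)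
  have h6 : w' = 1 := orderOf_eq_one_iff.mp (Nat.eq_one_of_dvd_coprimes
    (Nat.Coprime.pow_left 2 (Nat.coprime_two_left.mpr hodd)) (orderOf_dvd_of_pow_eq_one (n := 2 ^ 2) (by
      rcases B.sq2 w' hJ with e | e <;> rw [show w' ^ 2 ^ 2 = (w' * w') * (w' * w') by simp [pow_succ, mul_assoc], e]
      exacts [one_mul 1, B.zz])) dvd_rfl)
  rwa [hw', mul_inv_eq_one, mul_inv_eq_iff_eq_mul] at h6

/-- The centraliser of the third pulled involution is the same as that of the second. -/
theorem Pair.le' {h : G} (hh : Commute h B.z) (hc : Commute h (B.pb g * B.pa g)) :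
    Commute h (B.pa g) ∧ Commute h (B.pb g) := by
  have h1 : Commute h (B.pa g) := P.flip.le hh (by rw [pb_flip]; exact hc)
  refine ⟨h1, ?_⟩
  have := hc.mul_right h1.inv_right
  rwa [mul_inv_cancel_right] at this

theorem Pair.pushed {h : G} (hh : Commute h B.z) (ha : Commute h (B.pa g)) : Commute (g * h * g⁻¹) B.z := by
  have := ha.map (MulAut.conj g).toMonoidHom
  simpa [pa, mul_assoc] using this

omit P in
theorem pulled_b {h : G} (hd : Commute (g * h * g⁻¹) B.d) : Commute h (B.pb g) := by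
  have := hd.map (MulAut.conj g⁻¹).toMonoidHom
  simpa [pb, mul_assoc] using this

/-- Squares centralising the first centralise the second. -/
theorem Pair.sq {h : G} (hh : Commute h B.z) (ha : Commute h (B.pa g)) : Commute (h * h) (B.pb g) :=
  pulled_b (by
    rw [show g * (h * h) * g⁻¹ = g * h * g⁻¹ * (g * h * g⁻¹) by group]
    exact B.In_d (B.In_sq (P.pushed hh ha)))

/-- Two elements moving the second have a product fixing it. -/
theorem Pair.two {h k : G} (hh : Commute h B.z) (hk : Commute k B.z) (ha : Commute h (B.pa g)) (ka : Commute k (B.pa g))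
    (nh : ¬ Commute h (B.pb g)) (nk : ¬ Commute k (B.pb g)) : Commute (h * k) (B.pb g) :=
  pulled_b (by
    rw [show g * (h * k) * g⁻¹ = g * h * g⁻¹ * (g * k * g⁻¹) by group]
    exact B.In_d (B.In_two (P.pushed hh ha) (P.pushed hk ka) (fun i => nh (pulled_b (B.In_d i)))
      fun i => nk (pulled_b (B.In_d i))))

theorem Pair.pa_notZ : ¬ B.Z (B.pa g) := by
  rintro (e | e | e | e)
  · exact B.z1 (calc B.z = g * (g⁻¹ * B.z * g) * g⁻¹ := by group
      _ = 1 := by rw [show g⁻¹ * B.z * g = 1 from e]; group)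
  · refine P.ne ?_
    calc g * B.z * g⁻¹ = g * (g⁻¹ * B.z * g) * g⁻¹ := by rw [show g⁻¹ * B.z * g = B.z from e]
      _ = B.z := by group
  · exact B.not_conj_d g⁻¹ (by rw [inv_inv]; exact e)
  · exact B.not_conj_dz g⁻¹ (by rw [inv_inv]; exact e)

/-- The second pulled involution is outside the core. -/
theorem Pair.pb_notJ : B.pb g ∉ B.J := by
  intro hb
  have key : (∀ j ∈ B.J, Commute (B.pa g) j) → False := fun h =>
    P.pa_notZ (B.centre _ (B.selfcent _ P.az h) h)
  by_cases hZ : B.Z (B.pb g)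
  · exact key fun j hj => (P.le (B.Jz j hj) (B.Z_comm hZ hj).symm).symm
  · have hfix : ∀ j ∈ B.J, Commute j (B.pb g) → Commute (B.pa g) j := fun j hj hjb => (P.le (B.Jz j hj) hjb).symm
    have haJ : B.pa g ∈ B.J := B.hyperplane hb (pb_sq g) hZ P.az fun j hj hjb => by
      rw [(hfix j hj hjb).eq, mul_inv_cancel_right, mul_inv_cancel]; exact B.Z_one
    rcases B.cc hb hZ haJ hfix with h | h
    · exact P.pa_notZ h
    · exact key fun j hj => ((P.le' (B.Jz j hj) (by rw [← P.ab.eq]; exact (B.Z_comm h hj).symm)).1).symm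

theorem Pair.pc_notJ : B.pb g * B.pa g ∉ B.J := by
  rw [← pb_flip]; exact P.flip.pb_notJ

end Base

end CfsgLib.FiTwoType
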