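/-
With isolation on both sides no further conjugate of the involution lies in the core.
-/
import Cfsg.Agent.Lib.FiTwoType.Pair
import Cfsg.Agent.Lib.FiTwoType.Coord

set_option autoImplicit false
set_option maxRecDepth 100000
set_option maxHeartbeats 800000
set_option linter.unusedVariables false
set_option linter.unusedSectionVars false
set_option linter.style.haveILetI false

namespace CfsgLib.FiTwoType

open CfsgLib.U42Act (bq)
open U6Rec (app comp InU one st elt)

attribute [local irreducible] U6Rec.comp U6Rec.app SixTwoType.psi T1 T2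

theorem inU_T1 : InU T1 := by
  unfold T1; exact U6Rec.inU_st (by norm_num)

variable {G : Type*} [Group G] [Finite G] {X : Type*} [Group X] {B : Base G X} {φ q : ℕ → ℕ}

/-- Conjugating the pulling element by an element of the subgroup of index two. -/
theorem Base.Pair.move {g h : G} (P : B.Pair g) (hh : B.In h) :
    B.Pair (g * h⁻¹) ∧ B.pa (g * h⁻¹) = h * B.pa g * h⁻¹ ∧ B.pb (g * h⁻¹) = h * B.pb g * h⁻¹ ∧
      g * h⁻¹ * B.z * (g * h⁻¹)⁻¹ = g * B.z * g⁻¹ := by
  have e : g * h⁻¹ * B.z * (g * h⁻¹)⁻¹ = g * B.z * g⁻¹ := by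
    rw [show g * h⁻¹ * B.z * (g * h⁻¹)⁻¹ = g * (h⁻¹ * B.z * h) * g⁻¹ by group,
      show h⁻¹ * B.z * h = B.z by rw [mul_assoc, ← (B.In_comm hh).eq, inv_mul_cancel_left]]
  refine ⟨⟨P.iso, P.iso', ?_, ?_, ?_⟩, ?_, ?_, e⟩
  · rw [e]; exact P.hz
  · rw [e]; exact P.hd
  · rw [e]; exact P.ne
  · simp only [Base.pa]; group
  · simp only [Base.pb]; group

/-- The pulled first involution lies in the core. -/
theorem Base.Pair.pa_mem {g : G} (P : B.Pair g) (hx : g * B.z * g⁻¹ ∈ B.J) : B.pa g ∈ B.J := by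
  classical
  by_contra haJ
  set x := g * B.z * g⁻¹ with hxd
  have hxZ : ¬ B.Z x := by
    rintro (h | h | h | h)
    exacts [B.z1 (conj_eq_one_iff.mp h), P.ne h, B.not_conj_d g h, B.not_conj_dz g h]
  set C := B.J ⊓ Subgroup.centralizer ({x} : Set G)
  have memC : ∀ {j}, j ∈ C ↔ j ∈ B.J ∧ Commute j x := fun {j} => by
    show j ∈ B.J ∧ j ∈ Subgroup.centralizer ({x} : Set G) ↔ _
    rw [Subgroup.mem_centralizer_singleton_iff]; rfl
  have pulled : ∀ j, Commute j x → Commute (g⁻¹ * j * g) B.z := fun j h => by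
    have := h.map (MulAut.conj g⁻¹).toMonoidHom
    simpa [hxd, mul_assoc] using this
  let f : ↥C →* X := MonoidHom.mk' (fun p => B.π ⟨g⁻¹ * p * g, B.mem_C.mpr (pulled _ (memC.mp p.2).2)⟩)
    fun a b => by
      rw [← map_mul]; congr 1; refine Subtype.ext ?_
      show g⁻¹ * ((a : G) * b) * g = g⁻¹ * a * g * (g⁻¹ * b * g); group
  have hker : ∀ p : ↥C, f p = 1 → (p : G) = 1 ∨ (p : G) = x := by
    intro p hp
    have hpJ : g⁻¹ * (p : G) * g ∈ B.J := (B.hk _).mp hp
    obtain ⟨pJ, px⟩ := memC.mp p.2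
    have hc : ∀ j ∈ B.J, Commute j x → Commute (p : G) j := by
      intro j hj hjx
      refine (B.comm2 _ pJ j hj).resolve_right fun e => haJ ?_
      have hjJ := B.conjJ _ (pulled j hjx) _ (inv_mem hpJ)
      have : B.pa g = g⁻¹ * (p : G) * g * (g⁻¹ * j * g * (g⁻¹ * (p : G) * g)⁻¹ * (g⁻¹ * j * g)⁻¹) := by
        calc B.pa g = g⁻¹ * (B.z * (j * p)) * (j * p)⁻¹ * g := by rw [Base.pa]; group
          _ = g⁻¹ * ((p : G) * j) * (j * p)⁻¹ * g := by rw [← e]
          _ = _ := by group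
      rw [this]; exact mul_mem hpJ hjJ
    have xJ' : g⁻¹ * x * g = B.z := by rw [hxd]; group
    have hx2 : x * x = 1 := by
      rw [hxd, show g * B.z * g⁻¹ * (g * B.z * g⁻¹) = g * (B.z * B.z) * g⁻¹ by group, B.zz]; group
    have small : ∀ ζ, B.Z ζ → g⁻¹ * ζ * g ∈ B.J → ζ = 1 := by
      rintro ζ (rfl | rfl | rfl | rfl) h
      · rfl
      · exact absurd h haJ
      · exact absurd h P.pb_notJ
      · exact absurd (show B.pb g * B.pa g ∈ B.J by
          rw [show B.pb g * B.pa g = g⁻¹ * (B.d * B.z) * g by simp only [Base.pa, Base.pb]; group]; exact h) P.pc_notJ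
    rcases B.cc hx hxZ pJ hc with h | h
    · exact Or.inl (small _ h hpJ)
    · right
      have h1 := small _ h (by
        rw [show g⁻¹ * ((p : G) * x) * g = g⁻¹ * (p : G) * g * (g⁻¹ * x * g) by group, xJ']
        exact mul_mem hpJ B.zJ)
      calc (p : G) = (p : G) * x * x := by rw [mul_assoc, hx2, mul_one]
        _ = x := by rw [h1, one_mul]
  have h512 : Nat.card C = 512 := by
    obtain ⟨j0, hj0, h0⟩ := B.noncomm hx hxZ
    obtain ⟨k, -, hk⟩ := (Nat.dvd_prime_pow Nat.prime_two).mp (show Nat.card C ∣ 2 ^ 10 by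
      have := Subgroup.card_dvd_of_le (inf_le_left : C ≤ B.J); rwa [B.card] at this)
    have h2 : Nat.card B.J ≤ 2 * Nat.card C := by
      haveI : Fintype C := Fintype.ofFinite _
      haveI : Fintype B.J := Fintype.ofFinite _
      rw [Nat.card_eq_fintype_card, Nat.card_eq_fintype_card, ← Fintype.card_bool, ← Fintype.card_prod]
      refine Fintype.card_le_of_injective (fun j : B.J =>
        if hj : Commute (j : G) x then (true, (⟨j, memC.mpr ⟨j.2, hj⟩⟩ : C))
        else (false, (⟨j * j0, memC.mpr ⟨mul_mem j.2 hj0, B.both j.2 hj0 hx hj fun h => h0 h.symm⟩⟩ : C))) fun a b e => ?_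
      dsimp only at e
      by_cases ha : Commute (a : G) x <;> by_cases hb : Commute (b : G) x <;> simp [ha, hb] at e
      · exact e
      · exact e
    have hlt : Nat.card C < 1024 := by
      have hle := Subgroup.card_le_of_le (inf_le_left : C ≤ B.J)
      rw [B.card] at hle
      refine lt_of_le_of_ne hle fun e => h0 ?_
      have := Subgroup.eq_of_le_of_card_ge (inf_le_left : C ≤ B.J) (by rw [e, B.card])
      exact ((memC.mp (this.ge hj0)).2).symm
    rw [B.card, hk] at h2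
    rw [hk] at hlt ⊢
    have h10 : k < 10 := (Nat.pow_lt_pow_iff_right (show 1 < 2 by norm_num)).mp (by simpa using hlt)
    have h9 : 9 ≤ k := by
      by_contra h
      have : 2 ^ k ≤ 2 ^ 8 := Nat.pow_le_pow_right (by norm_num) (by omega)
      omega
    rw [show k = 9 by omega]; norm_num
  have hk2 : Nat.card f.ker ≤ 2 := by
    have h : ∀ p : f.ker, ((p : ↥C) : G) ∈ ({1, x} : Finset G) := fun p => by simpa using hker p p.2
    refine le_trans (Nat.card_le_card_of_injective (fun p => (⟨_, h p⟩ : ({1, x} : Finset G))) fun a b e =>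
      Subtype.ext (Subtype.ext (congrArg (fun w : ({1, x} : Finset G) => w.1) e))) ?_
    rw [Nat.card_eq_finsetCard]; exact Finset.card_le_two
  haveI : Finite X := Finite.of_surjective B.π B.hπ
  have h1 := f.ker.index_mul_card
  rw [Subgroup.index_ker, h512] at h1
  have h2 : Nat.card f.range ∣ 51840 := by
    have := Subgroup.card_subgroup_dvd_card f.range
    rwa [← B.N.index_mul_card, B.hN, B.cardN] at this
  have h3 : Nat.card f.range = 512 ∨ Nat.card f.range = 256 := by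
    have : 0 < Nat.card f.ker := Nat.card_pos
    interval_cases Nat.card f.ker <;> omega
  rcases h3 with e | e <;> · rw [e] at h2; norm_num at h2

theorem Base.Pair.not_both {g : G} (P : B.Pair g) (M : Model B φ q) {w : List (ℕ × (ℕ × ℕ) × (ℕ × ℕ))}
    (hroot : rootOK φ q w = true) (hother : otherOK φ q = true) (haJ : B.pa g ∈ B.J) (hb : B.In (B.pb g))
    (hT : M.ρ (B.pb g) = T1 ∨ M.ρ (B.pb g) = T2) : False := by
  classical
  set a := B.pa g with had
  set b := B.pb g with hbd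
  have bz := P.bz
  have hb2 : b * b = 1 := Base.pb_sq g
  have hbi : b⁻¹ = b := inv_eq_of_mul_eq_one_right hb2
  -- the classes of the fixed points
  set C1 := B.J ⊓ Subgroup.centralizer ({a, b} : Set G)
  have memC : ∀ {j}, j ∈ C1 ↔ j ∈ B.J ∧ Commute j a ∧ Commute j b := fun {j} => by
    show j ∈ B.J ∧ j ∈ Subgroup.centralizer ({a, b} : Set G) ↔ _
    rw [Subgroup.mem_centralizer_iff]
    simp only [Set.forall_mem_insert, Set.mem_singleton_iff, forall_eq]
    exact and_congr_right' (and_congr eq_comm eq_comm)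
  have h256 : 256 ≤ Nat.card C1 := by
    obtain ⟨j0, hj0, h0⟩ := B.noncomm haJ P.pa_notZ
    haveI : Fintype C1 := Fintype.ofFinite _
    haveI : Fintype B.J := Fintype.ofFinite _
    set D1 := B.J ⊓ Subgroup.centralizer ({a} : Set G)
    haveI : Fintype D1 := Fintype.ofFinite _
    have memD : ∀ {j}, j ∈ D1 ↔ j ∈ B.J ∧ Commute j a := fun {j} => by
      show j ∈ B.J ∧ j ∈ Subgroup.centralizer ({a} : Set G) ↔ _
      rw [Subgroup.mem_centralizer_singleton_iff]; rfl
    have h1 : Fintype.card B.J ≤ 2 * Fintype.card D1 := by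
      rw [← Fintype.card_bool, ← Fintype.card_prod]
      refine Fintype.card_le_of_injective (fun j : B.J =>
        if hj : Commute (j : G) a then (true, (⟨j, memD.mpr ⟨j.2, hj⟩⟩ : D1))
        else (false, (⟨j * j0, memD.mpr ⟨mul_mem j.2 hj0, B.both j.2 hj0 haJ hj fun h => h0 h.symm⟩⟩ : D1))) fun x y e => ?_
      dsimp only at e
      by_cases hx : Commute (x : G) a <;> by_cases hy : Commute (y : G) a <;> simp [hx, hy] at e
      · exact e
      · exact e
    have h2 : Fintype.card D1 ≤ 2 * Fintype.card C1 := by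
      by_cases hall : ∀ j ∈ D1, Commute j b
      · have : Fintype.card D1 ≤ Fintype.card C1 := Fintype.card_le_of_injective
          (fun j => (⟨j, memC.mpr ⟨(memD.mp j.2).1, (memD.mp j.2).2, hall j j.2⟩⟩ : C1)) fun x y e =>
            Subtype.ext (congrArg (fun w : C1 => w.1) e)
        omega
      · push Not at hall
        obtain ⟨k, hk, hkb⟩ := hall
        rw [← Fintype.card_bool, ← Fintype.card_prod]
        refine Fintype.card_le_of_injective (fun j : D1 =>
          if hj : Commute (j : G) b then (true, (⟨j, memC.mpr ⟨(memD.mp j.2).1, (memD.mp j.2).2, hj⟩⟩ : C1))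
          else (false, (⟨j * k, memC.mpr ⟨mul_mem (memD.mp j.2).1 (memD.mp hk).1, (memD.mp j.2).2.mul_left (memD.mp hk).2,
            P.two (B.Jz _ (memD.mp j.2).1) (B.Jz _ (memD.mp hk).1) (memD.mp j.2).2 (memD.mp hk).2 hj hkb⟩⟩ : C1)))
          fun x y e => ?_
        dsimp only at e
        by_cases hx : Commute (x : G) b <;> by_cases hy : Commute (y : G) b <;> simp [hx, hy] at e
        · exact e
        · exact e
    rw [← Nat.card_eq_fintype_card, B.card] at h1
    rw [Nat.card_eq_fintype_card]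
    omega
  set t := φ (M.ρ b) with htd
  have hfix : ∀ j ∈ C1, M.co j ∈ fixL t := fun j hj => M.fix_of_comm hb (memC.mp hj).1 (memC.mp hj).2.2.symm
  have hlen : 64 ≤ (fixL t).length := by
    have := M.card_le C1 inf_le_left _ hfix
    rw [List.toFinset_card_of_nodup (fixL_nodup _)] at this
    omega
  -- every fixed vector has such a lift
  have full : (fixL t).length ≤ 64 → ∀ v ∈ fixL t, ∃ j ∈ B.J, Commute j a ∧ Commute j b ∧ M.co j = v := by
    intro h64 v hv
    by_contra hno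
    push Not at hno
    have h := M.card_le C1 inf_le_left ((fixL t).erase v) fun j hj => (List.mem_erase_of_ne
      (hno j (memC.mp hj).1 (memC.mp hj).2.1 (memC.mp hj).2.2)).mpr (hfix j hj)
    rw [List.toFinset_card_of_nodup ((fixL_nodup _).erase v), List.length_erase_of_mem hv] at h
    omega
  have tt : ∀ {v}, v < 256 → app t (app t v) = v := fun {v} hv => by
    rw [htd, ← M.app_mul hb hb hv, ← M.ρ_mul b b hb hb, hb2, M.ρ_one, M.app_one_lt hv]
  rcases hT with hT | hT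
  swap
  · -- the other class
    rw [otherOK] at hother
    simp only [Bool.or_eq_true, Bool.and_eq_true] at hother
    rw [← hT, ← htd] at hother
    rcases hother with h | ⟨h, h'⟩
    · have := Nat.le_of_ble_eq_true h; omega
    obtain ⟨v, hv, hqv⟩ := List.any_eq_true.mp h'
    rw [Nat.beq_eq] at hqv
    obtain ⟨j, hj, ej⟩ := M.disp_lift hb hv
    set w := b * j * b⁻¹ * j⁻¹
    have hwJ : w ∈ B.J := mul_mem (B.conjJ b bz j hj) (inv_mem hj)
    have hbw : b * w * b⁻¹ = w⁻¹ := by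
      show b * (b * j * b⁻¹ * j⁻¹) * b⁻¹ = (b * j * b⁻¹ * j⁻¹)⁻¹
      rw [show b * (b * j * b⁻¹ * j⁻¹) * b⁻¹ = (b * b) * j * (b * b)⁻¹ * (b * j⁻¹ * b⁻¹) by group, hb2]
      group
    have hvf : v ∈ fixL t := by
      refine mem_fixL.mpr ⟨ej ▸ M.co_lt w hwJ, ?_⟩
      rw [← ej, htd, ← M.co_conj b hb w hwJ, hbw, M.co_inv hwJ]
    obtain ⟨k, hk, -, hkb, ek⟩ := full (Nat.le_of_ble_eq_true h) v hvf
    have hζ := M.co_eq hwJ hk (ej.trans ek.symm)
    have hwb : Commute w b := by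
      have := hkb.mul_left (B.In_Z hb hζ).symm
      rwa [mul_inv_cancel_left] at this
    rw [← hwb.eq, mul_inv_cancel_right, eq_inv_iff_mul_eq_one] at hbw
    have hs := M.sq w hwJ
    rw [hbw, ej, if_pos hqv] at hs
    exact B.z1 hs.symm
  -- a root involution
  rw [rootOK] at hroot
  simp only [Bool.and_eq_true] at hroot
  rw [← hT, ← htd] at hroot
  obtain ⟨⟨h64, hperp⟩, hw⟩ := hroot
  have hfull := full (Nat.le_of_ble_eq_true h64)
  set l := M.co a with hl
  obtain ⟨e, he, hel⟩ : ∃ e ∈ w, e.1 = l := by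
    have := List.all_eq_true.mp hperp l (List.mem_range.mpr (M.co_lt a haJ))
    simp only [Bool.or_eq_true, Bool.not_eq_true', ← Bool.not_eq_true, List.any_eq_true, Nat.beq_eq] at this
    rcases this with (h | h) | h
    · exfalso
      refine h (List.all_eq_true.mpr fun v hv => ?_)
      obtain ⟨j, hj, hja, -, ej⟩ := hfull v hv
      rw [Nat.beq_eq, ← ej]
      exact (M.comm a haJ j hj).mp hja.symm
    · exact absurd ((M.co_ker a haJ).mp h) P.pa_notZ
    · exact h
  have hc := List.all_eq_true.mp hw e he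
  simp only [Bool.and_eq_true, Bool.not_eq_true', ← Bool.not_eq_true, Nat.beq_eq, List.all_eq_true, Bool.or_eq_true,
    List.elem_eq_mem, decide_eq_true_eq] at hc
  obtain ⟨⟨⟨⟨⟨⟨⟨⟨r1, r2⟩, s1⟩, s2⟩, hrl⟩, hst⟩, hsr⟩, hmove⟩, hgap⟩ := hc
  set r := elt e.2.1
  set s := elt e.2.2
  obtain ⟨k, hk, ek⟩ : ∃ k, B.In k ∧ M.ρ k = r := M.lift (U6Rec.inU_elt (Nat.ble_eq.mp r1) (Nat.ble_eq.mp r2))
  obtain ⟨S, hS, eS⟩ : ∃ S, B.In S ∧ M.ρ S = s := M.lift (U6Rec.inU_elt (Nat.ble_eq.mp s1) (Nat.ble_eq.mp s2))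
  -- a power of the lift fixing both
  have hk2 : B.In (k * k) := B.In_mul hk hk
  have hk2a : Commute (k * k) a := by
    have hka := B.conjJ k (B.In_comm hk) a haJ
    have hζ := M.co_eq hka haJ (by rw [M.co_conj k hk a haJ, ek, ← hl, ← hel, hrl, hel])
    set ζ := a⁻¹ * (k * a * k⁻¹)
    have e1 : k * a * k⁻¹ = a * ζ := (mul_inv_cancel_left _ _).symm
    refine mul_inv_eq_iff_eq_mul.mp ?_
    calc k * k * a * (k * k)⁻¹ = k * (k * a * k⁻¹) * k⁻¹ := by group
      _ = k * a * k⁻¹ * (k * ζ * k⁻¹) := by conv_lhs => rw [e1]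
                                            group
      _ = a * (ζ * ζ) := by rw [e1, (B.In_Z hk hζ).eq, mul_inv_cancel_right]; group
      _ = a := by rw [B.Z_sq hζ, mul_one]
  set R := k * k * (k * k) with hR
  have hRin : B.In R := B.In_mul hk2 hk2
  have hRb : Commute R b := P.sq (B.In_comm hk2) hk2a
  have eR : M.ρ R = pow4 r := by rw [hR, M.ρ_mul _ _ hk2 hk2, M.ρ_mul _ _ hk hk, ek]; rfl
  -- the conjugate by the second lift
  have hS' : B.In (S * b * S⁻¹) := B.In_conj hb (B.In_comm hS)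
  have eS' : M.ρ (S * b * S⁻¹) = T1 := by
    rw [M.ρ_mul _ _ (B.In_mul hS hb) (B.In_inv hS), M.ρ_mul _ _ hS hb, eS, hst, U6Rec.comp_assoc, ← eS,
      (M.ρ_inv hS).2, hT, inU_T1.form]
  set j := b * (S * b * S⁻¹) with hj
  have eS2 : S * b * S⁻¹ = b * j := by rw [hj, ← mul_assoc b b, hb2, one_mul]
  have hjJ : j ∈ B.J := (M.ρ_J _ (B.In_mul hb hS')).mp (by
    rw [M.ρ_mul _ _ hb hS', eS', ← hT, ← M.ρ_mul _ _ hb hb, hb2, M.ρ_one])
  set m := M.co j with hm
  have hbj : b * j * b⁻¹ = j⁻¹ := by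
    have h2 : (b * j) * (b * j) = 1 := by
      rw [← eS2, show S * b * S⁻¹ * (S * b * S⁻¹) = S * (b * b) * S⁻¹ by group, hb2]; group
    rw [hbi]; exact eq_inv_of_mul_eq_one_left (by rw [← h2]; group)
  have hmf : m ∈ fixL t := mem_fixL.mpr ⟨M.co_lt j hjJ, by rw [hm, htd, ← M.co_conj b hb j hjJ, hbj, M.co_inv hjJ]⟩
  -- the commutator of the lifts lies in the core
  have hSi := B.In_inv hS
  set i := R⁻¹ * (S⁻¹ * R * S) with hi
  have hiIn : B.In i := B.In_mul (B.In_inv hRin) (B.In_mul (B.In_mul hSi hRin) hS)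
  have hiJ : i ∈ B.J := (M.ρ_J _ hiIn).mp (by
    rw [M.ρ_mul _ _ (B.In_inv hRin) (B.In_mul (B.In_mul hSi hRin) hS), M.ρ_mul _ _ (B.In_mul hSi hRin) hS,
      M.ρ_mul _ _ hSi hRin, eS, eR, U6Rec.comp_assoc, ← hsr, ← U6Rec.comp_assoc (M.ρ S⁻¹), ← eS, (M.ρ_inv hS).1, ← eR]
    rw [← M.ρ_one, ← M.ρ_mul _ _ (B.In_J (one_mem _)) hRin, one_mul, (M.ρ_inv hRin).1, M.ρ_one])
  set u' := S * R * i * R⁻¹ * S⁻¹ with hu'
  have hu'J : u' ∈ B.J := by
    rw [hu', show S * R * i * R⁻¹ * S⁻¹ = S * R * i * (S * R)⁻¹ by group]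
    exact B.conjJ _ (B.In_comm (B.In_mul hS hRin)) i hiJ
  have hRj : R * j * R⁻¹ = b⁻¹ * u' * b * j * u'⁻¹ := by
    calc R * j * R⁻¹ = (R * b * R⁻¹)⁻¹ * (R * (b * j) * R⁻¹) := by group
      _ = b⁻¹ * (R * (S * b * S⁻¹) * R⁻¹) := by rw [hRb.eq, mul_inv_cancel_right, eS2]
      _ = b⁻¹ * (S * R * i * R⁻¹ * (R * b * R⁻¹) * (R * i⁻¹ * R⁻¹) * S⁻¹) := by rw [hi]; group
      _ = b⁻¹ * (u' * (S * b * S⁻¹) * u'⁻¹) := by rw [hRb.eq, mul_inv_cancel_right, hu']; group
      _ = _ := by rw [eS2]; group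
  have hbu : b⁻¹ * u' * b ∈ B.J := by simpa using B.conjJ _ bz.inv_left _ hu'J
  have hdisp : app (φ (pow4 r)) m ^^^ m ∈ dispL t := by
    refine mem_dispL.mpr ⟨M.co u', M.co_lt _ hu'J, ?_⟩
    rw [← eR, hm, ← M.co_conj R hRin j hjJ, hRj, M.co_mul _ (mul_mem hbu hjJ) _ (inv_mem hu'J),
      M.co_mul _ hbu _ hjJ, M.co_inv hu'J, htd]
    have := M.co_conj b hb u' hu'J
    rw [show b * u' * b⁻¹ = b⁻¹ * u' * b by rw [hbi]] at this
    rw [this]
    have key : ∀ x y z : ℕ, x ^^^ z = x ^^^ y ^^^ z ^^^ y := fun x y z => by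
      rw [Nat.xor_assoc x y z, Nat.xor_comm y z, ← Nat.xor_assoc x z y, Nat.xor_assoc (x ^^^ z) y y, Nat.xor_self,
        Nat.xor_zero]
    exact key _ _ _
  have hsd : app (φ s) m ^^^ m ∈ dispL t := by
    rcases hgap m hmf with h | h
    · exact absurd hdisp h
    · exact h
  -- the square of the lift nearly fixes
  obtain ⟨k1, hk1, ek1⟩ := M.disp_lift hb (by rw [← htd]; exact hsd)
  have hk1In := B.In_J hk1
  have hj2J : j * (S * j * S⁻¹) ∈ B.J := mul_mem hjJ (B.conjJ S (B.In_comm hS) j hjJ)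
  have hwJ1 : b⁻¹ * k1 * b * k1⁻¹ ∈ B.J := mul_mem (by simpa using B.conjJ _ bz.inv_left _ hk1) (inv_mem hk1)
  have hζ := M.co_eq hj2J hwJ1 (by
    rw [hbi] at ek1 ⊢
    rw [M.co_mul _ hjJ _ (B.conjJ S (B.In_comm hS) j hjJ), M.co_conj S hS j hjJ, eS, ek1, Nat.xor_comm])
  set ζ := (b⁻¹ * k1 * b * k1⁻¹)⁻¹ * (j * (S * j * S⁻¹)) with hζd
  have e2 : S * S * b * (S * S)⁻¹ = k1 * b * k1⁻¹ * ζ := by
    calc S * S * b * (S * S)⁻¹ = S * (S * b * S⁻¹) * S⁻¹ := by group
      _ = S * b * S⁻¹ * (S * j * S⁻¹) := by conv_lhs => rw [eS2]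
                                            group
      _ = b * (j * (S * j * S⁻¹)) := by rw [eS2, mul_assoc]
      _ = _ := by rw [hζd]; group
  set S1 := k1⁻¹ * (S * S) with hS1
  have hS1in : B.In S1 := B.In_mul (B.In_inv hk1In) (B.In_mul hS hS)
  have eS1 : S1 * b * S1⁻¹ = b * ζ := by
    calc S1 * b * S1⁻¹ = k1⁻¹ * (S * S * b * (S * S)⁻¹) * k1 := by rw [hS1]; group
      _ = b * (k1⁻¹ * ζ * k1) := by rw [e2]; group
      _ = b * ζ := by rw [mul_assoc k1⁻¹, (B.Z_comm hζ hk1).eq, inv_mul_cancel_left]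
  have h2 : Commute (S1 * S1) b := by
    refine mul_inv_eq_iff_eq_mul.mp ?_
    calc S1 * S1 * b * (S1 * S1)⁻¹ = S1 * (S1 * b * S1⁻¹) * S1⁻¹ := by group
      _ = S1 * b * S1⁻¹ * (S1 * ζ * S1⁻¹) := by conv_lhs => rw [eS1]
                                                group
      _ = b * (ζ * ζ) := by rw [eS1, (B.In_Z hS1in hζ).eq, mul_inv_cancel_right]; group
      _ = b := by rw [B.Z_sq hζ, mul_one]
  have h2a : Commute (S1 * S1) a := P.le ((B.In_comm hS1in).mul_left (B.In_comm hS1in)) h2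
  refine hmove ?_
  have e1 : M.ρ S1 = comp s s := by
    rw [hS1, M.ρ_mul _ _ (B.In_inv hk1In) (B.In_mul hS hS), (M.ρ_J _ (B.In_inv hk1In)).mpr (inv_mem hk1),
      ← M.ρ_one, ← M.ρ_mul _ _ (B.In_J (one_mem _)) (B.In_mul hS hS), one_mul, M.ρ_mul _ _ hS hS, eS]
  rw [hel, pow4, ← e1, ← M.ρ_mul _ _ hS1in hS1in, hl, ← M.co_conj _ (B.In_mul hS1in hS1in) a haJ, h2a.eq,
    mul_inv_cancel_right]

/-- No further conjugate lies in the core. -/
theorem Base.no_conj (B : Base G X) (M : Model B φ q) {w : List (ℕ × (ℕ × ℕ) × (ℕ × ℕ))}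
    (hroot : rootOK φ q w = true) (hother : otherOK φ q = true) (hI : B.Iso) (hI' : B.flip.Iso) (g : G)
    (hx : g * B.z * g⁻¹ ∈ B.J) : g * B.z * g⁻¹ = B.z := by
  by_contra hne
  have P : B.Pair g := ⟨hI, hI', B.Jz _ hx, B.Jd _ hx, hne⟩
  have haJ := P.pa_mem hx
  have bz := P.bz
  obtain ⟨j, hj, hja, hjn⟩ : ∃ j ∈ B.J, Commute j (B.pa g) ∧ ¬ B.Z (B.pb g * j * (B.pb g)⁻¹ * j⁻¹) := by
    by_contra hall
    push Not at hall
    exact P.pb_notJ (B.hyperplane haJ (Base.pa_sq g) P.pa_notZ bz hall)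
  have hjb : ¬ Commute j (B.pb g) := fun h => hjn (by
    rw [← h.eq, mul_inv_cancel_right, mul_inv_cancel]; exact B.Z_one)
  have hbd : Commute (B.pb g) B.d := by
    by_contra hn
    have h := P.two (B.Jz _ hj) B.dz_comm hja (B.Jd _ haJ).symm hjb fun h => hn h.symm
    refine hjn ?_
    have hζ := B.Z_conj bz B.Z_d
    have e : B.pb g * j * (B.pb g)⁻¹ = j * B.d * (B.pb g * B.d * (B.pb g)⁻¹)⁻¹ := by
      calc B.pb g * j * (B.pb g)⁻¹ = B.pb g * (j * B.d) * (B.pb g)⁻¹ * (B.pb g * B.d * (B.pb g)⁻¹)⁻¹ := by group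
        _ = _ := by rw [← h.eq, mul_inv_cancel_right]
    rw [e, mul_assoc j, (B.Z_comm (B.Z_mul B.Z_d (B.Z_inv hζ)) hj).eq.symm, mul_inv_cancel_right]
    exact B.Z_mul B.Z_d (B.Z_inv hζ)
  have hb : B.In (B.pb g) := by
    rcases B.caseA_or_B with hA | hB
    · exact absurd (Base.pulled_b (hA _ (P.pushed (B.Jz _ hj) hja))) hjb
    · exact hB _ bz hbd
  obtain ⟨h, hh, hT⟩ := M.classify hb (Base.pb_sq g) P.pb_notJ
  obtain ⟨P', ea, eb, ex⟩ := P.move hh
  refine P'.not_both M hroot hother ?_ (by rw [eb]; exact B.In_conj hb (B.In_comm hh)) (by rw [eb]; exact hT)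
  rw [ea]; exact B.conjJ h (B.In_comm hh) _ haJ

end CfsgLib.FiTwoType
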