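/-
An involution commuting with a root involution: it or the product is in the other class.
-/
import Cfsg.Agent.Lib.FiTwoType.Checks

set_option autoImplicit false
set_option maxRecDepth 100000

namespace CfsgLib.FiTwoType

open U6Rec (app comp one elt)

/-- Conjugating elements for the involutions of the centraliser of the root involution. -/
def t1L : List (ℕ × ℕ × (ℕ × ℕ)) :=
  [ (0, 1, (0, 0)), (0, 3, (0, 0)), (0, 29, (0, 13)), (0, 31, (0, 13)), (0, 41, (0, 9)), (0, 43, (0, 9)), (0, 53, (0, 5)), (0, 55, (0, 5)),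
    (0, 65, (0, 128)), (0, 67, (0, 128)), (0, 68, (46, 0)), (0, 69, (0, 176)), (0, 70, (46, 80)), (0, 71, (0, 176)), (0, 72, (44, 80)), (0, 73, (0, 160)),
    (0, 74, (44, 0)), (0, 75, (0, 160)), (0, 76, (45, 128)), (0, 77, (0, 144)), (0, 78, (45, 160)), (0, 79, (0, 144)), (0, 80, (45, 2)), (0, 82, (45, 6)),
    (0, 92, (45, 0)), (0, 94, (45, 5)), (0, 96, (44, 5)), (0, 98, (44, 1)), (0, 104, (44, 6)), (0, 106, (44, 2)), (0, 112, (46, 1)), (0, 114, (46, 9)),
    (0, 116, (46, 2)), (0, 118, (46, 10)), (0, 128, (0, 2)), (0, 130, (0, 2)), (0, 144, (0, 14)), (0, 146, (0, 14)), (0, 160, (0, 10)), (0, 162, (0, 10)),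
    (0, 176, (0, 6)), (0, 178, (0, 6))]

theorem t1_ok : ((List.range 135).all fun i => !(dispL T1).elem (app (U6Rec.rep i) 1) ||
    (List.range 192).all fun j =>
      let u := elt (i, j)
      !Nat.beq (comp u T1) (comp T1 u) || !Nat.beq (comp u u) one || Nat.beq u one || Nat.beq u T1 ||
      t1L.any fun e => Nat.beq e.1 i && Nat.beq e.2.1 j && Nat.blt e.2.2.1 135 && Nat.blt e.2.2.2 192 &&
        (Nat.beq (comp (elt e.2.2) u) (comp T2 (elt e.2.2)) ||
          Nat.beq (comp (elt e.2.2) (comp T1 u)) (comp T2 (elt e.2.2)))) = true := by decide +kernel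

theorem T1_disp : (dispL T1).elem 1 = true := by decide +kernel

end CfsgLib.FiTwoType
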