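/-
Natural coordinates: no pair of commuting pulled involutions outside the core in the subgroup of index two.
-/
import Cfsg.Agent.Lib.FiTwoType.NoJ
import Cfsg.Agent.Lib.FiTwoType.Roots

set_option autoImplicit false
set_option maxRecDepth 100000
set_option maxHeartbeats 800000
set_option linter.unusedVariables false
set_option linter.unusedSectionVars false
set_option linter.style.haveILetI false

namespace CfsgLib.FiTwoType

open U6Rec (app comp InU one st elt qf)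

attribute [local irreducible] U6Rec.comp U6Rec.app T1 T2

theorem inU_T2 : InU T2 := by
  unfold T2; exact U6Rec.inU_st (by norm_num)

variable {G : Type*} [Group G] [Finite G] {X : Type*} [Group X] {B : Base G X} (M : Model B id qf)

namespace Model

theorem comm_ρ {x y : G} (hx : B.In x) (hy : B.In y) (h : Commute x y) :
    comp (M.ρ x) (M.ρ y) = comp (M.ρ y) (M.ρ x) := by
  rw [← M.ρ_mul _ _ hx hy, ← M.ρ_mul _ _ hy hx, h.eq]

/-- Fixed vectors of an involution centralised by an element without fixed vector have centralising lifts. -/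
theorem full_lift {e R : G} (he : B.In e) (hR : B.In R) (hRe : Commute R e) (hr : (fixL (M.ρ R)).length = 1)
    {v : ℕ} (hv : v ∈ fixL (M.ρ e)) : ∃ j ∈ B.J, Commute j e ∧ M.co j = v := by
  classical
  set F := fixL (M.ρ e) with hF
  let s : Finset ℕ := F.toFinset
  let f : ℕ → ℕ := fun w => w ^^^ app (M.ρ R) w
  have mem : ∀ w ∈ s, f w ∈ s := by
    intro w hw
    obtain ⟨hw1, hw2⟩ := mem_fixL.mp (List.mem_toFinset.mp hw)
    refine List.mem_toFinset.mpr (mem_fixL.mpr ⟨U42Act.xlt hw1 (U6Rec.app_lt _ _), ?_⟩)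
    show app (M.ρ e) (w ^^^ app (M.ρ R) w) = w ^^^ app (M.ρ R) w
    rw [U6Rec.app_add, hw2, ← U6Rec.app_comp, ← M.comm_ρ hR he hRe, U6Rec.app_comp, hw2]
  have inj : Set.InjOn f s := by
    intro u hu w hw e'
    obtain ⟨hu1, -⟩ := mem_fixL.mp (List.mem_toFinset.mp hu)
    obtain ⟨hw1, -⟩ := mem_fixL.mp (List.mem_toFinset.mp hw)
    have h0 : app (M.ρ R) (u ^^^ w) = u ^^^ w := by
      rw [U6Rec.app_add]
      have e'' : u ^^^ app (M.ρ R) u = w ^^^ app (M.ρ R) w := e'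
      have := congrArg (fun t => u ^^^ t ^^^ app (M.ρ R) w) e''
      simp only [← Nat.xor_assoc, Nat.xor_self, Nat.zero_xor] at this
      rw [this, Nat.xor_assoc (u ^^^ w), Nat.xor_self, Nat.xor_zero]
    obtain ⟨c, hc⟩ := List.length_eq_one_iff.mp hr
    have h1 : u ^^^ w ∈ fixL (M.ρ R) := mem_fixL.mpr ⟨U42Act.xlt hu1 hw1, h0⟩
    have h2 : (0 : ℕ) ∈ fixL (M.ρ R) := mem_fixL.mpr ⟨by norm_num, U6Rec.app_zero _⟩
    rw [hc, List.mem_singleton] at h1 h2
    exact U42Act.xzero (h1.trans h2.symm)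
  have hmap : Set.SurjOn f s s := Finset.surjOn_of_injOn_of_card_le f mem inj le_rfl
  obtain ⟨w, hw, ew⟩ := hmap (List.mem_toFinset.mpr hv : v ∈ s)
  obtain ⟨hw1, hw2⟩ := mem_fixL.mp (List.mem_toFinset.mp hw)
  obtain ⟨j, hj, rfl⟩ := M.co_surj w hw1
  have hej := B.conjJ e (B.In_comm he) j hj
  have hζ := M.co_eq hej hj (by rw [M.co_conj e he j hj]; exact hw2)
  set ζ := j⁻¹ * (e * j * e⁻¹) with hζd
  have hRj := B.conjJ R (B.In_comm hR) j hj
  refine ⟨j * (R * j * R⁻¹), mul_mem hj hRj, (mul_inv_eq_iff_eq_mul.mp ?_).symm, ?_⟩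
  · calc e * (j * (R * j * R⁻¹)) * e⁻¹ = e * j * e⁻¹ * (e * R * j * R⁻¹ * e⁻¹) := by group
      _ = e * j * e⁻¹ * (R * (e * j * e⁻¹) * R⁻¹) := by
        rw [show e * R * j * R⁻¹ * e⁻¹ = (e * R) * j * (e * R)⁻¹ by group, ← hRe.eq]; group
      _ = j * ζ * (R * j * R⁻¹ * (R * ζ * R⁻¹)) := by rw [hζd]; group
      _ = j * ζ * (R * j * R⁻¹) * ζ := by rw [(B.In_Z hR hζ).eq, mul_inv_cancel_right]; group
      _ = j * (R * j * R⁻¹) * (ζ * ζ) := by rw [mul_assoc j ζ, (B.Z_comm hζ hRj).eq]; group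
      _ = _ := by rw [B.Z_sq hζ, mul_one]
  · rw [M.co_mul _ hj _ hRj, M.co_conj R hR j hj]; exact ew

/-- A lift commuting with the standard involution of the second class. -/
theorem ten_lift {e : G} (he : B.In e) (he2 : e * e = 1) (hT : M.ρ e = T2) {u : ℕ} (hu : InU u)
    (hc : comp u T2 = comp T2 u) : ∃ S, B.In S ∧ M.ρ S = comp u u ∧ Commute S e := by
  obtain ⟨S, hS, eS⟩ := M.lift hu
  have hei : e⁻¹ = e := inv_eq_of_mul_eq_one_right he2
  have hS' : B.In (S * e * S⁻¹) := B.In_conj he (B.In_comm hS)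
  have eS' : M.ρ (S * e * S⁻¹) = M.ρ e := by
    rw [M.ρ_mul _ _ (B.In_mul hS he) (B.In_inv hS), M.ρ_mul _ _ hS he, eS, hT, hc, U6Rec.comp_assoc, ← eS,
      (M.ρ_inv hS).2, inU_T2.form]
  set j := e * (S * e * S⁻¹) with hj
  have eS2 : S * e * S⁻¹ = e * j := by rw [hj, ← mul_assoc e e, he2, one_mul]
  have hjJ : j ∈ B.J := (M.ρ_J _ (B.In_mul he hS')).mp (by
    rw [M.ρ_mul _ _ he hS', eS', ← M.ρ_mul _ _ he he, he2, M.ρ_one])
  have hej : e * j * e⁻¹ = j⁻¹ := by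
    have h2 : (e * j) * (e * j) = 1 := by
      rw [← eS2, show S * e * S⁻¹ * (S * e * S⁻¹) = S * (e * e) * S⁻¹ by group, he2]; group
    rw [hei]; exact eq_inv_of_mul_eq_one_left (by rw [← h2]; group)
  have hjf : M.co j ∈ fixL (M.ρ e) :=
    mem_fixL.mpr ⟨M.co_lt j hjJ, by
      have := M.co_conj e he j hjJ
      rw [hej, M.co_inv hjJ] at this
      exact this.symm⟩
  have hd : M.co j ∈ dispL (id (M.ρ e)) := by
    have := List.all_eq_true.mp ten_fix.2 (M.co j) (hT ▸ hjf)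
    rw [id, hT]
    exact List.mem_of_elem_eq_true this
  obtain ⟨k, hk, ek⟩ := M.disp_lift he hd
  have hkJ : e * k * e⁻¹ * k⁻¹ ∈ B.J := mul_mem (B.conjJ e (B.In_comm he) k hk) (inv_mem hk)
  have hζ := M.co_eq hjJ hkJ ek.symm
  set ζ := (e * k * e⁻¹ * k⁻¹)⁻¹ * j with hζd
  have hkIn := B.In_J hk
  set S1 := k⁻¹ * S with hS1
  have hS1in : B.In S1 := B.In_mul (B.In_inv hkIn) hS
  have eS1 : S1 * e * S1⁻¹ = e * ζ := by
    calc S1 * e * S1⁻¹ = k⁻¹ * (S * e * S⁻¹) * k := by rw [hS1]; group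
      _ = k⁻¹ * (e * (e * k * e⁻¹ * k⁻¹ * ζ)) * k := by rw [eS2, hζd]; group
      _ = k⁻¹ * ((e * e) * k * e⁻¹ * k⁻¹ * ζ) * k := by group
      _ = e⁻¹ * (k⁻¹ * ζ * k) := by rw [he2]; group
      _ = e * ζ := by rw [hei, mul_assoc k⁻¹, (B.Z_comm hζ hk).eq, inv_mul_cancel_left]
  refine ⟨S1 * S1, B.In_mul hS1in hS1in, ?_, mul_inv_eq_iff_eq_mul.mp ?_⟩
  · rw [M.ρ_mul _ _ hS1in hS1in, hS1, M.ρ_mul _ _ (B.In_inv hkIn) hS, eS, (M.ρ_J _ (B.In_inv hkIn)).mpr (inv_mem hk)]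
    have h1 : comp one u = u := by rw [← M.ρ_one, ← eS, ← M.ρ_mul _ _ (B.In_J (one_mem _)) hS, one_mul]
    rw [h1]
  · calc S1 * S1 * e * (S1 * S1)⁻¹ = S1 * (S1 * e * S1⁻¹) * S1⁻¹ := by group
      _ = S1 * e * S1⁻¹ * (S1 * ζ * S1⁻¹) := by
        conv_lhs => rw [eS1]
        group
      _ = e * (ζ * ζ) := by rw [eS1, (B.In_Z hS1in hζ).eq, mul_inv_cancel_right]; group
      _ = e := by rw [B.Z_sq hζ, mul_one]

theorem c2_mem {u : ℕ} (hu : InU u) (hc : comp u T2 = comp T2 u) : u ∈ c2L.map elt := by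
  obtain ⟨i, j, hi, hj, rfl⟩ := hu
  have h := List.all_eq_true.mp c2_all i (List.mem_range.mpr hi)
  simp only [Bool.or_eq_true, Bool.not_eq_true', ← Bool.not_eq_true, Nat.beq_eq] at h
  rcases h with h | h
  · exfalso
    refine h ?_
    rw [← U6Rec.elt_app hj, ← U6Rec.app_comp, ← hc, U6Rec.app_comp, T_basic.1]
  · have := List.all_eq_true.mp h j (List.mem_range.mpr hj)
    simp only [Bool.or_eq_true, Bool.not_eq_true', ← Bool.not_eq_true, Nat.beq_eq] at this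
    rcases this with h | h
    · exact absurd hc h
    · exact List.mem_of_elem_eq_true h

theorem c2_inU {u : ℕ} (hu : u ∈ c2L.map elt) : InU u ∧ comp u T2 = comp T2 u := by
  obtain ⟨p, hp, rfl⟩ := List.mem_map.mp hu
  have h := List.all_eq_true.mp c2_size p hp
  simp only [Bool.and_eq_true, Nat.beq_eq] at h
  exact ⟨U6Rec.inU_elt (Nat.ble_eq.mp h.1.1) (Nat.ble_eq.mp h.1.2), h.2⟩

end Model

/-- The pulled involutions are not all inner with one in the second class. -/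
theorem Base.Pair.no_ten {g : G} (P : B.Pair g) (M : Model B id qf) (ha : B.In (B.pa g)) (hb : B.In (B.pb g))
    (haJ : B.pa g ∉ B.J) (hT : M.ρ (B.pa g) = T2 ∨ M.ρ (B.pb g) = T2 ∨ M.ρ (B.pb g * B.pa g) = T2) : False := by
  classical
  set a := B.pa g with had
  set b := B.pb g with hbd
  set c := b * a with hcd
  have hc : B.In c := B.In_mul hb ha
  have a2 : a * a = 1 := Base.pa_sq g
  have b2 : b * b = 1 := Base.pb_sq g
  have cab : Commute a b := P.ab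
  have c2 : c * c = 1 := by rw [hcd, cab.mul_mul_mul_comm, b2, a2, mul_one]
  -- lifts of fourth powers centralise both
  have lifts : ∀ s ∈ c2L.map elt, ∃ S, B.In S ∧ M.ρ S = pow4 s ∧ Commute S a ∧ Commute S b := by
    intro s hs
    obtain ⟨sU, sc⟩ := Model.c2_inU hs
    have sq2 : ∀ {S : G}, B.In S → M.ρ S = comp s s → M.ρ (S * S) = pow4 s := fun {S} hS e => by
      rw [M.ρ_mul _ _ hS hS, e]; rfl
    rcases hT with hT | hT | hT
    · obtain ⟨S, hS, eS, hSa⟩ := M.ten_lift ha a2 hT sU sc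
      exact ⟨S * S, B.In_mul hS hS, sq2 hS eS, hSa.mul_left hSa, P.sq (B.In_comm hS) hSa⟩
    · obtain ⟨S, hS, eS, hSb⟩ := M.ten_lift hb b2 hT sU sc
      have hSa : Commute S a := P.le (B.In_comm hS) hSb
      exact ⟨S * S, B.In_mul hS hS, sq2 hS eS, hSa.mul_left hSa, hSb.mul_left hSb⟩
    · obtain ⟨S, hS, eS, hSc⟩ := M.ten_lift hc c2 hT sU sc
      obtain ⟨hSa, hSb⟩ := P.le' (B.In_comm hS) hSc
      exact ⟨S * S, B.In_mul hS hS, sq2 hS eS, hSa.mul_left hSa, hSb.mul_left hSb⟩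
  -- the ten and another of the three
  obtain ⟨e, f, he, hf, hfJ, f2, hef, heT, hne, hrel, comS⟩ : ∃ e f, B.In e ∧ B.In f ∧ f ∉ B.J ∧ f * f = 1 ∧
      Commute e f ∧ M.ρ e = T2 ∧ e * f ∉ B.J ∧
      ((e = a ∧ f = b) ∨ (e = b ∧ f = a) ∨ (e = c ∧ f = a)) ∧
      ∀ S, Commute S a → Commute S b → Commute S f := by
    rcases hT with hT | hT | hT
    · exact ⟨a, b, ha, hb, P.pb_notJ, b2, cab, hT, (by rw [cab.eq]; exact P.pc_notJ), Or.inl ⟨rfl, rfl⟩, fun S h1 h2 => h2⟩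
    · exact ⟨b, a, hb, ha, haJ, a2, cab.symm, hT, P.pc_notJ, Or.inr (Or.inl ⟨rfl, rfl⟩), fun S h1 h2 => h1⟩
    · exact ⟨c, a, hc, ha, haJ, a2, (cab.mul_right (Commute.refl a)).symm, hT, (by
        rw [hcd, mul_assoc, a2, mul_one]; exact P.pb_notJ), Or.inr (Or.inr ⟨rfl, rfl⟩), fun S h1 h2 => h1⟩
  set u := M.ρ f with hud
  have huc : comp u T2 = comp T2 u := by rw [← heT]; exact M.comm_ρ hf he hef.symm
  have hu := List.all_eq_true.mp ten_ok u (Model.c2_mem (M.ρ_mem f hf) huc)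
  simp only [Bool.or_eq_true, Bool.not_eq_true', ← Bool.not_eq_true, Nat.beq_eq, Bool.and_eq_true, List.any_eq_true] at hu
  have ee : M.ρ (e * f) = comp T2 u := by rw [M.ρ_mul _ _ he hf, heT]
  rcases hu with (((h | h) | h) | ⟨s, hs, h⟩) | ⟨⟨h64, h64'⟩, s, hs, hsu, hs1⟩
  · exact h (by rw [hud, ← M.ρ_mul _ _ hf hf, f2, M.ρ_one])
  · exact hfJ ((M.ρ_J f hf).mp h)
  · refine hne ((M.ρ_J _ (B.In_mul he hf)).mp ?_)
    rw [ee, h, T_basic.2.2.1]
  · obtain ⟨S, hS, eS, hSa, hSb⟩ := lifts s hs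
    exact h (by rw [← eS]; exact M.comm_ρ hS hf (comS S hSa hSb))
  · obtain ⟨R, hR, eR, hRa, hRb⟩ := lifts s hs
    have hr : (fixL (M.ρ R)).length = 1 := by rw [eR]; exact hs1
    have l16 : (fixL (M.ρ e)).length = 16 := by rw [heT]; exact ten_fix.1
    have hsub : ∀ {p q : G}, B.In p → B.In q → Commute R p → (∀ j ∈ B.J, Commute j p → Commute j q) →
        (fixL (M.ρ p)).length ≤ (fixL (M.ρ q)).length := by
      intro p q hp hq hRp hpq
      refine ((fixL_nodup _).subperm fun v hv => ?_).length_le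
      obtain ⟨j, hj, hjp, rfl⟩ := M.full_lift hp hR hRp hr hv
      exact M.fix_of_comm hq hj (hpq j hj hjp).symm
    rcases hrel with ⟨rfl, rfl⟩ | ⟨rfl, rfl⟩ | ⟨rfl, rfl⟩
    · have := hsub hb ha hRb fun j hj hjb => P.le (B.Jz j hj) hjb
      rw [h64, l16] at this; omega
    · have ec : M.ρ c = comp T2 u := ee
      have := hsub hc hb (hRb.mul_right hRa) fun j hj hjc => (P.le' (B.Jz j hj) hjc).2
      rw [ec, h64', l16] at this; omega
    · have eb : M.ρ b = comp T2 u := by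
        rw [← ee]; congr 1
        rw [hcd, mul_assoc, a2, mul_one]
      have := hsub hb hc hRb fun j hj hjb => hjb.mul_right (P.le (B.Jz j hj) hjb)
      rw [eb, h64', l16] at this; omega

/-- In natural coordinates no pair of inner pulled involutions outside the core exists. -/
theorem Base.Pair.no_natural {g : G} (P : B.Pair g) (M : Model B id qf) (ha : B.In (B.pa g)) (hb : B.In (B.pb g))
    (haJ : B.pa g ∉ B.J) : False := by
  classical
  have move : ∀ {h : G}, B.In h → B.Pair (g * h⁻¹) ∧ B.pa (g * h⁻¹) = h * B.pa g * h⁻¹ ∧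
      B.pb (g * h⁻¹) = h * B.pb g * h⁻¹ := fun hh => ⟨(P.move hh).1, (P.move hh).2.1, (P.move hh).2.2.1⟩
  have out : ∀ {h : G}, B.In h → h * B.pa g * h⁻¹ ∉ B.J := fun {h} hh e => haJ (by
    simpa [mul_assoc] using B.conjJ h⁻¹ (B.In_comm hh).inv_left _ e)
  have fin : ∀ {h : G}, B.In h → (M.ρ (h * B.pa g * h⁻¹) = T2 ∨ M.ρ (h * B.pb g * h⁻¹) = T2 ∨
      M.ρ (h * (B.pb g * B.pa g) * h⁻¹) = T2) → False := fun {h} hh hT => by
    obtain ⟨P', ea, eb⟩ := move hh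
    refine P'.no_ten M (by rw [ea]; exact B.In_conj ha (B.In_comm hh)) (by rw [eb]; exact B.In_conj hb (B.In_comm hh))
      (by rw [ea]; exact out hh) ?_
    rw [ea, eb, show h * B.pb g * h⁻¹ * (h * B.pa g * h⁻¹) = h * (B.pb g * B.pa g) * h⁻¹ by group]
    exact hT
  obtain ⟨h, hh, hT | hT⟩ := M.classify hb (Base.pb_sq g) P.pb_notJ
  swap
  · exact fin hh (Or.inr (Or.inl hT))
  have ha' : B.In (h * B.pa g * h⁻¹) := B.In_conj ha (B.In_comm hh)
  have hb' : B.In (h * B.pb g * h⁻¹) := B.In_conj hb (B.In_comm hh)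
  set u := M.ρ (h * B.pa g * h⁻¹) with hu
  have huU := M.ρ_mem _ ha'
  have hcom : comp u T1 = comp T1 u := by
    rw [← hT]; exact M.comm_ρ ha' hb' (P.ab.map (MulAut.conj h).toMonoidHom)
  have h1d : app u 1 ∈ dispL T1 := by
    obtain ⟨v, hv, e⟩ := mem_dispL.mp (List.mem_of_elem_eq_true T1_disp)
    refine mem_dispL.mpr ⟨app u v, U6Rec.app_lt _ _, ?_⟩
    rw [← e, ← U6Rec.app_comp, ← hcom, U6Rec.app_comp, U6Rec.app_add]
  obtain ⟨i, j, hi, hj, eu⟩ := huU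
  have hL := List.all_eq_true.mp t1_ok i (List.mem_range.mpr hi)
  simp only [Bool.or_eq_true, Bool.not_eq_true', ← Bool.not_eq_true] at hL
  rcases hL with hL | hL
  · exact hL (List.elem_eq_true_of_mem (by rw [← U6Rec.elt_app hj, ← eu]; exact h1d))
  have hJ := List.all_eq_true.mp hL j (List.mem_range.mpr hj)
  simp only [Bool.or_eq_true, Bool.not_eq_true', ← Bool.not_eq_true, Nat.beq_eq, List.any_eq_true, Bool.and_eq_true] at hJ
  rw [← eu] at hJ
  have h2 : h * B.pa g * h⁻¹ * (h * B.pa g * h⁻¹) = 1 := by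
    rw [show h * B.pa g * h⁻¹ * (h * B.pa g * h⁻¹) = h * (B.pa g * B.pa g) * h⁻¹ by group, Base.pa_sq]; group
  have hc' : M.ρ (h * (B.pb g * B.pa g) * h⁻¹) = comp T1 u := by
    rw [show h * (B.pb g * B.pa g) * h⁻¹ = h * B.pb g * h⁻¹ * (h * B.pa g * h⁻¹) by group, M.ρ_mul _ _ hb' ha', hT]
  rcases hJ with (((hJ | hJ) | hJ) | hJ) | ⟨e, -, ⟨⟨⟨e1, e2⟩, p1⟩, p2⟩, hT2⟩
  · exact hJ hcom
  · exact hJ (by rw [← M.ρ_mul _ _ ha' ha', h2, M.ρ_one])
  · exact out hh ((M.ρ_J _ ha').mp hJ)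
  · refine absurd ?_ P.pc_notJ
    have hc1 : B.In (h * (B.pb g * B.pa g) * h⁻¹) := B.In_conj (B.In_mul hb ha) (B.In_comm hh)
    have := B.conjJ h⁻¹ (B.In_comm hh).inv_left _ ((M.ρ_J _ hc1).mp (by rw [hc', hu, hJ, T_basic.2.1]))
    simpa [mul_assoc] using this
  · obtain ⟨k, hk, ek⟩ : ∃ k, B.In k ∧ M.ρ k = elt e.2.2 :=
      M.lift (U6Rec.inU_elt (Nat.ble_eq.mp p1) (Nat.ble_eq.mp p2))
    have key : ∀ {t : G}, B.In t → comp (elt e.2.2) (M.ρ t) = comp T2 (elt e.2.2) → M.ρ (k * t * k⁻¹) = T2 := by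
      intro t ht heq
      rw [M.ρ_mul _ _ (B.In_mul hk ht) (B.In_inv hk), M.ρ_mul _ _ hk ht, ek, heq, U6Rec.comp_assoc, ← ek,
        (M.ρ_inv hk).2, inU_T2.form]
    rcases hT2 with hT2 | hT2
    · refine fin (B.In_mul hk hh) (Or.inl ?_)
      rw [show k * h * B.pa g * (k * h)⁻¹ = k * (h * B.pa g * h⁻¹) * k⁻¹ by group]
      exact key ha' hT2
    · refine fin (B.In_mul hk hh) (Or.inr (Or.inr ?_))
      rw [show k * h * (B.pb g * B.pa g) * (k * h)⁻¹ = k * (h * (B.pb g * B.pa g) * h⁻¹) * k⁻¹ by group]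
      exact key (B.In_conj (B.In_mul hb ha) (B.In_comm hh)) (by rw [hc']; exact hT2)

end CfsgLib.FiTwoType
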