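/-
With isolation on both sides the involution is isolated.
-/
import Cfsg.Agent.Lib.FiTwoType.Ten

set_option autoImplicit false
set_option maxRecDepth 100000
set_option linter.unusedVariables false
set_option linter.unusedSectionVars false
set_option linter.style.haveILetI false

namespace CfsgLib.FiTwoType

open CfsgLib.U42Act (qW bq)
open CfsgLib.SixTwoType (psi)
open U6Rec (app InU qf)

namespace Base

variable {G : Type*} [Group G] [Finite G] {X : Type*} [Group X] (B : Base G X)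

/-- An element of the core fixed modulo the centre is moved by the preimage only by the involution. -/
theorem moved {u : G} (hu : u ∈ B.J) (hfix : ∀ h, B.In h → B.Z (u⁻¹ * (h * u * h⁻¹))) {h : G} (hh : B.In h) :
    h * u * h⁻¹ = u ∨ h * u * h⁻¹ = B.z * u := by
  classical
  let M : Subgroup ↥B.H0 :=
    { carrier := {k | (k : G) * u * (k : G)⁻¹ = u ∨ (k : G) * u * (k : G)⁻¹ = B.z * u}
      one_mem' := Or.inl (by simp)
      mul_mem' := fun {a b} ha hb => by
        have az := B.In_comm a.2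
        have e : ((a * b : ↥B.H0) : G) * u * ((a * b : ↥B.H0) : G)⁻¹ =
            (a : G) * ((b : G) * u * (b : G)⁻¹) * (a : G)⁻¹ := by rw [Subgroup.coe_mul]; group
        have ez : (a : G) * (B.z * u) * (a : G)⁻¹ = B.z * ((a : G) * u * (a : G)⁻¹) := by
          rw [← mul_assoc, az.eq]; group
        show _ ∨ _
        rw [e]
        rcases hb with hb | hb <;> rw [hb]
        · exact ha
        · rcases ha with ha | ha <;> rw [ez, ha]
          · exact Or.inr rfl
          · left; rw [← mul_assoc, B.zz, one_mul]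
      inv_mem' := fun {a} ha => by
        have az := B.In_comm a.2
        show _ ∨ _
        rw [Subgroup.coe_inv, inv_inv]
        rcases ha with ha | ha
        · left
          calc (a : G)⁻¹ * u * a = (a : G)⁻¹ * ((a : G) * u * (a : G)⁻¹) * a := by rw [ha]
            _ = u := by group
        · right
          calc (a : G)⁻¹ * u * a = (a : G)⁻¹ * (B.z * (B.z * u)) * a := by rw [← mul_assoc B.z, B.zz, one_mul]
            _ = (a : G)⁻¹ * B.z * (B.z * u) * a := by group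
            _ = B.z * ((a : G)⁻¹ * ((a : G) * u * (a : G)⁻¹) * a) := by rw [ha, az.inv_left.eq]; group
            _ = B.z * u := by group }
  haveI := B.Nsimple
  have msq : ∀ n : ↥B.N, n * n ∈ M.map B.toN := fun n => by
    obtain ⟨k, rfl⟩ := B.toN_surj n
    refine ⟨k * k, Or.inl ?_, map_mul _ _ _⟩
    have hζ := hfix k k.2
    set ζ := u⁻¹ * ((k : G) * u * (k : G)⁻¹) with hζd
    have e : (k : G) * u * (k : G)⁻¹ = u * ζ := by rw [hζd]; group
    calc ((k * k : ↥B.H0) : G) * u * ((k * k : ↥B.H0) : G)⁻¹ = (k : G) * ((k : G) * u * (k : G)⁻¹) * (k : G)⁻¹ := by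
          rw [Subgroup.coe_mul]; group
      _ = (k : G) * u * (k : G)⁻¹ * ((k : G) * ζ * (k : G)⁻¹) := by conv_lhs => rw [e]
                                                                    group
      _ = u * (ζ * ζ) := by rw [e, (B.In_Z k.2 hζ).eq, mul_inv_cancel_right, mul_assoc]
      _ = u := by rw [B.Z_sq hζ, mul_one]
  have hMn : (M.map B.toN).Normal := by
    refine ⟨fun m hm n => ?_⟩
    rw [show n * m * n⁻¹ = (n * m) * (n * m) * (m⁻¹ * (n⁻¹ * n⁻¹)) by group]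
    exact mul_mem (msq _) (mul_mem (inv_mem hm) (msq _))
  rcases hMn.eq_bot_or_eq_top with h0 | h0
  · exfalso
    haveI : Fact (Nat.Prime 3) := ⟨Nat.prime_three⟩
    haveI : Finite ↥B.N := Nat.finite_of_card_ne_zero (by rw [B.cardN]; norm_num)
    obtain ⟨n, hn⟩ := exists_prime_orderOf_dvd_card' (G := ↥B.N) 3 (by rw [B.cardN]; norm_num)
    have h1 := msq n
    rw [h0, Subgroup.mem_bot] at h1
    have h2 : orderOf n ∣ 2 := orderOf_dvd_of_pow_eq_one (by rw [pow_two, h1])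
    rw [hn] at h2
    norm_num at h2
  · obtain ⟨k, hk, ek⟩ := (h0 ▸ Subgroup.mem_top _ : B.toN ⟨h, hh⟩ ∈ M.map B.toN)
    have hj : (k⁻¹ * ⟨h, hh⟩ : ↥B.H0) ∈ M := by
      have hJ := B.toN_one.mp (show B.toN (k⁻¹ * ⟨h, hh⟩) = 1 by rw [map_mul, map_inv, ek, inv_mul_cancel])
      rcases B.comm2 _ hJ u hu with e | e
      · left; rw [e.eq, mul_inv_cancel_right]
      · right; rw [e, ← mul_assoc, mul_inv_cancel_right]
    have := M.mul_mem hk hj
    rwa [mul_inv_cancel_left] at this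

/-- The fixator of such an element extends inside a subgroup meeting the centraliser in the preimage. -/
theorem extend_fix {G0 : Subgroup G} (hG0 : ∀ h, Commute h B.z → (h ∈ G0 ↔ B.In h))
    (nc : ∀ g, g * B.z * g⁻¹ ∈ B.J → g * B.z * g⁻¹ = B.z) {u : G} (hu : u ∈ B.J) (huZ : ¬ B.Z u)
    (hfix : ∀ h, B.In h → B.Z (u⁻¹ * (h * u * h⁻¹))) :
    ∃ Gu : Subgroup ↥G0, Gu.index = 2 ∧ ∀ h : ↥G0, Commute (h : G) B.z → (h ∈ Gu ↔ Commute (h : G) u) := by
  classical
  have J0 : ∀ j ∈ B.J, j ∈ G0 := fun j hj => (hG0 j (B.Jz j hj)).mpr (B.In_J hj)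
  set z0 : ↥G0 := ⟨B.z, J0 _ B.zJ⟩
  set C := Subgroup.centralizer ({z0} : Set ↥G0)
  have memC : ∀ h : ↥G0, h ∈ C ↔ Commute (h : G) B.z := fun h =>
    Subgroup.mem_centralizer_singleton_iff.trans ⟨fun e => congrArg Subtype.val e, fun e => Subtype.ext e⟩
  obtain ⟨j0, hj0, hj0u⟩ := B.noncomm hu huZ
  set K' : Subgroup ↥C := (Subgroup.centralizer ({u} : Set G)).comap (G0.subtype.comp C.subtype)
  have memK : ∀ c : ↥C, c ∈ K' ↔ Commute ((c : ↥G0) : G) u := fun c => Subgroup.mem_centralizer_singleton_iff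
  have hK' : K'.index = 2 := by
    refine Subgroup.index_eq_two_iff.mpr ⟨⟨⟨j0, J0 _ hj0⟩, (memC _).mpr (B.Jz j0 hj0)⟩, fun b => ?_⟩
    by_cases hb : b ∈ K'
    · refine Or.inr ⟨hb, fun h => hj0u ?_⟩
      have := ((memK _).mp hb).inv_left.mul_left ((memK _).mp h)
      rw [Subgroup.coe_mul, Subgroup.coe_mul, inv_mul_cancel_left] at this
      exact this.symm
    · refine Or.inl ⟨(memK _).mpr ?_, hb⟩
      have hb' := (memK b).not.mp hb
      have bIn : B.In ((b : ↥G0) : G) := (hG0 _ ((memC _).mp b.2)).mp (b : ↥G0).2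
      have e1 := (B.moved hu hfix bIn).resolve_left fun e => hb' (mul_inv_eq_iff_eq_mul.mp e)
      have e2 := (B.comm2 j0 hj0 u hu).resolve_left fun e => hj0u e.symm
      refine mul_inv_eq_iff_eq_mul.mp ?_
      show ((b : ↥G0) : G) * j0 * u * (((b : ↥G0) : G) * j0)⁻¹ = u
      calc ((b : ↥G0) : G) * j0 * u * (((b : ↥G0) : G) * j0)⁻¹
          = ((b : ↥G0) : G) * (j0 * u) * j0⁻¹ * ((b : ↥G0) : G)⁻¹ := by group
        _ = ((b : ↥G0) : G) * B.z * u * ((b : ↥G0) : G)⁻¹ := by rw [e2]; group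
        _ = B.z * (((b : ↥G0) : G) * u * ((b : ↥G0) : G)⁻¹) := by rw [(B.In_comm bIn).eq]; group
        _ = u := by rw [e1, ← mul_assoc, B.zz, one_mul]
  set E : Subgroup ↥G0 := B.J.subgroupOf G0
  let e0 : ↥E ≃* ↥B.J := Subgroup.subgroupOfEquivOfLe fun j hj => J0 j hj
  have hidx : ∀ w : ↥G0, ((Subgroup.centralizer ({w} : Set ↥G0)).subgroupOf E).index =
      ((Subgroup.centralizer ({(w : G)} : Set G)).subgroupOf B.J).index := fun w => by
    rw [← Subgroup.index_comap_of_surjective ((Subgroup.centralizer ({(w : G)} : Set G)).subgroupOf B.J)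
      (f := e0.toMonoidHom) e0.surjective]
    congr 1
    ext x
    simp only [Subgroup.mem_subgroupOf, Subgroup.mem_comap, Subgroup.mem_centralizer_singleton_iff]
    exact ⟨fun e => congrArg Subtype.val e, fun e => Subtype.ext e⟩
  obtain ⟨Gu, hi, hGu⟩ := transfer_two (G := ↥G0) (z := z0) (k := 10)
    (by rw [← Subgroup.orderOf_coe]; exact B.orderOf_z) (E := E)
    (fun j hj => (memC j).mpr (B.Jz _ hj)) B.zJ (fun g hg e he => B.conjJ _ ((memC g).mp hg) _ he)
    ((IsPGroup.of_card (n := 10) (show Nat.card B.J = 2 ^ 10 by rw [B.card]; norm_num)).of_equiv e0.symm)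
    (fun e he => (B.sq2 _ he).imp (fun h => Subtype.ext h) fun h => Subtype.ext h)
    (fun a ha b hb => (B.comm2 _ ha _ hb).imp (fun h => Subtype.ext h.eq) fun h => Subtype.ext h)
    (fun x hx => Subtype.ext (B.central_eq (g := (x : G)) fun j hj =>
      (show Commute j ((x : G) * B.z * (x : G)⁻¹) from congrArg Subtype.val (hx ⟨j, J0 j hj⟩ hj)).symm))
    (fun w hw h2 hJ => by
      rw [hidx]
      exact B.half_not ((memC w).mp hw) (congrArg Subtype.val h2) hJ)
    (fun A hA => by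
      obtain ⟨a, ha, b, hb, h⟩ := B.four (A.map e0.toMonoidHom) ((Subgroup.index_map_of_bijective (f := e0.toMonoidHom) e0.bijective A).trans hA)
      obtain ⟨a, ha, rfl⟩ := ha
      obtain ⟨b, hb, rfl⟩ := hb
      exact ⟨a, ha, b, hb, fun e => h (by rw [← map_mul, e, map_mul])⟩)
    (by rw [Nat.card_congr e0.toEquiv, B.card]; norm_num) K' hK'
    (fun x hx hne => absurd (Subtype.ext (nc (x : G) hx)) hne)
  exact ⟨Gu, hi, fun h hh => (hGu h ((memC h).mpr hh)).trans (memK _)⟩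

theorem fixed_coord : ∀ e < 2, bq (qW e) 64 128 = 1 ∧ bq (qW e) 128 64 = 1 := by decide +kernel

theorem psi_fixed {t : ℕ} (ht : InU t) : app (psi t) 64 = 64 ∧ app (psi t) 128 = 128 :=
  ⟨(SixTwoType.pw_form ⟨t, Or.inl ht⟩ 64 (by norm_num)).2.2 (by decide),
    (SixTwoType.pw_form ⟨t, Or.inl ht⟩ 128 (by norm_num)).2.2 (by decide)⟩

/-- Six plus two coordinates: two further transfers. -/
theorem no_six {ε : ℕ} (hε : ε < 2) (M : Model B psi (qW ε)) {G0 : Subgroup G} [G0.Normal]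
    (hG0 : ∀ h, Commute h B.z → (h ∈ G0 ↔ B.In h))
    (nc : ∀ g, g * B.z * g⁻¹ ∈ B.J → g * B.z * g⁻¹ = B.z) {g : G} (hg : g ∈ G0)
    (hx : Commute (g * B.z * g⁻¹) B.z) : g * B.z * g⁻¹ = B.z := by
  classical
  obtain ⟨u, hu, eu⟩ := M.co_surj 64 (by norm_num)
  obtain ⟨u', hu', eu'⟩ := M.co_surj 128 (by norm_num)
  have hfix : ∀ {w : G} {v : ℕ}, w ∈ B.J → M.co w = v → (∀ t, InU t → app (psi t) v = v) →
      ∀ h, B.In h → B.Z (w⁻¹ * (h * w * h⁻¹)) := fun {w v} hw ew hv h hh =>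
    M.co_eq (B.conjJ h (B.In_comm hh) w hw) hw (by rw [M.co_conj h hh w hw, ew]; exact hv _ (M.ρ_mem h hh))
  obtain ⟨G1, h1i, hG1⟩ := B.extend_fix hG0 nc hu
    (fun h => absurd (eu ▸ M.co_Z h) (by norm_num)) (hfix hu eu fun t ht => (psi_fixed ht).1)
  obtain ⟨G1', h1i', hG1'⟩ := B.extend_fix hG0 nc hu'
    (fun h => absurd (eu' ▸ M.co_Z h) (by norm_num)) (hfix hu' eu' fun t ht => (psi_fixed ht).2)
  haveI := Subgroup.normal_of_index_eq_two h1i
  haveI := Subgroup.normal_of_index_eq_two h1i'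
  set K : Subgroup ↥G0 := G1 ⊓ G1'
  have J0 : ∀ j ∈ B.J, j ∈ G0 := fun j hj => (hG0 j (B.Jz j hj)).mpr (B.In_J hj)
  have memK : ∀ {h : ↥G0}, Commute (h : G) B.z → (h ∈ K ↔ Commute (h : G) u ∧ Commute (h : G) u') :=
    fun {h} hh => and_congr (hG1 h hh) (hG1' h hh)
  set a : G := g⁻¹ * B.z * g with had
  have az : Commute a B.z := by
    have := hx.symm.map (MulAut.conj g⁻¹).toMonoidHom
    simpa [had, mul_assoc] using this
  set g0 : ↥G0 := ⟨g, hg⟩
  have zK : (⟨B.z, J0 _ B.zJ⟩ : ↥G0) ∈ K := (memK (Commute.refl _)).mpr ⟨(B.Jz u hu).symm, (B.Jz u' hu').symm⟩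
  have aK : g0⁻¹ * ⟨B.z, J0 _ B.zJ⟩ * g0 ∈ K := by
    simpa using (inferInstance : K.Normal).conj_mem _ zK g0⁻¹
  have au := ((memK (show Commute ((g0⁻¹ * ⟨B.z, J0 _ B.zJ⟩ * g0 : ↥G0) : G) B.z from az)).mp aK)
  -- conjugates of the two elements
  have cent : ∀ k : ↥G0, k ∈ K → Commute (k : G) a → Commute (k : G) (g⁻¹ * u * g) ∧ Commute (k : G) (g⁻¹ * u' * g) := by
    intro k hk ka
    have hz : Commute ((g0 * k * g0⁻¹ : ↥G0) : G) B.z := by
      have := ka.map (MulAut.conj g).toMonoidHom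
      simpa [g0, had, mul_assoc] using this
    obtain ⟨h1, h2⟩ := (memK hz).mp ((inferInstance : K.Normal).conj_mem _ hk g0)
    constructor
    · have := h1.map (MulAut.conj g⁻¹).toMonoidHom
      simpa [g0, mul_assoc] using this
    · have := h2.map (MulAut.conj g⁻¹).toMonoidHom
      simpa [g0, mul_assoc] using this
  set v := g⁻¹ * u * g with hv
  set v' := g⁻¹ * u' * g with hv'
  obtain ⟨zv, zv'⟩ := cent _ zK az.symm
  -- the differences
  have diff : ∀ (Gw : Subgroup ↥G0) (h : ↥G0), Gw.index = 2 → g0⁻¹ * h * g0 * h⁻¹ ∈ Gw := fun Gw h hi => by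
    haveI := Subgroup.normal_of_index_eq_two hi
    rw [Subgroup.mul_mem_iff_of_index_two hi, inv_mem_iff]
    exact ⟨fun h' => by simpa [mul_assoc] using (inferInstance : Gw.Normal).conj_mem _ h' g0,
      fun h' => by simpa using (inferInstance : Gw.Normal).conj_mem _ h' g0⁻¹⟩
  set p : ↥G0 := g0⁻¹ * ⟨u, J0 _ hu⟩ * g0 * (⟨u, J0 _ hu⟩ : ↥G0)⁻¹
  set p' : ↥G0 := g0⁻¹ * ⟨u', J0 _ hu'⟩ * g0 * (⟨u', J0 _ hu'⟩ : ↥G0)⁻¹
  have pK : p ∈ K := ⟨diff G1 _ h1i, diff G1' _ h1i'⟩
  have p'K : p' ∈ K := ⟨diff G1 _ h1i, diff G1' _ h1i'⟩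
  have ep : (p : G) = v * u⁻¹ := rfl
  have ep' : (p' : G) = v' * u'⁻¹ := rfl
  have pz : Commute (p : G) B.z := by rw [ep]; exact zv.symm.mul_left (B.Jz u hu).inv_left
  have p'z : Commute (p' : G) B.z := by rw [ep']; exact zv'.symm.mul_left (B.Jz u' hu').inv_left
  obtain ⟨pu, pu'⟩ := (memK pz).mp pK
  obtain ⟨p'u, p'u'⟩ := (memK p'z).mp p'K
  have va : Commute v a := by
    have := (B.Jz u hu).map (MulAut.conj g⁻¹).toMonoidHom
    simpa [hv, had, mul_assoc] using this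
  have va' : Commute v' a := by
    have := (B.Jz u' hu').map (MulAut.conj g⁻¹).toMonoidHom
    simpa [hv', had, mul_assoc] using this
  have p'a : Commute (p' : G) a := by rw [ep']; exact va'.mul_left au.2.symm.inv_left
  have pp : Commute (p' : G) p := by
    rw [ep]
    exact (cent p' p'K p'a).1.mul_right p'u.inv_right
  have ev : v = p * u := by rw [ep, inv_mul_cancel_right]
  have ev' : v' = p' * u' := by rw [ep', inv_mul_cancel_right]
  have huv : u * u' = B.z * (u' * u) := (B.comm2 u hu u' hu').resolve_left fun h => by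
    have := (M.comm u hu u' hu').mp h
    rw [eu, eu', (fixed_coord ε hε).1] at this
    exact one_ne_zero this
  have e1 : v * v' = a * (v' * v) := by
    calc v * v' = g⁻¹ * (u * u') * g := by rw [hv, hv']; group
      _ = _ := by rw [huv, hv, hv', had]; group
  have e2 : v * v' = B.z * (v' * v) := by
    rw [ev, ev']
    calc (p : G) * u * ((p' : G) * u') = p * (u * p') * u' := by group
      _ = p * p' * (u * u') := by rw [← p'u.eq]; group
      _ = p * p' * B.z * (u' * u) := by rw [huv]; group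
      _ = B.z * (p * p') * (u' * u) := by rw [(pz.mul_left p'z).eq]
      _ = B.z * (p' * p * u' * u) := by rw [pp.eq]; group
      _ = B.z * (p' * (p * u') * u) := by group
      _ = _ := by rw [pu'.eq]; group
  have e3 : a = B.z := mul_right_cancel (e1.symm.trans e2)
  calc g * B.z * g⁻¹ = g * a * g⁻¹ := by rw [e3]
    _ = B.z := by rw [had]; group

variable {F : Type*} [Field F] [Fintype F]

/-- With isolation on both sides the involution is isolated. -/
theorem isolated (hF : Fintype.card F = 3) (eN : Cfsg.PSp 2 F ≃* ↥B.N) (hI : B.Iso) (hI' : B.flip.Iso) (g : G)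
    (hg : Commute (g * B.z * g⁻¹) B.z) : g * B.z * g⁻¹ = B.z := by
  classical
  have hmod := B.models hF eN
  have nc : ∀ g, g * B.z * g⁻¹ ∈ B.J → g * B.z * g⁻¹ = B.z := fun g hx => by
    rcases hmod with ⟨⟨M⟩⟩ | ⟨ε, hε, ⟨M⟩⟩
    · exact B.no_conj M root_nat other_nat hI hI' g hx
    · interval_cases ε
      · exact B.no_conj M root_six.1 other_six.1 hI hI' g hx
      · exact B.no_conj M root_six.2 other_six.2 hI hI' g hx
  obtain ⟨G0, hi, hG0⟩ := B.extend_N fun g h1 h2 => absurd (nc g h1) h2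
  haveI : G0.Normal := Subgroup.normal_of_index_eq_two hi
  obtain ⟨g1, hg1, eg⟩ : ∃ g1 ∈ G0, g1 * B.z * g1⁻¹ = g * B.z * g⁻¹ := by
    by_cases h : g ∈ G0
    · exact ⟨g, h, rfl⟩
    · obtain ⟨h1, hh1, nh1⟩ := B.exists_outer
      refine ⟨g * h1, (Subgroup.mul_mem_iff_of_index_two hi).mpr (iff_of_false h fun e => nh1 ((hG0 h1 hh1).mp e)), ?_⟩
      rw [show g * h1 * B.z * (g * h1)⁻¹ = g * (h1 * B.z * h1⁻¹) * g⁻¹ by group, hh1.eq, mul_inv_cancel_right]
  rw [← eg] at hg ⊢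
  rcases hmod with ⟨⟨M⟩⟩ | ⟨ε, hε, ⟨M⟩⟩
  swap
  · exact B.no_six hε M hG0 nc hg1 hg
  by_contra hne
  have zG : B.z ∈ G0 := (hG0 _ (Commute.refl _)).mpr (B.In_J B.zJ)
  have dG : B.d ∈ G0 := (hG0 _ B.dz_comm).mpr (B.In_J B.dJ)
  have hd : Commute (g1 * B.z * g1⁻¹) B.d := B.In_d ((hG0 _ hg).mp (mul_mem (mul_mem hg1 zG) (inv_mem hg1)))
  have P : B.Pair g1 := ⟨hI, hI', hg, hd, hne⟩
  refine P.no_natural M ((hG0 _ P.az).mp (mul_mem (mul_mem (inv_mem hg1) zG) hg1))
    ((hG0 _ P.bz).mp (mul_mem (mul_mem (inv_mem hg1) dG) hg1)) fun hJ => hne ?_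
  have h := nc g1⁻¹ (by rw [inv_inv]; exact hJ)
  rw [inv_inv] at h
  calc g1 * B.z * g1⁻¹ = g1 * (g1⁻¹ * B.z * g1) * g1⁻¹ := by rw [h]
    _ = B.z := by group

end Base

end CfsgLib.FiTwoType
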