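/-
The centraliser moves the second involution and the first is not isolated beside it: the Fischer group.
-/
import Cfsg.Agent.Lib.FiTwoType.Cover
import Cfsg.Agent.Lib.FiTwoType.Split

set_option autoImplicit false
set_option maxRecDepth 100000
set_option linter.unusedVariables false
set_option linter.unusedSectionVars false
set_option linter.style.haveILetI false

namespace CfsgLib.FiTwoType

open U6Rec (qf)

namespace Base

variable {G : Type*} [Group G] [Finite G] {X : Type*} [Group X] (B : Base G X)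
variable {F : Type*} [Field F] [Fintype F] {K : Type} [Field K] [Fintype K]

/-- The preimage is the product of its derived group and the core. -/
theorem comm_mul_core {x : G} (hx : B.In x) : ∃ c ∈ ⁅B.H0, B.H0⁆, c⁻¹ * x ∈ B.J := by
  classical
  haveI := B.Nsimple
  have hN : commutator ↥B.N = ⊤ := by
    rcases (inferInstance : (commutator ↥B.N).Normal).eq_bot_or_eq_top with h | h
    · exfalso
      letI : CommGroup ↥B.N :=
        { (inferInstance : Group ↥B.N) with
          mul_comm := fun a b => by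
            have := Subgroup.commutator_mem_commutator (Subgroup.mem_top a) (Subgroup.mem_top b)
            rw [← _root_.commutator_def, h, Subgroup.mem_bot, commutatorElement_eq_one_iff_mul_comm] at this
            exact this }
      haveI : Finite ↥B.N := Nat.finite_of_card_ne_zero (by rw [B.cardN]; norm_num)
      have hp := IsSimpleGroup.prime_card (α := ↥B.N)
      rw [B.cardN] at hp
      norm_num at hp
    · exact h
  have hmem : B.toN ⟨x, hx⟩ ∈ (commutator ↥B.H0).map B.toN := by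
    rw [_root_.commutator_def, Subgroup.map_commutator, Subgroup.map_top_of_surjective _ B.toN_surj,
      ← _root_.commutator_def, hN]
    exact Subgroup.mem_top _
  obtain ⟨c, hc, ec⟩ := hmem
  refine ⟨c, ?_, B.toN_one.mp (show B.toN (c⁻¹ * ⟨x, hx⟩) = 1 by rw [map_mul, map_inv, ec, inv_mul_cancel])⟩
  rw [← Subgroup.map_subtype_commutator]
  exact ⟨c, hc, rfl⟩

/-- With a non-isolated first involution and a moved second one, the group is the Fischer group. -/
theorem case_B (hF : Fintype.card F = 3) (hK : Fintype.card K = 4) (eN : Cfsg.PSp 2 F ≃* ↥B.N)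
    (hB : ∀ h, Commute h B.z → Commute h B.d → B.In h) (hI : ¬ B.Iso) : Nonempty (G ≃* Cfsg.Spor.Fi22) := by
  classical
  rcases B.six_B hF hK eN hB with h | hcov
  · exact absurd h hI
  have hdL : B.d ∈ B.L := B.mem_L.mpr (Commute.refl _)
  have InL : ∀ h, B.In h → h ∈ B.L := fun h hh => B.mem_L.mpr (B.In_d hh)
  obtain ⟨h0, h0z, h0n⟩ := B.exists_outer
  have h0d : h0 * B.d * h0⁻¹ = B.d * B.z :=
    (B.dperm h0z).resolve_left fun e => h0n (hB h0 h0z (mul_inv_eq_iff_eq_mul.mp e))
  rcases cover_split hK hcov hdL with hperf | ⟨hdU, hsplit, hUU, hUc⟩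
  · obtain ⟨ψ, hs, hk⟩ := hcov
    refine fi22_of_cover (d := B.d) B.d1 B.dd hK ψ hs hk hperf ⟨h0, ?_, ?_⟩
    · rw [h0d]; exact (Commute.refl _).mul_left B.dz_comm.symm
    · rw [h0d]; exact B.dz_ne_d
  exfalso
  obtain ⟨M⟩ := B.model_moved hF eN hB hI
  set U := ⁅B.L, B.L⁆ with hU
  have UL : U ≤ B.L := Subgroup.commutator_le_self B.L
  have H0L : B.H0 ≤ B.L := fun h hh => InL h hh
  have cU : ∀ c ∈ ⁅B.H0, B.H0⁆, c ∈ U := fun c hc => Subgroup.commutator_mono H0L H0L hc
  have zU : B.z ∈ U := by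
    obtain ⟨u, hu, v, hv, e⟩ := B.big_nonab B.J le_rfl (by rw [B.card]; norm_num)
    rw [show B.z = u * v * u⁻¹ * v⁻¹ by rw [e]; group]
    exact Subgroup.commutator_mem_commutator (B.J_L hu) (B.J_L hv)
  have hzU : ∀ {ζ : G}, B.Z ζ → ∀ h, Commute h B.z → (ζ ∈ U ↔ h * ζ * h⁻¹ ∈ U) := by
    have dzU : B.d * B.z ∉ U := fun h => hdU (by
      have := mul_mem h zU
      rwa [mul_assoc, B.zz, mul_one] at this)
    intro ζ hζ h hh
    have e1 : h * B.z * h⁻¹ = B.z := by rw [hh.eq, mul_inv_cancel_right]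
    rcases hζ with rfl | rfl | rfl | rfl
    · simp
    · rw [e1]
    · rcases B.dperm hh with e | e <;> rw [e]
      exact iff_of_false hdU dzU
    · rw [show h * (B.d * B.z) * h⁻¹ = h * B.d * h⁻¹ * (h * B.z * h⁻¹) by group, e1]
      rcases B.dperm hh with e | e <;> rw [e]
      rw [mul_assoc, B.zz, mul_one]
      exact iff_of_false dzU hdU
  -- membership in the derived group of the cover is a homomorphism on the preimage
  have hmul : ∀ a b, B.In a → B.In b → (a * b ∈ U ↔ (a ∈ U ↔ b ∈ U)) := by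
    have hi : (U.subgroupOf B.H0).index = 2 := Subgroup.index_eq_two_iff.mpr ⟨⟨B.d, B.In_J B.dJ⟩, fun c => by
      by_cases h : (c : G) ∈ U
      · refine Or.inr ⟨h, fun h' => hdU ?_⟩
        have := mul_mem (inv_mem h) (show (c : G) * B.d ∈ U from h')
        rwa [inv_mul_cancel_left] at this
      · exact Or.inl ⟨(hsplit c (InL c c.2)).resolve_left h, h⟩⟩
    exact fun a b ha hb => Subgroup.mul_mem_iff_of_index_two hi (a := ⟨a, ha⟩) (b := ⟨b, hb⟩)
  have hinv : ∀ h x, Commute h B.z → B.In x → x ∈ U → h * x * h⁻¹ ∈ U := by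
    intro h x hh hx hxU
    have cinv : ∀ c ∈ ⁅B.H0, B.H0⁆, h * c * h⁻¹ ∈ U := fun c hc => cU _ (by
      have hle : B.H0.map (MulAut.conj h).toMonoidHom ≤ B.H0 := by
        rintro _ ⟨a, ha, rfl⟩; exact B.In_conj ha hh
      have h' : ⁅B.H0, B.H0⁆.map (MulAut.conj h).toMonoidHom ≤ ⁅B.H0, B.H0⁆ := by
        rw [Subgroup.map_commutator]; exact Subgroup.commutator_mono hle hle
      exact h' ⟨c, hc, rfl⟩)
    have cIn : ∀ c ∈ ⁅B.H0, B.H0⁆, B.In c := fun c hc => Subgroup.commutator_le_self B.H0 hc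
    have step : ∀ c ∈ ⁅B.H0, B.H0⁆, ∀ y, B.In y → ((y ∈ U) ↔ (h * y * h⁻¹ ∈ U)) →
        ((c * y ∈ U) ↔ (h * (c * y) * h⁻¹ ∈ U)) := by
      intro c hc y hy e
      rw [hmul c y (cIn c hc) hy, show h * (c * y) * h⁻¹ = h * c * h⁻¹ * (h * y * h⁻¹) by group,
        hmul _ _ (B.In_conj (cIn c hc) hh) (B.In_conj hy hh), iff_true_left (cU c hc), iff_true_left (cinv c hc)]
      exact e
    obtain ⟨c, hc, hj⟩ := B.comm_mul_core hx
    obtain ⟨c', hc', hζ⟩ := B.comm_center M hj
    have e2 := step c' hc' _ (B.In_J (B.Z_J hζ)) (hzU hζ h hh)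
    rw [mul_inv_cancel_left] at e2
    have e3 := step c hc _ (B.In_J hj) e2
    rw [mul_inv_cancel_left] at e3
    exact e3.mp hxU
  set G2 := commutator G with hG2
  haveI : G2.Normal := by rw [hG2]; infer_instance
  have UG : U ≤ G2 := by rw [hG2, _root_.commutator_def]; exact Subgroup.commutator_mono le_top le_top
  have hd2 : B.d ∉ G2 := B.d_not_comm hdU (fun h hh => hsplit h (InL h hh)) hinv
  rcases B.sub_split hF hK eN (UG zU) hd2 (fun h hh => (hsplit h (InL h hh)).imp (fun h => UG h) fun h => UG h) with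
    h | ⟨G3, hG3, ⟨e⟩, hcomm, -⟩
  · refine hI fun k hk hc => ?_
    rcases hsplit k (B.mem_L.mpr hk) with h' | h'
    · exact h k (UG h') hc
    · have e1 : k * B.d * B.z * (k * B.d)⁻¹ = k * B.z * k⁻¹ := by
        rw [show k * B.d * B.z * (k * B.d)⁻¹ = k * (B.d * B.z * B.d⁻¹) * k⁻¹ by group, B.dz_comm.eq,
          mul_inv_cancel_right]
      have := h _ (UG h') (by rw [e1]; exact hc)
      rwa [e1] at this
  -- the derived group of the derived group
  have hle : ⁅G2, G2⁆ ≤ G3 := by
    rw [Subgroup.commutator_le]; exact hcomm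
  have hU2 : U ≤ ⁅G2, G2⁆ := hUU ▸ Subgroup.commutator_mono UG UG
  have hU3 : U = G3 := Subgroup.eq_of_le_of_card_ge (hU2.trans hle) (by
    rw [hUc, Nat.card_congr e.toEquiv, (psu_facts hK).2.1])
  have heq : U = ⁅G2, G2⁆ := le_antisymm hU2 (hU3 ▸ hle)
  have hcz : U ≤ Subgroup.centralizer ({B.z} : Set G) := by
    intro x hx
    have hx' : h0⁻¹ * x * h0 ∈ U := by
      rw [heq] at hx ⊢
      simpa using (inferInstance : (⁅G2, G2⁆).Normal).conj_mem x hx h0⁻¹
    have h1 := (B.mem_L.mp (UL hx')).map (MulAut.conj h0).toMonoidHom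
    have h2 : Commute x (B.d * B.z) := by
      rw [← h0d]
      simpa [mul_assoc] using h1
    have h3 := (B.mem_L.mp (UL hx)).mul_right h2
    rw [← mul_assoc, B.dd, one_mul] at h3
    exact B.mem_C.mpr h3
  have := Subgroup.card_le_of_le hcz
  rw [hUc, B.card_C] at this
  omega

end Base

end CfsgLib.FiTwoType
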